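/-
Area PhanAmalgam: the automorphisms of `SL₂` over a finite field, and extension of field automorphisms.
-/
import Cfsg.Agent.Lib.AutPSL.Group
import Cfsg.Agent.Lib.GL.Basic

set_option autoImplicit false

open Matrix
open scoped MatrixGroups

namespace Cfsg.Agent.PhanAmalgam

variable {K : Type*} [Field K]

/-- The matrix `[[0,1],[-1,0]]`. -/
def jGL : GL (Fin 2) K :=
  Matrix.GeneralLinearGroup.mkOfDetNeZero !![0, 1; -1, 0] (by simp [Matrix.det_fin_two])

theorem jGL_val : (jGL (K := K)).val = !![0, 1; -1, 0] := rfl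

theorem jGL_inv_val : ((jGL (K := K))⁻¹ : GL (Fin 2) K).val = !![0, -1; 1, 0] :=
  Units.inv_eq_of_mul_eq_one_right (by
    ext i j
    fin_cases i <;> fin_cases j <;> simp [jGL_val, Matrix.mul_apply, Fin.sum_univ_two])

theorem invT_eq_conj (s : Matrix.SpecialLinearGroup (Fin 2) K) :
    AutPSL.invT s = AutPSL.conjSL jGL s := by
  refine Subtype.ext ?_
  rw [AutPSL.invT_coe, AutPSL.conjSL_coe, Matrix.SpecialLinearGroup.coe_inv, Matrix.adjugate_fin_two, jGL_val,
    jGL_inv_val]
  ext i j
  fin_cases i <;> fin_cases j <;> simp [Matrix.mul_apply, Matrix.vecMul, dotProduct, Fin.sum_univ_two]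

variable [Fintype K]

/-- A homomorphism of `SL₂` into its centre is trivial. -/
theorem hom_center_eq_one
    (χ : Matrix.SpecialLinearGroup (Fin 2) K →* Matrix.SpecialLinearGroup (Fin 2) K)
    (hχ : ∀ y, χ y ∈ Subgroup.center (Matrix.SpecialLinearGroup (Fin 2) K))
    (y : Matrix.SpecialLinearGroup (Fin 2) K) : χ y = 1 := by
  obtain ⟨p, hp⟩ := CharP.exists K
  have hpp : p.Prime := (CharP.char_is_prime K p)
  haveI := Fact.mk hpp
  refine GL.SL_induction (fun s => χ s = 1) (map_one χ) (fun i j hij c => ?_)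
    (fun A B hA hB => by rw [map_mul, hA, hB, one_mul]) y
  have hpow : Matrix.SpecialLinearGroup.transvection hij c ^ p = 1 := by
    have h : ∀ k : ℕ, Matrix.SpecialLinearGroup.transvection hij c ^ k =
        Matrix.SpecialLinearGroup.transvection hij ((k : K) * c) := by
      intro k
      induction k with
      | zero => simp [Matrix.SpecialLinearGroup.transvection_coeff_zero]
      | succ k ih =>
        rw [pow_succ, ih]
        refine Subtype.ext ?_
        rw [Nat.cast_succ, add_mul, one_mul, Matrix.SpecialLinearGroup.coe_mul]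
        exact Matrix.transvection_mul_transvection_same _ _ hij _ _
    rw [h, CharP.cast_eq_zero, zero_mul, Matrix.SpecialLinearGroup.transvection_coeff_zero]
  obtain ⟨r, -, hr⟩ := Matrix.SpecialLinearGroup.mem_center_iff.1 (hχ (.transvection hij c))
  have h1 := congrArg χ hpow
  rw [map_pow, map_one] at h1
  rw [← map_pow] at h1
  have h2 : r ^ p = 1 := by
    have := congrArg (fun s : Matrix.SpecialLinearGroup (Fin 2) K => s.1 0 0) h1
    rw [map_pow] at this
    simp only [Matrix.SpecialLinearGroup.coe_pow] at this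
    rw [← hr, ← map_pow] at this
    simp only [Matrix.scalar_apply, Matrix.diagonal_apply_eq,
      Matrix.SpecialLinearGroup.coe_one, Matrix.one_apply_eq] at this
    exact this
  have h3 : r = 1 := by
    refine sub_eq_zero.1 (pow_eq_zero_iff hpp.ne_zero |>.1 ?_)
    rw [sub_pow_char, h2, one_pow, sub_self]
  exact Subtype.ext (by rw [← hr, h3, map_one, Matrix.SpecialLinearGroup.coe_one])

/-- Automorphisms of `SL₂` are semilinear conjugations. -/
theorem aut_SL2 (θ : MulAut (Matrix.SpecialLinearGroup (Fin 2) K)) :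
    ∃ (g : GL (Fin 2) K) (τ : K ≃+* K), ∀ y : Matrix.SpecialLinearGroup (Fin 2) K,
      (θ y).1 = g.val * y.1.map τ * (g⁻¹ : GL (Fin 2) K).val := by
  classical
  obtain ⟨g, τ, γ, hγ, h⟩ := AutPSL.exists_decomposition (m := 1) le_rfl (AutPSL.autQ θ)
  obtain ⟨J, hJ⟩ : ∃ J : GL (Fin 2) K, γ = AutPSL.autQ (AutPSL.conjSL J) := by
    rcases hγ with rfl | rfl
    · exact ⟨1, by rw [map_one, map_one]⟩
    · exact ⟨jGL, congrArg AutPSL.autQ (MulEquiv.ext invT_eq_conj)⟩
  set e : MulAut (Matrix.SpecialLinearGroup (Fin 2) K) := AutPSL.conjSL g * AutPSL.fieldSL τ * AutPSL.conjSL J with he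
  have hQ : AutPSL.autQ θ = AutPSL.autQ e := by
    rw [h, hJ, he, map_mul, map_mul]
    rfl
  have hc : ∀ y, θ y * (e y)⁻¹ ∈ Subgroup.center (Matrix.SpecialLinearGroup (Fin 2) K) := fun y => by
    have e1 := DFunLike.congr_fun hQ (QuotientGroup.mk y)
    rw [AutPSL.autQ_mk, AutPSL.autQ_mk] at e1
    have e2 := Subgroup.Normal.mem_comm inferInstance (QuotientGroup.eq.1 e1.symm)
    exact e2
  let χ : Matrix.SpecialLinearGroup (Fin 2) K →* Matrix.SpecialLinearGroup (Fin 2) K :=
    { toFun := fun y => θ y * (e y)⁻¹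
      map_one' := by simp
      map_mul' := fun a b => by
        rw [map_mul, map_mul, _root_.mul_inv_rev, mul_assoc (θ a) (θ b), ← mul_assoc (θ b),
          ← Subgroup.mem_center_iff.1 (hc b) (e a)⁻¹, mul_assoc] }
  refine ⟨g * FieldExt.glMap τ J, τ, fun y => ?_⟩
  have h1 : θ y = e y := mul_inv_eq_one.1 (hom_center_eq_one χ hc y)
  rw [h1, he, MulAut.mul_apply, MulAut.mul_apply, AutPSL.conjSL_coe, AutPSL.fieldSL_coe, AutPSL.conjSL_coe,
    Matrix.map_mul, Matrix.map_mul, _root_.mul_inv_rev, Units.val_mul, Units.val_mul, ← map_inv, FieldExt.glMap_val,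
    FieldExt.glMap_val]
  simp only [Matrix.mul_assoc]

/-- An automorphism of a subfield of a finite field extends to the field. -/
theorem exists_aut_ext {F : Type*} [Field F] [Finite F] (ι : K →+* F) (τ : K ≃+* K) :
    ∃ τ' : F ≃+* F, ∀ x, τ' (ι x) = ι (τ x) := by
  obtain ⟨p, hp⟩ := CharP.exists K
  haveI := Fact.mk (CharP.char_is_prime K p)
  haveI : CharP F p := charP_of_injective_ringHom ι.injective p
  letI := ZMod.algebra K p
  let τa : K ≃ₐ[ZMod p] K :=
    AlgEquiv.ofRingEquiv (f := τ) fun x => RingHom.congr_fun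
      (Subsingleton.elim (τ.toRingHom.comp (algebraMap (ZMod p) K)) (algebraMap (ZMod p) K)) x
  obtain ⟨k, hk⟩ := (FiniteField.bijective_frobeniusAlgEquivOfAlgebraic_pow (ZMod p) K).2 τa
  refine ⟨iterateFrobeniusEquiv F p k, fun x => ?_⟩
  have e := DFunLike.congr_fun hk x
  simp only [AlgEquiv.coe_pow, FiniteField.coe_frobeniusAlgEquivOfAlgebraic_iterate, ZMod.card] at e
  rw [iterateFrobeniusEquiv_def, ← map_pow, e]
  rfl

end Cfsg.Agent.PhanAmalgam
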