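/-
Area PhanAmalgam: the data of the inductive step and existence of units with prescribed orthogonality and
prescribed inner products.
-/
import Cfsg.Agent.Lib.PhanAmalgam.Basic

set_option autoImplicit false

namespace Cfsg.Agent.PhanAmalgam

open Cfsg.Agent.ClassicalSimple

variable {F V H : Type*} [Field F] [AddCommGroup V] [Module F V] {σ : F →+* F} [Group H]

/-- The orthogonal of a set. -/
def orth (h : V →ₛₗ[σ] V →ₗ[F] F) (C : Set V) : Submodule F V where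
  carrier := {v | ∀ c ∈ C, h c v = 0}
  zero_mem' c _ := map_zero _
  add_mem' ha hb c hc := by simp [ha c hc, hb c hc]
  smul_mem' a v hv c hc := by simp [hv c hc]

theorem mem_orth {h : V →ₛₗ[σ] V →ₗ[F] F} {C : Set V} {v : V} : v ∈ orth h C ↔ ∀ c ∈ C, h c v = 0 := Iff.rfl

/-- The elements fixing `C` and all vectors of `orth C` orthogonal to `a` and `b`. -/
def fixPerp (h : V →ₛₗ[σ] V →ₗ[F] F) (C : Set V) (a b : V) : Subgroup (SUH h) :=
  fix h (C ∪ {x | x ∈ orth h C ∧ h a x = 0 ∧ h b x = 0})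

/-- The fixed field has at least four elements. -/
class Wide (σ : F →+* F) : Prop where
  avoid : ∀ a b : F, ∃ c : F, σ c = c ∧ c ≠ 0 ∧ c ≠ a ∧ c ≠ b

/-- The data of the inductive step: homomorphisms on the stabilisers of `e` and of `z`. -/
structure Data (h : V →ₛₗ[σ] V →ₗ[F] F) (H : Type*) [Group H] where
  hh : IsUnitaryForm σ h
  C : Set V
  e : V
  e1 : V
  y : V
  z : V
  he : e ∈ orth h C
  he1 : e1 ∈ orth h C
  hy : y ∈ orth h C
  hz : z ∈ orth h C
  nee : h e e = 1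
  ne11 : h e1 e1 = 1
  nyy : h y y = 1
  nzz : h z z = 1
  oe1 : h e e1 = 0
  oey : h e y = 0
  oez : h e z = 0
  o1y : h e1 y = 0
  o1z : h e1 z = 0
  oyz : h y z = 0
  nd : ∀ v ∈ orth h C, v ≠ 0 → ∃ x ∈ orth h C, h v x ≠ 0
  span : ∀ g : SUH h, (∀ c ∈ C, g • c = c) → (∀ v ∈ orth h C, g • v = v) → g = 1
  R : SUH h → H
  L : SUH h → H
  R_mul : ∀ a ∈ fix h (C ∪ {e}), ∀ b ∈ fix h (C ∪ {e}), R (a * b) = R a * R b
  L_mul : ∀ a ∈ fix h (C ∪ {z}), ∀ b ∈ fix h (C ∪ {z}), L (a * b) = L a * L b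
  agree : ∀ g ∈ fix h (C ∪ {e, z}), R g = L g
  comm1 : ∀ g ∈ fixPerp h C e e1, ∀ k ∈ fix h (C ∪ {e, e1}), Commute (L g) (R k)
  comm2 : ∀ g ∈ fixPerp h C y z, ∀ k ∈ fix h (C ∪ {y, z}), Commute (R g) (L k)

namespace Data

variable {h : V →ₛₗ[σ] V →ₗ[F] F} (D : Data h H)

include D in
theorem sw {a b : V} (e : h a b = 0) : h b a = 0 := D.hh.comm_zero e

theorem e_ne : D.e ≠ 0 := fun e => by simpa [e] using D.nee

/-- The vectors of norm one of the space. -/
def Unit₁ (v : V) : Prop := v ∈ orth h D.C ∧ h v v = 1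

theorem unit_e : D.Unit₁ D.e := ⟨D.he, D.nee⟩
theorem unit_e1 : D.Unit₁ D.e1 := ⟨D.he1, D.ne11⟩
theorem unit_y : D.Unit₁ D.y := ⟨D.hy, D.nyy⟩
theorem unit_z : D.Unit₁ D.z := ⟨D.hz, D.nzz⟩

/-- Zero or a unit. -/
def Unit₀ (v : V) : Prop := v = 0 ∨ D.Unit₁ v

theorem Unit₁.zero_or {v : V} (hv : D.Unit₁ v) : D.Unit₀ v := Or.inr hv

theorem unit₀_zero : D.Unit₀ 0 := Or.inl rfl

theorem smul_orth {g : SUH h} (hg : ∀ c ∈ D.C, g • c = c) {v : V} (hv : v ∈ orth h D.C) : g • v ∈ orth h D.C :=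
  fun c hc => by rw [← hg c hc, su_form]; exact hv c hc

theorem smul_unit {g : SUH h} (hg : ∀ c ∈ D.C, g • c = c) {v : V} (hv : D.Unit₁ v) : D.Unit₁ (g • v) :=
  ⟨D.smul_orth hg hv.1, by rw [su_form]; exact hv.2⟩

theorem exists_perp_three (p1 p2 p3 : V) :
    ∃ x ∈ orth h D.C, x ≠ 0 ∧ h p1 x = 0 ∧ h p2 x = 0 ∧ h p3 x = 0 := by
  let comb : (Fin 4 → F) →ₗ[F] V :=
    (LinearMap.proj 0).smulRight D.e + (LinearMap.proj 1).smulRight D.e1 + (LinearMap.proj 2).smulRight D.y +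
      (LinearMap.proj 3).smulRight D.z
  let Φ : (Fin 4 → F) →ₗ[F] (Fin 3 → F) :=
    LinearMap.pi fun i => (h (![p1, p2, p3] i)).comp comb
  have hni : ¬ Function.Injective Φ := fun hi => by
    have := LinearMap.finrank_le_finrank_of_injective hi
    simp at this
  rw [injective_iff_map_eq_zero] at hni
  push Not at hni
  obtain ⟨a, ha, ha0⟩ := hni
  have hval : comb a = a 0 • D.e + a 1 • D.e1 + a 2 • D.y + a 3 • D.z := by simp [comb]
  refine ⟨comb a, ?_, fun h0 => ha0 ?_, ?_, ?_, ?_⟩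
  · rw [hval]
    exact add_mem (add_mem (add_mem (Submodule.smul_mem _ _ D.he) (Submodule.smul_mem _ _ D.he1))
      (Submodule.smul_mem _ _ D.hy)) (Submodule.smul_mem _ _ D.hz)
  · rw [hval] at h0
    funext i
    fin_cases i
    · simpa [D.nee, D.oe1, D.oey, D.oez] using congrArg (h D.e) h0
    · simpa [D.ne11, D.sw D.oe1, D.o1y, D.o1z] using congrArg (h D.e1) h0
    · simpa [D.nyy, D.sw D.oey, D.sw D.o1y, D.oyz] using congrArg (h D.y) h0
    · simpa [D.nzz, D.sw D.oez, D.sw D.o1z, D.sw D.oyz] using congrArg (h D.z) h0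
  · simpa [Φ] using congrFun ha 0
  · simpa [Φ] using congrFun ha 1
  · simpa [Φ] using congrFun ha 2

theorem proj_eq {p : V} (hp : D.Unit₀ p) (x : V) : h p (x - h p x • p) = 0 := by
  rcases hp with rfl | hp
  · simp
  · simp [hp.2]

theorem unit₀_mem {p : V} (hp : D.Unit₀ p) : p ∈ orth h D.C := by
  rcases hp with rfl | hp
  exacts [Submodule.zero_mem _, hp.1]

variable [Finite F]

/-- A unit orthogonal to three given pairwise orthogonal vectors, each zero or a unit. -/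
theorem exists_unit_perp {p1 p2 p3 : V} (h1 : D.Unit₀ p1) (h2 : D.Unit₀ p2) (h3 : D.Unit₀ p3) (h12 : h p1 p2 = 0)
    (h13 : h p1 p3 = 0) (h23 : h p2 p3 = 0) :
    ∃ u, D.Unit₁ u ∧ h p1 u = 0 ∧ h p2 u = 0 ∧ h p3 u = 0 := by
  obtain ⟨x, hx, hx0, hx1, hx2, hx3⟩ := D.exists_perp_three p1 p2 p3
  obtain ⟨t, ht, hxt⟩ := D.nd x hx hx0
  set t' := t - h p1 t • p1 - h p2 t • p2 - h p3 t • p3 with ht'
  let Dsub : Submodule F V := orth h (D.C ∪ {p1, p2, p3})
  have mem : ∀ v, v ∈ orth h D.C → h p1 v = 0 → h p2 v = 0 → h p3 v = 0 → v ∈ Dsub := fun v a b c d => by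
    rintro w (hw | rfl | rfl | rfl)
    exacts [a w hw, b, c, d]
  have htm : t' ∈ orth h D.C := sub_mem (sub_mem (sub_mem ht (Submodule.smul_mem _ _ (D.unit₀_mem h1)))
    (Submodule.smul_mem _ _ (D.unit₀_mem h2))) (Submodule.smul_mem _ _ (D.unit₀_mem h3))
  have e1 : h p1 t' = 0 := by
    rcases h1 with rfl | h1
    · simp
    · simp [ht', h1.2, h12, h13]
  have e2 : h p2 t' = 0 := by
    rcases h2 with rfl | h2
    · simp
    · simp [ht', h2.2, D.sw h12, h23]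
  have e3 : h p3 t' = 0 := by
    rcases h3 with rfl | h3
    · simp
    · simp [ht', h3.2, D.sw h13, D.sw h23]
  have hne : h x t' ≠ 0 := by
    simpa [ht', D.sw hx1, D.sw hx2, D.sw hx3] using hxt
  obtain ⟨u, hu, huu⟩ :=
    exists_unit_of_pair D.hh Dsub (mem x hx hx1 hx2 hx3) (mem t' htm e1 e2 e3) hne
  exact ⟨u, ⟨fun c hc => hu c (Or.inl hc), huu⟩, hu _ (Or.inr (Or.inl rfl)), hu _ (Or.inr (Or.inr (Or.inl rfl))),
    hu _ (Or.inr (Or.inr (Or.inr rfl)))⟩

/-- The normalisation of an anisotropic vector. -/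
theorem exists_normalise {x : V} (hx : x ∈ orth h D.C) (hne : h x x ≠ 0) :
    ∃ a : F, a ≠ 0 ∧ D.Unit₁ (a • x) := by
  obtain ⟨a, ha⟩ := exists_unit_smul D.hh hne
  exact ⟨a, fun h0 => by simp [h0] at ha, Submodule.smul_mem _ _ hx, ha⟩

omit [Finite F] in
include D in
theorem norm_eq_zero {a : F} : σ a * a = 0 ↔ a = 0 := by
  refine ⟨fun e => ?_, fun e => by simp [e]⟩
  rcases mul_eq_zero.1 e with e | e
  · rw [← D.hh.invol a, e, map_zero]
  · exact e

include D in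
/-- A unit with a prescribed non-zero product with an isotropic vector of `Ds`. -/
theorem exists_level_iso (Ds : Submodule F V) {x t : V} (hx : x ∈ Ds) (ht : t ∈ Ds) (hxx : h x x = 0)
    (hxt : h x t = 1) (X : F) (hX : X ≠ 0) :
    ∃ u ∈ Ds, h u u = 1 ∧ h x u = X ∧ ∃ α : F, u = α • x + X • t := by
  obtain ⟨d, hd⟩ := D.hh.exists_trace_one
  have hσX : σ X ≠ 0 := fun e => hX (by rw [← D.hh.invol X, e, map_zero])
  set c := 1 - σ X * X * h t t
  have hc : σ c = c := by simp [c, map_mul, D.hh.invol, D.hh.σ_self, mul_comm X]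
  refine ⟨(σ (d * c) / σ X) • x + X • t, Ds.add_mem (Ds.smul_mem _ hx) (Ds.smul_mem _ ht), ?_,
    by simp [hxx, hxt], _, rfl⟩
  have htx : h t x = 1 := by rw [D.hh.swap, hxt, map_one]
  simp only [map_add, map_smulₛₗ, LinearMap.add_apply, LinearMap.smul_apply, smul_eq_mul, RingHom.id_apply, hxx,
    hxt, htx, map_div₀, map_mul, D.hh.invol, hc]
  field_simp
  linear_combination σ X * X * c * hd + σ X * X * (rfl : c = 1 - σ X * X * h t t)

include D in
/-- A unit with a prescribed product with a multiple of a unit. -/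
theorem exists_level_aniso (Ds : Submodule F V) {x t : V} (hx : x ∈ Ds) (ht : t ∈ Ds) (hxx : h x x ≠ 0)
    (htt : h t t = 1) (hxt : h x t = 0) (X : F) : ∃ u ∈ Ds, h u u = 1 ∧ h x u = X := by
  have hQ : σ (h x x) = h x x := D.hh.σ_self x
  obtain ⟨δ, hδ⟩ := D.hh.exists_norm_eq (c := 1 - σ X * X / h x x) (by simp [hQ, D.hh.invol, mul_comm X])
  refine ⟨(X / h x x) • x + δ • t, Ds.add_mem (Ds.smul_mem _ hx) (Ds.smul_mem _ ht), ?_, by
    simp [hxt, hxx]⟩
  simp only [map_add, map_smulₛₗ, LinearMap.add_apply, LinearMap.smul_apply, smul_eq_mul, RingHom.id_apply, hxt,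
    D.sw hxt, htt, map_div₀, hQ]
  field_simp
  field_simp at hδ
  linear_combination hδ

omit [Finite F] in
include D in
/-- A non-zero vector of a non-degenerate plane has product `1` with some vector of it. -/
theorem exists_partner {p q x : V} (hp : h p p = 1) (hq : h q q = 1) (hpq : h p q = 0)
    (hxm : ∃ a b : F, x = a • p + b • q) (hx0 : x ≠ 0) : ∃ t, (∃ a b : F, t = a • p + b • q) ∧ h x t = 1 := by
  obtain ⟨a, b, rfl⟩ := hxm
  by_cases ha : a = 0
  · have hb : σ b ≠ 0 := fun e => hx0 (by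
      rw [ha, show b = 0 by rw [← D.hh.invol b, e, map_zero]]; simp)
    exact ⟨(σ b)⁻¹ • q, ⟨0, (σ b)⁻¹, by simp⟩, by simp [hq, hpq, hb]⟩
  · have ha' : σ a ≠ 0 := fun e => ha (by rw [← D.hh.invol a, e, map_zero])
    exact ⟨(σ a)⁻¹ • p, ⟨(σ a)⁻¹, 0, by simp⟩, by simp [hp, D.sw hpq, ha']⟩

end Data

end Cfsg.Agent.PhanAmalgam
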