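/-
Area PhanAmalgam: transport of `L` to the stabilisers of the units orthogonal to `e`, and the cosets over the units
of the space.
-/
import Cfsg.Agent.Lib.PhanAmalgam.Space

set_option autoImplicit false

namespace Cfsg.Agent.PhanAmalgam

open Cfsg.Agent.ClassicalSimple

variable {F V H : Type*} [Field F] [AddCommGroup V] [Module F V] {σ : F →+* F} [Group H]

namespace Data

variable {h : V →ₛₗ[σ] V →ₗ[F] F} (D : Data h H)

/-- `g` fixes `C`. -/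
def FixC (g : SUH h) : Prop := ∀ c ∈ D.C, g • c = c

theorem mem_fix_insert {X : Set V} {g : SUH h} :
    g ∈ fix h (D.C ∪ X) ↔ D.FixC g ∧ ∀ x ∈ X, g • x = x :=
  ⟨fun hg => ⟨fun c hc => hg c (Or.inl hc), fun x hx => hg x (Or.inr hx)⟩,
    fun hg x hx => hx.elim (hg.1 x) (hg.2 x)⟩

theorem mem_fix_one {w : V} {g : SUH h} : g ∈ fix h (D.C ∪ {w}) ↔ D.FixC g ∧ g • w = w := by
  rw [D.mem_fix_insert]; simp

theorem mem_fix_two {w w' : V} {g : SUH h} :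
    g ∈ fix h (D.C ∪ {w, w'}) ↔ D.FixC g ∧ g • w = w ∧ g • w' = w' := by
  rw [D.mem_fix_insert]; simp

theorem R_one : D.R 1 = 1 := by
  have := D.R_mul 1 (one_mem _) 1 (one_mem _)
  rw [one_mul] at this
  simpa using this

theorem L_one : D.L 1 = 1 := by
  have := D.L_mul 1 (one_mem _) 1 (one_mem _)
  rw [one_mul] at this
  simpa using this

theorem R_inv {a : SUH h} (ha : a ∈ fix h (D.C ∪ {D.e})) : D.R a⁻¹ = (D.R a)⁻¹ :=
  eq_inv_of_mul_eq_one_left (by rw [← D.R_mul _ (inv_mem ha) _ ha, inv_mul_cancel, D.R_one])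

theorem L_inv {a : SUH h} (ha : a ∈ fix h (D.C ∪ {D.z})) : D.L a⁻¹ = (D.L a)⁻¹ :=
  eq_inv_of_mul_eq_one_left (by rw [← D.L_mul _ (inv_mem ha) _ ha, inv_mul_cancel, D.L_one])

theorem fix_ez_left {g : SUH h} (hg : g ∈ fix h (D.C ∪ {D.e, D.z})) : g ∈ fix h (D.C ∪ {D.e}) := by
  rw [mem_fix_two] at hg; rw [mem_fix_one]; exact ⟨hg.1, hg.2.1⟩

theorem fix_ez_right {g : SUH h} (hg : g ∈ fix h (D.C ∪ {D.e, D.z})) : g ∈ fix h (D.C ∪ {D.z}) := by
  rw [mem_fix_two] at hg; rw [mem_fix_one]; exact ⟨hg.1, hg.2.2⟩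

variable [Finite F] [FiniteDimensional F V]

/-- Moving a unit to another one while fixing `C` and given vectors orthogonal to both. -/
theorem exists_move_unit (X : Set V) (hX : X ⊆ orth h D.C) {a b d : V} (ha : D.Unit₁ a) (hb : D.Unit₁ b)
    (hd : D.Unit₁ d) (hda : ∀ x ∈ X, h x a = 0) (hdb : ∀ x ∈ X, h x b = 0) (hdd : ∀ x ∈ X, h x d = 0)
    (hbd : h d b = 0) : ∃ g ∈ fix h (D.C ∪ X), g • a = b := by
  have mem : ∀ v, D.Unit₁ v → (∀ x ∈ X, h x v = 0) → v ∈ orth h (D.C ∪ X) := fun v hv hx => by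
    rintro c (hc | hc)
    exacts [hv.1 c hc, hx c hc]
  obtain ⟨g, hg, hgc⟩ := exists_move D.hh (orth h (D.C ∪ X)) (mem a ha hda) (mem b hb hdb) (mem d hd hdd) ha.2 hb.2
    (by rw [hd.2]; exact one_ne_zero) hbd
  exact ⟨g, fun c hc => hgc c fun x hx => hx c hc, hg⟩

/-- Units orthogonal to `e`. -/
def W1 (w : V) : Prop := D.Unit₁ w ∧ h D.e w = 0

/-- Units orthogonal to `e` and to `v`. -/
def W0 (v w : V) : Prop := D.W1 w ∧ h w v = 0

theorem exists_to (w : V) : ∃ k, D.W1 w → k ∈ fix h (D.C ∪ {D.e}) ∧ k • D.z = w := by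
  by_cases hw : D.W1 w
  · obtain ⟨d, hd, h1, h2, -⟩ := D.exists_unit_perp (Or.inr D.unit_e) (Or.inr hw.1) D.unit₀_zero hw.2 (by simp)
      (by simp)
    obtain ⟨k, hk, hkz⟩ := D.exists_move_unit {D.e} (by simp [D.he]) D.unit_z hw.1 hd (by simp [D.oez])
      (by simp [hw.2]) (by simp [h1]) (D.sw h2)
    exact ⟨k, fun _ => ⟨hk, hkz⟩⟩
  · exact ⟨1, fun h' => absurd h' hw⟩

/-- An element fixing `e` taking `z` to `w`. -/
noncomputable def kTo (w : V) : SUH h := Classical.choose (D.exists_to w)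

theorem kTo_spec {w : V} (hw : D.W1 w) : D.kTo w ∈ fix h (D.C ∪ {D.e}) ∧ D.kTo w • D.z = w :=
  Classical.choose_spec (D.exists_to w) hw

/-- The transport of `L` to the stabiliser of `w`. -/
noncomputable def Lw (w : V) (g : SUH h) : H :=
  D.R (D.kTo w) * D.L ((D.kTo w)⁻¹ * g * D.kTo w) * (D.R (D.kTo w))⁻¹

theorem conj_mem {k g : SUH h} {w : V} (hk : k ∈ fix h (D.C ∪ {D.e})) (hkz : k • D.z = w)
    (hg : g ∈ fix h (D.C ∪ {w})) : k⁻¹ * g * k ∈ fix h (D.C ∪ {D.z}) := by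
  rw [mem_fix_one] at hk hg ⊢
  refine ⟨fun c hc => ?_, ?_⟩
  · rw [mul_smul, mul_smul, hk.1 c hc, hg.1 c hc, inv_smul_eq_iff, hk.1 c hc]
  · rw [mul_smul, mul_smul, hkz, hg.2, inv_smul_eq_iff, hkz]

theorem Lw_eq {k g : SUH h} {w : V} (hk : k ∈ fix h (D.C ∪ {D.e})) (hkz : k • D.z = w) (hw : D.W1 w)
    (hg : g ∈ fix h (D.C ∪ {w})) : D.Lw w g = D.R k * D.L (k⁻¹ * g * k) * (D.R k)⁻¹ := by
  obtain ⟨hk', hkz'⟩ := D.kTo_spec hw
  set k' := D.kTo w
  have hδ : k⁻¹ * k' ∈ fix h (D.C ∪ {D.e, D.z}) := by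
    rw [mem_fix_one] at hk hk'
    rw [mem_fix_two]
    refine ⟨fun c hc => ?_, ?_, ?_⟩ <;> rw [mul_smul, inv_smul_eq_iff]
    exacts [by rw [hk'.1 c hc, hk.1 c hc], by rw [hk'.2, hk.2], by rw [hkz', hkz]]
  set δ := k⁻¹ * k' with hδdef
  have hx := D.conj_mem hk hkz hg
  have hδz := D.fix_ez_right hδ
  have hk'eq : k' = k * δ := by rw [hδdef]; group
  show D.R k' * D.L (k'⁻¹ * g * k') * (D.R k')⁻¹ = _
  rw [hk'eq, D.R_mul _ hk _ (D.fix_ez_left hδ), D.agree δ hδ,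
    show (k * δ)⁻¹ * g * (k * δ) = δ⁻¹ * (k⁻¹ * g * k) * δ by group,
    D.L_mul _ (mul_mem (inv_mem hδz) hx) _ hδz, D.L_mul _ (inv_mem hδz) _ hx, D.L_inv hδz]
  group

theorem Lw_mul {w : V} (hw : D.W1 w) {a b : SUH h} (ha : a ∈ fix h (D.C ∪ {w})) (hb : b ∈ fix h (D.C ∪ {w})) :
    D.Lw w (a * b) = D.Lw w a * D.Lw w b := by
  obtain ⟨hk, hkz⟩ := D.kTo_spec hw
  simp only [Lw]
  rw [show (D.kTo w)⁻¹ * (a * b) * D.kTo w = ((D.kTo w)⁻¹ * a * D.kTo w) * ((D.kTo w)⁻¹ * b * D.kTo w) by group,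
    D.L_mul _ (D.conj_mem hk hkz ha) _ (D.conj_mem hk hkz hb)]
  group

theorem W1_z : D.W1 D.z := ⟨D.unit_z, D.oez⟩
theorem W1_y : D.W1 D.y := ⟨D.unit_y, D.oey⟩

theorem Lw_z {g : SUH h} (hg : g ∈ fix h (D.C ∪ {D.z})) : D.Lw D.z g = D.L g := by
  rw [D.Lw_eq (one_mem _) (one_smul _ _) D.W1_z hg, D.R_one]; simp

theorem W1_smul {k : SUH h} (hk : k ∈ fix h (D.C ∪ {D.e})) {w : V} (hw : D.W1 w) : D.W1 (k • w) := by
  rw [mem_fix_one] at hk
  exact ⟨D.smul_unit hk.1 hw.1, by rw [← hk.2, su_form]; exact hw.2⟩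

theorem Lw_conj {k : SUH h} (hk : k ∈ fix h (D.C ∪ {D.e})) {w : V} (hw : D.W1 w) {g : SUH h}
    (hg : g ∈ fix h (D.C ∪ {w})) : D.R k * D.Lw w g * (D.R k)⁻¹ = D.Lw (k • w) (k * g * k⁻¹) := by
  obtain ⟨hk', hkz⟩ := D.kTo_spec hw
  have hg' : k * g * k⁻¹ ∈ fix h (D.C ∪ {k • w}) := by
    rw [mem_fix_one] at hk hg ⊢
    exact ⟨fun c hc => by rw [mul_smul, mul_smul, inv_smul_eq_iff.2 (hk.1 c hc).symm, hg.1 c hc, hk.1 c hc],
      by rw [mul_smul, mul_smul, inv_smul_smul, hg.2]⟩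
  rw [D.Lw_eq (mul_mem hk hk') (by rw [mul_smul, hkz]) (D.W1_smul hk hw) hg', D.Lw_eq hk' hkz hw hg,
    D.R_mul _ hk _ hk', show (k * D.kTo w)⁻¹ * (k * g * k⁻¹) * (k * D.kTo w) = (D.kTo w)⁻¹ * g * D.kTo w by group]
  group

theorem Lw_R {w : V} (hw : D.W1 w) {g : SUH h} (hg : g ∈ fix h (D.C ∪ {D.e, w})) : D.Lw w g = D.R g := by
  obtain ⟨hk, hkz⟩ := D.kTo_spec hw
  rw [mem_fix_two] at hg
  have hge : g ∈ fix h (D.C ∪ {D.e}) := by rw [mem_fix_one]; exact ⟨hg.1, hg.2.1⟩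
  have hm : (D.kTo w)⁻¹ * g * D.kTo w ∈ fix h (D.C ∪ {D.e, D.z}) := by
    have h1 := D.conj_mem hk hkz (D.mem_fix_one.2 ⟨hg.1, hg.2.2⟩)
    rw [mem_fix_one] at h1 hk
    rw [mem_fix_two]
    exact ⟨h1.1, by rw [mul_smul, mul_smul, hk.2, hg.2.1, inv_smul_eq_iff, hk.2], h1.2⟩
  rw [D.Lw_eq hk hkz hw (D.mem_fix_one.2 ⟨hg.1, hg.2.2⟩), ← D.agree _ hm,
    D.R_mul _ (mul_mem (inv_mem hk) hge) _ hk, D.R_mul _ (inv_mem hk) _ hge, D.R_inv hk]
  group

omit [Finite F] [FiniteDimensional F V] in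
/-- Two elements fixing `C` agree when they agree on `a`, `b` and on the vectors of the space orthogonal to both. -/
theorem ext_pair {a b : V} (ha : D.Unit₁ a) (hb : D.Unit₁ b) (hab : h a b = 0) {g k : SUH h} (hg : D.FixC g)
    (hk : D.FixC k) (hga : g • a = k • a) (hgb : g • b = k • b)
    (hp : ∀ x ∈ orth h D.C, h a x = 0 → h b x = 0 → g • x = k • x) : g = k := by
  refine (inv_mul_eq_one.1 (D.span (k⁻¹ * g) (fun c hc => ?_) fun v hv => ?_)).symm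
  · rw [mul_smul, hg c hc, inv_smul_eq_iff, hk c hc]
  rw [mul_smul, inv_smul_eq_iff]
  have hv' : v = h a v • a + h b v • b + (v - h a v • a - h b v • b) := by abel
  have hm : v - h a v • a - h b v • b ∈ orth h D.C :=
    sub_mem (sub_mem hv (Submodule.smul_mem _ _ ha.1)) (Submodule.smul_mem _ _ hb.1)
  rw [hv', su_add, su_add, su_add, su_add, su_scal, su_scal, su_scal, su_scal, hga, hgb,
    hp _ hm (by simp [ha.2, hab]) (by simp [hb.2, D.sw hab])]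

omit [Finite F] [FiniteDimensional F V] in
/-- Elements supported on orthogonal pieces commute. -/
theorem commute_perp {a b : V} (ha : D.Unit₁ a) (hb : D.Unit₁ b) (hab : h a b = 0) {g k : SUH h}
    (hg : g ∈ fixPerp h D.C a b) (hk : k ∈ fix h (D.C ∪ {a, b})) : Commute g k := by
  obtain ⟨hkC, hka, hkb⟩ := D.mem_fix_two.1 hk
  have hgC : D.FixC g := fun c hc => hg c (Or.inl hc)
  have hperp : ∀ x ∈ orth h D.C, h a x = 0 → h b x = 0 → g • x = x := fun x h1 h2 h3 => hg x (Or.inr ⟨h1, h2, h3⟩)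
  have hcomb : ∀ v : V, v ∈ orth h D.C → (∀ x ∈ orth h D.C, h a x = 0 → h b x = 0 → h x v = 0) →
      k • v = v := fun v hv hx => by
    set r := v - h a v • a - h b v • b with hr
    have hrm : r ∈ orth h D.C := sub_mem (sub_mem hv (Submodule.smul_mem _ _ ha.1)) (Submodule.smul_mem _ _ hb.1)
    have hra : h a r = 0 := by simp [hr, ha.2, hab]
    have hrb : h b r = 0 := by simp [hr, hb.2, D.sw hab]
    have hr0 : r = 0 := by
      by_contra h0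
      obtain ⟨t, ht, hne⟩ := D.nd r hrm h0
      set t' := t - h a t • a - h b t • b with ht'
      have htm : t' ∈ orth h D.C := sub_mem (sub_mem ht (Submodule.smul_mem _ _ ha.1)) (Submodule.smul_mem _ _ hb.1)
      have hta : h a t' = 0 := by simp [ht', ha.2, hab]
      have htb : h b t' = 0 := by simp [ht', hb.2, D.sw hab]
      have e : h t' r = 0 := by simp [hr, hx t' htm hta htb, D.sw hta, D.sw htb]
      exact hne (by simpa [ht', D.sw hra, D.sw hrb] using D.sw e)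
    rw [show v = h a v • a + h b v • b by rw [← sub_eq_zero, ← sub_sub]; exact hr0, su_add, su_scal, su_scal, hka, hkb]
  have hgab : ∀ v, v ∈ orth h D.C → (∀ x ∈ orth h D.C, h a x = 0 → h b x = 0 → h x v = 0) →
      k • (g • v) = g • v := fun v hv hx => hcomb _ (D.smul_orth hgC hv) fun x h1 h2 h3 => by
    rw [← hperp x h1 h2 h3, su_form]; exact hx x h1 h2 h3
  refine D.ext_pair ha hb hab (fun c hc => by rw [mul_smul, hkC c hc, hgC c hc])
    (fun c hc => by rw [mul_smul, hgC c hc, hkC c hc]) ?_ ?_ fun x h1 h2 h3 => ?_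
  · rw [mul_smul, mul_smul, hka, hgab a ha.1 fun x _ h2 _ => D.sw h2]
  · rw [mul_smul, mul_smul, hkb, hgab b hb.1 fun x _ _ h3 => D.sw h3]
  · rw [mul_smul, mul_smul, hperp x h1 h2 h3, hperp _ (D.smul_orth hkC h1) (by rw [← hka, su_form]; exact h2)
      (by rw [← hkb, su_form]; exact h3)]

/-- The image of `g ∈ fixPerp C e e1` is the same in all the stabilisers of units orthogonal to `e` and `e1`. -/
theorem Lw_first {w : V} (hw : D.W1 w) (hw1 : h D.e1 w = 0) {g : SUH h} (hg : g ∈ fixPerp h D.C D.e D.e1) :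
    D.Lw w g = D.L g := by
  obtain ⟨d, hd, h1, h2, h3⟩ := D.exists_unit_perp (Or.inr D.unit_e) (Or.inr D.unit_e1) (Or.inr hw.1) D.oe1 hw.2 hw1
  obtain ⟨k, hk, hkz⟩ := D.exists_move_unit {D.e, D.e1}
    (by rintro x (rfl | rfl); exacts [D.he, D.he1]) D.unit_z hw.1 hd
    (by rintro x (rfl | rfl); exacts [D.oez, D.o1z]) (by rintro x (rfl | rfl); exacts [hw.2, hw1])
    (by rintro x (rfl | rfl); exacts [h1, h2]) (D.sw h3)
  have hke : k ∈ fix h (D.C ∪ {D.e}) := by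
    rw [mem_fix_two] at hk; rw [mem_fix_one]; exact ⟨hk.1, hk.2.1⟩
  have hgw : g ∈ fix h (D.C ∪ {w}) := by
    rw [mem_fix_one]; exact ⟨fun c hc => hg c (Or.inl hc), hg w (Or.inr ⟨hw.1.1, hw.2, hw1⟩)⟩
  have hcomm : k⁻¹ * g * k = g := by
    rw [mul_assoc, (D.commute_perp D.unit_e D.unit_e1 D.oe1 hg hk).eq, inv_mul_cancel_left]
  rw [D.Lw_eq hke hkz hw hgw, hcomm]
  rw [← (D.comm1 g hg k hk).eq]
  group

end Data

end Cfsg.Agent.PhanAmalgam
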