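/-
Area PhanAmalgam: the coset over a unit does not depend on the auxiliary unit orthogonal to `e` and to it.
-/
import Cfsg.Agent.Lib.PhanAmalgam.Val

set_option autoImplicit false

namespace Cfsg.Agent.PhanAmalgam

open Cfsg.Agent.ClassicalSimple

variable {F V H : Type*} [Field F] [AddCommGroup V] [Module F V] {σ : F →+* F} [Group H]

theorem exists_scalar_moved {h : V →ₛₗ[σ] V →ₗ[F] F} (hh : IsUnitaryForm σ h) :
    ∃ a : F, σ a * a = 1 ∧ σ a ≠ a := by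
  obtain ⟨t, ht, htr⟩ : ∃ t : F, σ t ≠ t ∧ t + σ t ≠ 0 := by
    obtain ⟨t, ht⟩ := hh.ne_id
    by_cases h1 : t + σ t = 0
    · refine ⟨t + 1, by simpa using ht, fun h2 => ht ?_⟩
      rw [map_add, map_one] at h2
      linear_combination (h1 : t + σ t = 0) + t * (h1 - h2)
    · exact ⟨t, ht, h1⟩
  have h0 : t ≠ 0 := fun h0 => ht (by rw [h0, map_zero])
  have h1 : σ t ≠ 0 := fun h1 => h0 (by rw [← hh.invol t, h1, map_zero])
  refine ⟨σ t / t, ?_, fun e => ?_⟩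
  · rw [map_div₀, hh.invol]; field_simp
  · rw [map_div₀, hh.invol, div_eq_div_iff h1 h0] at e
    rcases mul_eq_zero.1 (show (σ t - t) * (t + σ t) = 0 by linear_combination -e) with e' | e'
    exacts [ht (sub_eq_zero.1 e'), htr e']

namespace Data

variable {h : V →ₛₗ[σ] V →ₗ[F] F} (D : Data h H)

/-- The graph of `R`. -/
def Kp : Subgroup (H × SUH h) where
  carrier := {p | p.2 ∈ fix h (D.C ∪ {D.e}) ∧ p.1 = D.R p.2}
  one_mem' := ⟨one_mem _, D.R_one.symm⟩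
  mul_mem' ha hb := ⟨mul_mem ha.1 hb.1, by rw [Prod.fst_mul, Prod.snd_mul, D.R_mul _ ha.1 _ hb.1, ha.2, hb.2]⟩
  inv_mem' ha := ⟨inv_mem ha.1, by rw [Prod.fst_inv, Prod.snd_inv, D.R_inv ha.1, ha.2]⟩

theorem mem_Kp {p : H × SUH h} : p ∈ D.Kp ↔ p.2 ∈ fix h (D.C ∪ {D.e}) ∧ p.1 = D.R p.2 := Iff.rfl

variable [Finite F] [FiniteDimensional F V]

/-- The lift of an element of the stabiliser of `w`. -/
noncomputable def liftW (w : V) (g : SUH h) : H × SUH h := (D.Lw w g, g)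

/-- The lift of an element of the stabiliser of `e`. -/
def liftR (g : SUH h) : H × SUH h := (D.R g, g)

omit [Finite F] [FiniteDimensional F V] in
theorem liftR_mem {g : SUH h} (hg : g ∈ fix h (D.C ∪ {D.e})) : D.liftR g ∈ D.Kp := ⟨hg, rfl⟩

theorem liftW_mul {w : V} (hw : D.W1 w) {a b : SUH h} (ha : a ∈ fix h (D.C ∪ {w})) (hb : b ∈ fix h (D.C ∪ {w})) :
    D.liftW w (a * b) = D.liftW w a * D.liftW w b := Prod.ext (D.Lw_mul hw ha hb) rfl

theorem liftW_conj {k : SUH h} (hk : k ∈ fix h (D.C ∪ {D.e})) {w : V} (hw : D.W1 w) {g : SUH h}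
    (hg : g ∈ fix h (D.C ∪ {w})) : D.liftR k * D.liftW w g * (D.liftR k)⁻¹ = D.liftW (k • w) (k * g * k⁻¹) :=
  Prod.ext (D.Lw_conj hk hw hg) rfl

theorem exists_gTo (w v : V) : ∃ g, D.W1 w → D.Unit₁ v → h w v = 0 → g ∈ fix h (D.C ∪ {w}) ∧ g • D.e = v := by
  by_cases hc : D.W1 w ∧ D.Unit₁ v ∧ h w v = 0
  · obtain ⟨hw, hv, hwv⟩ := hc
    obtain ⟨d, hd, h1, h2, -⟩ := D.exists_unit_perp (Or.inr hw.1) (Or.inr hv) D.unit₀_zero hwv (by simp) (by simp)
    obtain ⟨g, hg, hge⟩ := D.exists_move_unit {w} (by simp [hw.1.1]) D.unit_e hv hd (by simp [D.sw hw.2])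
      (by simp [hwv]) (by simp [h1]) (D.sw h2)
    exact ⟨g, fun _ _ _ => ⟨hg, hge⟩⟩
  · exact ⟨1, fun a b c => absurd ⟨a, b, c⟩ hc⟩

/-- An element fixing `w` taking `e` to `v`. -/
noncomputable def gTo (w v : V) : SUH h := Classical.choose (D.exists_gTo w v)

theorem gTo_spec {w v : V} (hv : D.Unit₁ v) (hw : D.W0 v w) :
    D.gTo w v ∈ fix h (D.C ∪ {w}) ∧ D.gTo w v • D.e = v :=
  Classical.choose_spec (D.exists_gTo w v) hw.1 hv hw.2

/-- The coset over `v` computed with `w`. -/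
noncomputable def val (w v : V) : (H × SUH h) ⧸ D.Kp := QuotientGroup.mk (D.liftW w (D.gTo w v))

theorem val_eq {w v : V} (hv : D.Unit₁ v) (hw : D.W0 v w) {g : SUH h} (hg : g ∈ fix h (D.C ∪ {w}))
    (hge : g • D.e = v) : D.val w v = QuotientGroup.mk (D.liftW w g) := by
  obtain ⟨hg', hge'⟩ := D.gTo_spec hv hw
  set g' := D.gTo w v with hg'def
  have hd : g'⁻¹ * g ∈ fix h (D.C ∪ {D.e, w}) := by
    rw [mem_fix_one] at hg hg'
    rw [mem_fix_two]
    refine ⟨fun c hc => ?_, ?_, ?_⟩ <;> rw [mul_smul, inv_smul_eq_iff]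
    exacts [by rw [hg.1 c hc, hg'.1 c hc], by rw [hge, hge'], by rw [hg.2, hg'.2]]
  have hdw : g'⁻¹ * g ∈ fix h (D.C ∪ {w}) := mul_mem (inv_mem hg') hg
  rw [val, ← hg'def, show g = g' * (g'⁻¹ * g) by group, D.liftW_mul hw.1 hg' hdw, QuotientGroup.eq,
    inv_mul_cancel_left, D.mem_Kp]
  refine ⟨?_, D.Lw_R hw.1 hd⟩
  show g'⁻¹ * g ∈ _
  rw [mem_fix_one]
  exact ⟨(D.mem_fix_two.1 hd).1, (D.mem_fix_two.1 hd).2.1⟩

theorem W0_smul {g : SUH h} (hg : g ∈ fix h (D.C ∪ {D.e})) {v w : V} (hw : D.W0 v w) : D.W0 (g • v) (g • w) :=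
  ⟨D.W1_smul hg hw.1, by rw [su_form]; exact hw.2⟩

theorem val_R {k : SUH h} (hk : k ∈ fix h (D.C ∪ {D.e})) {w v : V} (hv : D.Unit₁ v) (hw : D.W0 v w) :
    D.liftR k • D.val w v = D.val (k • w) (k • v) := by
  obtain ⟨hg, hge⟩ := D.gTo_spec hv hw
  obtain ⟨hkC, hke⟩ := D.mem_fix_one.1 hk
  obtain ⟨hgC, hgw⟩ := D.mem_fix_one.1 hg
  have hg' : k * D.gTo w v * k⁻¹ ∈ fix h (D.C ∪ {k • w}) := by
    rw [mem_fix_one]
    exact ⟨fun c hc => by rw [mul_smul, mul_smul, inv_smul_eq_iff.2 (hkC c hc).symm, hgC c hc, hkC c hc],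
      by rw [mul_smul, mul_smul, inv_smul_smul, hgw]⟩
  rw [D.val_eq (D.smul_unit hkC hv) (D.W0_smul hk hw) hg'
    (by rw [mul_smul, mul_smul, inv_smul_eq_iff.2 hke.symm, hge]), ← D.liftW_conj hk hw.1 hg, val]
  show QuotientGroup.mk (D.liftR k * D.liftW w (D.gTo w v)) = _
  rw [QuotientGroup.eq]
  simpa [mul_assoc] using inv_mem (D.liftR_mem hk)

theorem val_W {w : V} {g : SUH h} (hg : g ∈ fix h (D.C ∪ {w})) {v : V} (hv : D.Unit₁ v) (hw : D.W0 v w) :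
    D.liftW w g • D.val w v = D.val w (g • v) := by
  obtain ⟨hg', hge'⟩ := D.gTo_spec hv hw
  obtain ⟨hgC, hgw⟩ := D.mem_fix_one.1 hg
  rw [D.val_eq (D.smul_unit hgC hv) ⟨hw.1, by rw [← hgw, su_form]; exact hw.2⟩ (mul_mem hg hg')
    (by rw [mul_smul, hge']), D.liftW_mul hw.1 hg hg', val]
  rfl

/-- `g ∈ fixPerp C e e1` moves the coset over `v` computed with a unit orthogonal to `e1` as well. -/
theorem val_first {g : SUH h} (hg : g ∈ fixPerp h D.C D.e D.e1) {v p : V} (hv : D.Unit₁ v) (hp : D.W0 v p)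
    (hp1 : h D.e1 p = 0) :
    ((D.L g, g) : H × SUH h) • D.val p v = D.val p (g • v) ∧ D.W0 (g • v) p ∧ D.Unit₁ (g • v) := by
  have hgC : D.FixC g := fun c hc => hg c (Or.inl hc)
  have hgp : g • p = p := hg p (Or.inr ⟨hp.1.1.1, hp.1.2, hp1⟩)
  refine ⟨?_, ⟨hp.1, by rw [← hgp, su_form]; exact hp.2⟩, D.smul_unit hgC hv⟩
  rw [← D.Lw_first hp.1 hp1 hg]
  exact D.val_W (D.mem_fix_one.2 ⟨hgC, hgp⟩) hv hp

omit [Finite F] [FiniteDimensional F V] in
include D in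
theorem norm_sub {a x : V} (ha : h a a = 1) (hx : h x x = 1) :
    h (x - h a x • a) (x - h a x • a) = 1 - σ (h a x) * h a x := by
  simp only [map_sub, map_smulₛₗ, LinearMap.sub_apply, LinearMap.smul_apply, smul_eq_mul, RingHom.id_apply, ha, hx,
    D.hh.swap a x]
  ring

omit [Finite F] [FiniteDimensional F V] in
include D in
theorem fix_smul_line {g : SUH h} {a x : V} {c : F} (ha : g • a = a) (hc : c ≠ 0)
    (hx : g • (c • (x - h a x • a)) = c • (x - h a x • a)) : g • x = x := by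
  rw [su_scal, su_sub, su_scal, ha] at hx
  exact sub_left_injective (smul_right_injective V hc hx)

/-- The transports to the stabilisers of `z` and of a unit spanning a non-degenerate plane with it agree. -/
theorem Lw_agree_z {w : V} (hw : D.W1 w) (hne : σ (h D.z w) * h D.z w ≠ 1) {g : SUH h}
    (hg : g ∈ fix h (D.C ∪ {D.z, w})) : D.Lw w g = D.L g := by
  obtain ⟨hgC, hgz, hgw⟩ := D.mem_fix_two.1 hg
  set α := h D.z w
  set s := w - α • D.z with hs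
  have hsW : s ∈ orth h D.C := sub_mem hw.1.1 (Submodule.smul_mem _ _ D.hz)
  have hss : h s s = 1 - σ α * α := D.norm_sub D.nzz hw.1.2
  obtain ⟨c, hc, hcu⟩ := D.exists_normalise hsW (by rw [hss]; exact sub_ne_zero.2 (Ne.symm hne))
  set t := c • s with ht
  have het : h D.e t = 0 := by simp [ht, hs, hw.2, D.oez]
  have hzt : h D.z t = 0 := by simp [ht, hs, α, D.nzz]
  obtain ⟨d, hd, h1, h2, h3⟩ :=
    D.exists_unit_perp (Or.inr D.unit_e) (Or.inr D.unit_z) (Or.inr hcu) D.oez het hzt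
  obtain ⟨k, hk, hky⟩ := D.exists_move_unit {D.e, D.z} (by rintro x (rfl | rfl); exacts [D.he, D.hz]) D.unit_y hcu hd
    (by rintro x (rfl | rfl); exacts [D.oey, D.sw D.oyz]) (by rintro x (rfl | rfl); exacts [het, hzt])
    (by rintro x (rfl | rfl); exacts [h1, h2]) (D.sw h3)
  obtain ⟨hkC, hke, hkz⟩ := D.mem_fix_two.1 hk
  set w2 := α • D.z + c⁻¹ • D.y with hw2
  have hkw : k • w2 = w := by
    rw [hw2, su_add, su_scal, su_scal, hkz, hky, ht, smul_smul, inv_mul_cancel₀ hc, one_smul, hs, add_sub_cancel]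
  have hw2W : D.W1 w2 := by
    have := D.W1_smul (inv_mem (D.fix_ez_left hk)) hw
    rwa [← hkw, inv_smul_smul] at this
  set g2 := k⁻¹ * g * k with hg2
  have hg2z : g2 ∈ fix h (D.C ∪ {D.z}) := D.conj_mem (D.fix_ez_left hk) hkz (D.mem_fix_one.2 ⟨hgC, hgz⟩)
  have hg2w : g2 • w2 = w2 := by rw [hg2, mul_smul, mul_smul, hkw, hgw, inv_smul_eq_iff, hkw]
  have hg2y : g2 • D.y = D.y := by
    have e : g2 • w2 = α • D.z + c⁻¹ • (g2 • D.y) := by
      rw [hw2, su_add, su_scal, su_scal, (D.mem_fix_one.1 hg2z).2]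
    rw [hg2w, hw2] at e
    exact (smul_right_injective V (inv_ne_zero hc) (add_left_cancel e)).symm
  have hg2yz : g2 ∈ fix h (D.C ∪ {D.y, D.z}) :=
    D.mem_fix_two.2 ⟨(D.mem_fix_one.1 hg2z).1, hg2y, (D.mem_fix_one.1 hg2z).2⟩
  -- an element supported on `⟨y, z⟩` taking `z` to `w2`
  set d2 := (-σ c⁻¹) • D.z + σ α • D.y with hd2
  have hNw : σ α * α + σ c⁻¹ * c⁻¹ = 1 := by
    have := hw2W.1.2
    simp only [hw2, map_add, map_smulₛₗ, LinearMap.add_apply, LinearMap.smul_apply, smul_eq_mul, RingHom.id_apply,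
      D.nzz, D.nyy, D.oyz, D.sw D.oyz] at this
    linear_combination this
  have hd2u : D.Unit₁ d2 := by
    refine ⟨add_mem (Submodule.smul_mem _ _ D.hz) (Submodule.smul_mem _ _ D.hy), ?_⟩
    simp only [hd2, map_add, map_smulₛₗ, LinearMap.add_apply, LinearMap.smul_apply, smul_eq_mul, RingHom.id_apply,
      map_neg, D.hh.invol, D.nzz, D.nyy, D.oyz, D.sw D.oyz]
    linear_combination hNw
  obtain ⟨k3, hk3, hk3z⟩ := D.exists_move_unit {x | x ∈ orth h D.C ∧ h D.y x = 0 ∧ h D.z x = 0} (fun x hx => hx.1)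
    D.unit_z hw2W.1 hd2u (fun x hx => D.sw hx.2.2)
    (fun x hx => by simp [hw2, D.sw hx.2.1, D.sw hx.2.2]) (fun x hx => by simp [hd2, D.sw hx.2.1, D.sw hx.2.2]) (by
    simp only [hd2, hw2, map_add, map_smulₛₗ, LinearMap.add_apply, LinearMap.smul_apply, smul_eq_mul,
      RingHom.id_apply, map_neg, D.hh.invol, D.nzz, D.nyy, D.oyz, D.sw D.oyz]
    ring)
  have hk3e : k3 ∈ fix h (D.C ∪ {D.e}) := by
    rintro x (hx | rfl)
    exacts [hk3 x (Or.inl hx), hk3 _ (Or.inr ⟨D.he, D.sw D.oey, D.sw D.oez⟩)]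
  have key : D.Lw w2 g2 = D.L g2 := by
    rw [D.Lw_eq hk3e hk3z hw2W (D.mem_fix_one.2 ⟨(D.mem_fix_one.1 hg2z).1, hg2w⟩), mul_assoc k3⁻¹,
      ← (D.commute_perp D.unit_y D.unit_z D.oyz hk3 hg2yz).eq, inv_mul_cancel_left,
      (D.comm2 k3 hk3 g2 hg2yz).eq]
    group
  have e1 := D.Lw_conj (D.fix_ez_left hk) hw2W (D.mem_fix_one.2 ⟨(D.mem_fix_one.1 hg2z).1, hg2w⟩)
  rw [hkw, show k * g2 * k⁻¹ = g by rw [hg2]; group, key] at e1
  rw [← e1, D.agree k hk, hg2, D.L_mul _ (mul_mem (inv_mem (D.fix_ez_right hk)) (D.mem_fix_one.2 ⟨hgC, hgz⟩)) _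
    (D.fix_ez_right hk), D.L_mul _ (inv_mem (D.fix_ez_right hk)) _ (D.mem_fix_one.2 ⟨hgC, hgz⟩),
    D.L_inv (D.fix_ez_right hk)]
  group

/-- The transports to the stabilisers of two units spanning a non-degenerate plane agree. -/
theorem Lw_agree {w w' : V} (hw : D.W1 w) (hw' : D.W1 w') (hne : σ (h w w') * h w w' ≠ 1) {g : SUH h}
    (hg : g ∈ fix h (D.C ∪ {w, w'})) : D.Lw w g = D.Lw w' g := by
  obtain ⟨hgC, hgw, hgw'⟩ := D.mem_fix_two.1 hg
  obtain ⟨hk, hkz⟩ := D.kTo_spec hw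
  set k := D.kTo w
  set w1 := k⁻¹ • w' with hw1
  have hw1W : D.W1 w1 := D.W1_smul (inv_mem hk) hw'
  have hkC := (D.mem_fix_one.1 hk).1
  set g1 := k⁻¹ * g * k with hg1
  have hg1z : g1 ∈ fix h (D.C ∪ {D.z}) := D.conj_mem hk hkz (D.mem_fix_one.2 ⟨hgC, hgw⟩)
  have hg1w : g1 • w1 = w1 := by rw [hg1, hw1, mul_smul, mul_smul, smul_inv_smul, hgw']
  have hval : h D.z w1 = h w w' := by rw [hw1, ← su_form k, smul_inv_smul, hkz]
  have hne1 : σ (h D.z w1) * h D.z w1 ≠ 1 := by rwa [hval]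
  have key := D.Lw_agree_z hw1W hne1 (D.mem_fix_two.2 ⟨(D.mem_fix_one.1 hg1z).1, (D.mem_fix_one.1 hg1z).2, hg1w⟩)
  have e1 := D.Lw_conj hk hw1W (D.mem_fix_one.2 ⟨(D.mem_fix_one.1 hg1z).1, hg1w⟩)
  rw [hw1, smul_inv_smul, show k * g1 * k⁻¹ = g by rw [hg1]; group, ← hw1, key] at e1
  rw [← e1, D.Lw_eq hk hkz hw (D.mem_fix_one.2 ⟨hgC, hgw⟩)]

theorem val_adj {v w w' : V} (hv : D.Unit₁ v) (hw : D.W0 v w) (hw' : D.W0 v w')
    (hne : σ (h w w') * h w w' ≠ 1) : D.val w v = D.val w' v := by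
  set s := w' - h w w' • w with hs
  have hsW : s ∈ orth h D.C := sub_mem hw'.1.1.1 (Submodule.smul_mem _ _ hw.1.1.1)
  have hss : h s s = 1 - σ (h w w') * h w w' := D.norm_sub hw.1.1.2 hw'.1.1.2
  obtain ⟨c, hc, hcu⟩ := D.exists_normalise hsW (by rw [hss]; exact sub_ne_zero.2 (Ne.symm hne))
  have hwt : h w (c • s) = 0 := by simp [hs, hw.1.1.2]
  have het : h (c • s) D.e = 0 := by simp [hs, D.sw hw.1.2, D.sw hw'.1.2]
  have hvt : h (c • s) v = 0 := by simp [hs, hw.2, hw'.2]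
  obtain ⟨d, hd, h1, h2, h3⟩ := D.exists_unit_perp (Or.inr hw.1.1) (Or.inr hcu) (Or.inr hv) hwt hw.2 hvt
  obtain ⟨g, hg, hge⟩ := D.exists_move_unit {w, c • s} (by rintro x (rfl | rfl); exacts [hw.1.1.1, hcu.1])
    D.unit_e hv hd (by rintro x (rfl | rfl); exacts [D.sw hw.1.2, het])
    (by rintro x (rfl | rfl); exacts [hw.2, hvt]) (by rintro x (rfl | rfl); exacts [h1, h2]) (D.sw h3)
  obtain ⟨hgC, hgw, hgs⟩ := D.mem_fix_two.1 hg
  have hgw' : g • w' = w' := D.fix_smul_line hgw hc hgs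
  rw [D.val_eq hv hw (D.mem_fix_one.2 ⟨hgC, hgw⟩) hge, D.val_eq hv hw' (D.mem_fix_one.2 ⟨hgC, hgw'⟩) hge, liftW,
    liftW, D.Lw_agree hw.1 hw'.1 hne (D.mem_fix_two.2 ⟨hgC, hgw, hgw'⟩)]

/-- When `⟨e, v⟩` is non-degenerate, or a line, the coset over `v` does not depend on the auxiliary unit. -/
theorem val_conn_generic [Wide σ] {v : V} (hv : D.Unit₁ v) {r : V} (hr : v = h D.e v • D.e + r)
    (hgen : r = 0 ∨ h r r ≠ 0) {w w' : V} (hw : D.W0 v w) (hw' : D.W0 v w') : D.val w v = D.val w' v := by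
  by_cases hne : σ (h w w') * h w w' = 1
  swap
  · exact D.val_adj hv hw hw' hne
  obtain ⟨u, hu, heu, hru, hwu⟩ : ∃ u, D.Unit₁ u ∧ h D.e u = 0 ∧ h u v = 0 ∧ h w u = 0 := by
    have hrW : r ∈ orth h D.C := by
      have : r = v - h D.e v • D.e := eq_sub_of_add_eq' hr.symm
      rw [this]; exact sub_mem hv.1 (Submodule.smul_mem _ _ D.he)
    have her : h D.e r = 0 := by
      have := congrArg (h D.e) hr
      simp [D.nee] at this
      exact this
    have hwr : h w r = 0 := by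
      have h2 := hw.2
      rw [hr] at h2
      simpa [D.sw hw.1.2] using h2
    have conv : ∀ u, h D.e u = 0 → h r u = 0 → h u v = 0 := fun u a b => by
      rw [hr]; simp [D.sw a, D.sw b]
    rcases hgen with h0 | hrr
    · obtain ⟨u, hu, h1, h2, -⟩ :=
        D.exists_unit_perp (Or.inr D.unit_e) (Or.inr hw.1.1) D.unit₀_zero hw.1.2 (by simp) (by simp)
      exact ⟨u, hu, h1, conv u h1 (by simp [h0]), h2⟩
    · obtain ⟨a, ha, hau⟩ := D.exists_normalise hrW hrr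
      obtain ⟨u, hu, h1, h2, h3⟩ := D.exists_unit_perp (Or.inr D.unit_e) (Or.inr hw.1.1) (Or.inr hau) hw.1.2
        (by simp [her]) (by simp [hwr])
      refine ⟨u, hu, h1, conv u h1 ?_, h2⟩
      simpa [map_smulₛₗ, ha] using h3
  have huW : D.W0 v u := ⟨⟨hu, heu⟩, hru⟩
  by_cases hq : σ (h w' u) * h w' u = 1
  swap
  · rw [D.val_adj hv hw huW (by simp [hwu]),
      D.val_adj hv huW hw' (by rw [D.hh.swap w' u, D.hh.invol, mul_comm]; exact hq)]
  obtain ⟨c, hc, hc0, hc1, -⟩ := Wide.avoid (σ := σ) 1 1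
  obtain ⟨α, hα⟩ := D.hh.exists_norm_eq hc
  obtain ⟨β0, hβ0⟩ := D.hh.exists_norm_eq (c := 1 - c) (by simp [hc])
  obtain ⟨a, ha, ham⟩ := exists_scalar_moved D.hh
  set p := h w' w
  set q := h w' u
  have hp : σ p * p = 1 := by
    simp only [p]; rw [D.hh.swap w w', D.hh.invol, mul_comm]; exact hne
  -- one of `β0` and `a * β0` gives a non-zero trace
  obtain ⟨β, hβ, htr⟩ : ∃ β, σ β * β = 1 - c ∧ σ (α * p) * (β * q) + σ (β * q) * (α * p) ≠ 0 := by
    by_cases ht : σ (α * p) * (β0 * q) + σ (β0 * q) * (α * p) = 0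
    swap
    · exact ⟨β0, hβ0, ht⟩
    refine ⟨a * β0, by rw [map_mul]; linear_combination σ β0 * β0 * ha + hβ0, fun ht2 => ?_⟩
    simp only [map_mul] at ht ht2
    have h3 : (a - σ a) * (σ α * σ p * (β0 * q)) = 0 := by linear_combination ht2 - σ a * ht
    rcases mul_eq_zero.1 h3 with h4 | h4
    · exact ham (sub_eq_zero.1 h4).symm
    · have hα0 : α ≠ 0 := fun e => by rw [e, map_zero, zero_mul] at hα; exact hc0 hα.symm
      have hβ00 : β0 ≠ 0 := fun e => by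
        rw [e, map_zero, zero_mul] at hβ0; exact hc1 (sub_eq_zero.1 hβ0.symm).symm
      have hσα : σ α ≠ 0 := fun e => hα0 (by rw [← D.hh.invol α, e, map_zero])
      have hσp : σ p ≠ 0 := fun e => by rw [e, zero_mul] at hp; exact zero_ne_one hp
      have hq0 : q ≠ 0 := fun e => by rw [e, mul_zero] at hq; exact zero_ne_one hq
      exact mul_ne_zero (mul_ne_zero hσα hσp) (mul_ne_zero hβ00 hq0) h4
  set x := α • w + β • u with hx
  have hxW : D.W0 v x := by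
    refine ⟨⟨⟨add_mem (Submodule.smul_mem _ _ hw.1.1.1) (Submodule.smul_mem _ _ hu.1), ?_⟩, ?_⟩, ?_⟩
    · simp only [hx, map_add, map_smulₛₗ, LinearMap.add_apply, LinearMap.smul_apply, smul_eq_mul, RingHom.id_apply,
        hwu, D.sw hwu, hw.1.1.2, hu.2]
      linear_combination hα + hβ
    · simp [hx, hw.1.2, heu]
    · simp [hx, hw.2, hru]
  have h1 : h w x = α := by simp [hx, hw.1.1.2, hwu]
  have h2 : h w' x = α * p + β * q := by simp [hx, p, q]
  rw [D.val_adj hv hw hxW (by rw [h1, hα]; exact hc1), D.val_adj hv hxW hw' ?_]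
  rw [D.hh.swap w' x, D.hh.invol, h2]
  intro e
  refine htr ?_
  simp only [map_add, map_mul] at e ⊢
  linear_combination e - σ p * p * hα - σ q * q * hβ - c * hp - (1 - c) * hq

end Data

end Cfsg.Agent.PhanAmalgam
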