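/-
Area PhanAmalgam: `SU₂` in coordinates, its automorphisms normalising the diagonal torus, and semilinear monomial
automorphisms of `SUₘ`.
-/
import Cfsg.Agent.Lib.PhanAmalgam.AutSL2
import Cfsg.Agent.Lib.PhanAmalgam.Coset
import Cfsg.Agent.Lib.ClassicalSimple.UnitaryMatrix

set_option autoImplicit false

open scoped Matrix

namespace Cfsg.Agent.PhanAmalgam

open Cfsg.Agent.ClassicalSimple

variable {F : Type*} [Field F] [Fintype F] {q : ℕ} (hF : Fintype.card F = q ^ 2)

theorem hermB_sum {m : ℕ} (u v : Fin m → F) : Forms.hermB hF m u v = ∑ i, Forms.qEnd hF (u i) * v i := by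
  rw [Forms.hermB_apply]
  simp only [hermForm, Forms.qEnd_apply, mul_comm]

theorem mulVec_single_one {m : ℕ} (M : Matrix (Fin m) (Fin m) F) (j : Fin m) :
    M *ᵥ Pi.single j 1 = fun i => M i j := by
  funext i
  simp [Matrix.mulVec_single]

include hF in
theorem su_cols {m : ℕ} (x : Cfsg.SU m F q) (j k : Fin m) :
    ∑ i, Forms.qEnd hF (x.1.1 i j) * x.1.1 i k = if j = k then 1 else 0 := by
  have e := (mem_SU_iff hF x.1).1 x.2 (Pi.single j 1) (Pi.single k 1)
  rw [mulVec_single_one, mulVec_single_one, hermB_sum, hermB_sum] at e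
  rw [e]
  by_cases h : j = k
  · subst h; simp [Pi.single_apply]
  · simp [Pi.single_apply, h, eq_comm]

/-- The shape of the elements of `SU₂`. -/
theorem su2_shape (x : Cfsg.SU 2 F q) :
    x.1.1 1 1 = Forms.qEnd hF (x.1.1 0 0) ∧ x.1.1 1 0 = -Forms.qEnd hF (x.1.1 0 1) ∧
      Forms.qEnd hF (x.1.1 0 0) * x.1.1 0 0 + Forms.qEnd hF (x.1.1 0 1) * x.1.1 0 1 = 1 := by
  set a := x.1.1 0 0
  set b := x.1.1 0 1
  set c := x.1.1 1 0
  set d := x.1.1 1 1
  set σ := Forms.qEnd hF
  have hdet : a * d - b * c = 1 := by rw [← Matrix.det_fin_two]; exact x.1.2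
  have h00 : σ a * a + σ c * c = 1 := by simpa [Fin.sum_univ_two] using su_cols hF x 0 0
  have h11 : σ b * b + σ d * d = 1 := by simpa [Fin.sum_univ_two] using su_cols hF x 1 1
  have h01 : σ a * b + σ c * d = 0 := by simpa [Fin.sum_univ_two] using su_cols hF x 0 1
  have h10 : σ b * a + σ d * c = 0 := by simpa [Fin.sum_univ_two] using su_cols hF x 1 0
  have hd : d = σ a := by linear_combination -d * h00 + σ a * hdet + c * h01
  have hc : c = -σ b := by linear_combination -c * h11 - σ b * hdet + d * h10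
  refine ⟨hd, hc, ?_⟩
  rw [hc, map_neg, Forms.qEnd_qEnd] at h00
  linear_combination h00

include hF in
theorem su2_ext {x y : Cfsg.SU 2 F q} (ha : x.1.1 0 0 = y.1.1 0 0) (hb : x.1.1 0 1 = y.1.1 0 1) : x = y := by
  obtain ⟨x1, x2, -⟩ := su2_shape hF x
  obtain ⟨y1, y2, -⟩ := su2_shape hF y
  refine Subtype.ext (Subtype.ext ?_)
  ext i j
  fin_cases i <;> fin_cases j
  exacts [ha, hb, show x.1.1 1 0 = y.1.1 1 0 by rw [x2, y2, hb], show x.1.1 1 1 = y.1.1 1 1 by rw [x1, y1, ha]]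

theorem su2_mem {a b : F} (h : Forms.qEnd hF a * a + Forms.qEnd hF b * b = 1)
    (hd : Matrix.det !![a, b; -Forms.qEnd hF b, Forms.qEnd hF a] = 1) :
    (⟨!![a, b; -Forms.qEnd hF b, Forms.qEnd hF a], hd⟩ : Matrix.SpecialLinearGroup (Fin 2) F) ∈ Cfsg.SU 2 F q := by
  refine (mem_SU_iff hF _).2 fun u v => ?_
  rw [hermB_sum, hermB_sum]
  simp only [Fin.sum_univ_two, Matrix.mulVec, dotProduct, Matrix.of_apply, Matrix.cons_val', Matrix.cons_val_zero,
    Matrix.cons_val_one, Matrix.empty_val', Matrix.cons_val_fin_one, map_add, map_mul, map_neg, Forms.qEnd_qEnd]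
  linear_combination (Forms.qEnd hF (u 0) * v 0 + Forms.qEnd hF (u 1) * v 1) * h

/-- The element of `SU₂` with first row `(a, b)`. -/
noncomputable def mk2 (a b : F) (h : Forms.qEnd hF a * a + Forms.qEnd hF b * b = 1) : Cfsg.SU 2 F q :=
  ⟨⟨!![a, b; -Forms.qEnd hF b, Forms.qEnd hF a], by rw [Matrix.det_fin_two_of]; linear_combination h⟩,
    su2_mem hF h _⟩

theorem mk2_a {a b : F} (h : Forms.qEnd hF a * a + Forms.qEnd hF b * b = 1) : (mk2 hF a b h).1.1 0 0 = a := rfl

theorem mk2_b {a b : F} (h : Forms.qEnd hF a * a + Forms.qEnd hF b * b = 1) : (mk2 hF a b h).1.1 0 1 = b := rfl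

include hF in
/-- A diagonal element of `SU₂` with distinct eigenvalues. -/
theorem exists_torus : ∃ t : Cfsg.SU 2 F q, t.1.1 0 1 = 0 ∧ t.1.1 0 0 ≠ Forms.qEnd hF (t.1.1 0 0) := by
  obtain ⟨l, hl, hl'⟩ := exists_scalar_moved (hermB_isUnitary hF (n := 2))
  exact ⟨mk2 hF l 0 (by rw [map_zero, zero_mul, add_zero, hl]), rfl, fun e => hl' e.symm⟩

theorem qEnd_comm (τ : F ≃+* F) (x : F) : τ (Forms.qEnd hF x) = Forms.qEnd hF (τ x) := by
  rw [Forms.qEnd_apply, Forms.qEnd_apply, map_pow]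

/-- The fixed subfield of `qEnd`. -/
def fixedSub : Subfield F := RingHom.eqLocusField (Forms.qEnd hF) (RingHom.id F)

theorem mem_fixedSub {x : F} : x ∈ fixedSub hF ↔ Forms.qEnd hF x = x := Iff.rfl

include hF in
/-- An automorphism of `SU₂` stabilising the diagonal torus is monomial semilinear. -/
theorem aut_su2 (θ : Cfsg.SU 2 F q ≃* Cfsg.SU 2 F q) (hT : ∀ x, x.1.1 0 1 = 0 → (θ x).1.1 0 1 = 0) :
    ∃ (μ : F) (τ : F ≃+* F), Forms.qEnd hF μ * μ = 1 ∧
      ∀ x, (θ x).1.1 0 0 = τ (x.1.1 0 0) ∧ (θ x).1.1 0 1 = μ * τ (x.1.1 0 1) := by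
  classical
  set σ := Forms.qEnd hF with hσ
  set σG : GL (Fin 2) F →* GL (Fin 2) F := Matrix.GeneralLinearGroup.map σ with hσG
  obtain ⟨c, hc⟩ := (hermB_isUnitary hF (n := 2)).exists_norm_eq (c := -1) (by rw [map_neg, map_one])
  have hc0 : c ≠ 0 := fun e => by
    rw [e, map_zero, zero_mul] at hc
    exact one_ne_zero (neg_eq_zero.1 hc.symm)
  obtain ⟨t, ht⟩ := (hermB_isUnitary hF (n := 2)).ne_id
  let P0 : Matrix (Fin 2) (Fin 2) F := !![1, t; c⁻¹, σ t / c]
  have hP0 : P0.det ≠ 0 := by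
    rw [Matrix.det_fin_two_of, show (1 : F) * (σ t / c) - t * c⁻¹ = (σ t - t) / c by field_simp]
    exact div_ne_zero (sub_ne_zero.2 ht) hc0
  set P : GL (Fin 2) F := Matrix.GeneralLinearGroup.mkOfDetNeZero P0 hP0
  set z : GL (Fin 2) F := Matrix.GeneralLinearGroup.scalar (Fin 2) (Units.mk0 c hc0)
  have hz : ∀ g : GL (Fin 2) F, z * g = g * z := fun g => AutPSL.scalar_commutes (m := 1) _ g
  have hP : σG P = z * jGL * P := by
    refine Units.ext ?_
    rw [Units.val_mul, Units.val_mul, jGL_val, Matrix.GeneralLinearGroup.coe_scalar, Matrix.scalar_apply]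
    have hcc : σ c⁻¹ = -c := by
      rw [map_inv₀]; exact inv_eq_of_mul_eq_one_right (by linear_combination -hc)
    show P0.map σ = _ * _ * P0
    ext i j
    fin_cases i <;> fin_cases j <;>
      simp [P0, Matrix.mul_apply, Fin.sum_univ_two, Matrix.diagonal, hc0, div_eq_mul_inv, hcc, Forms.qEnd_qEnd,
        Units.val_mk0]
    all_goals (try simp only [σ, Forms.qEnd_qEnd])
    all_goals field_simp
  -- the shape of `SU₂` says that `σ` is conjugation by `jGL`
  have hX : ∀ x : Cfsg.SU 2 F q, σG (Matrix.SpecialLinearGroup.toGL x.1) =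
      jGL * Matrix.SpecialLinearGroup.toGL x.1 * jGL⁻¹ := by
    intro x
    obtain ⟨x1, x2, -⟩ := su2_shape hF x
    refine Units.ext ?_
    rw [Units.val_mul, Units.val_mul, jGL_val, jGL_inv_val]
    show x.1.1.map σ = _ * x.1.1 * _
    ext i j
    fin_cases i <;> fin_cases j <;>
      simp [Matrix.mul_apply, Matrix.vecMul, dotProduct, Fin.sum_univ_two, x1, x2, σ, Forms.qEnd_qEnd]
  set K := fixedSub hF
  haveI : Fintype K := Fintype.ofFinite K
  set ι : K →+* F := K.subtype with hι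
  set ιG : GL (Fin 2) K →* GL (Fin 2) F := Matrix.GeneralLinearGroup.map ι
  have hιfix : ∀ y, σG (ιG y) = ιG y := fun y => Units.ext (by ext i j; exact (y.1 i j).2)
  -- the isomorphism
  have hmem : ∀ y : Matrix.SpecialLinearGroup (Fin 2) K, ∃ x : Cfsg.SU 2 F q,
      Matrix.SpecialLinearGroup.toGL x.1 = P * ιG (Matrix.SpecialLinearGroup.toGL y) * P⁻¹ := by
    intro y
    set X := P * ιG (Matrix.SpecialLinearGroup.toGL y) * P⁻¹ with hXdef
    have hXσ : σG X = jGL * X * jGL⁻¹ := by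
      rw [hXdef, map_mul, map_mul, hιfix, map_inv, hP, hz (jGL), mul_assoc jGL z P, hz P, _root_.mul_inv_rev,
        _root_.mul_inv_rev]
      calc jGL * (P * z) * ιG (Matrix.SpecialLinearGroup.toGL y) * (z⁻¹ * P⁻¹ * jGL⁻¹)
          = jGL * P * (z * ιG (Matrix.SpecialLinearGroup.toGL y)) * z⁻¹ * P⁻¹ * jGL⁻¹ := by group
        _ = _ := by rw [hz]; group
    have hdet : X.val.det = 1 := by
      rw [hXdef, Units.val_mul, Units.val_mul, Matrix.det_units_conj]
      show (y.1.map ι).det = 1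
      rw [← RingHom.mapMatrix_apply, ← RingHom.map_det, y.2, map_one]
    have e := congrArg Units.val hXσ
    rw [Units.val_mul, Units.val_mul, jGL_val, jGL_inv_val] at e
    have e00 : σ (X.val 0 0) = X.val 1 1 := by
      have := congrFun (congrFun e 0) 0
      simp [Matrix.mul_apply, Matrix.vecMul, dotProduct, Fin.sum_univ_two] at this
      exact this
    have e01 : σ (X.val 0 1) = -X.val 1 0 := by
      have := congrFun (congrFun e 0) 1
      simp [Matrix.mul_apply, Matrix.vecMul, dotProduct, Fin.sum_univ_two] at this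
      exact this
    rw [Matrix.det_fin_two] at hdet
    have hN : σ (X.val 0 0) * X.val 0 0 + σ (X.val 0 1) * X.val 0 1 = 1 := by
      rw [e00, e01]; linear_combination hdet
    refine ⟨mk2 hF _ _ hN, Units.ext ?_⟩
    show !![X.val 0 0, X.val 0 1; -σ (X.val 0 1), σ (X.val 0 0)] = X.val
    ext i j
    fin_cases i <;> fin_cases j <;> simp [e00, e01]
  choose Φ0 hΦ0 using hmem
  have hinjGL : Function.Injective fun x : Cfsg.SU 2 F q => Matrix.SpecialLinearGroup.toGL x.1 :=
    fun a b e => Subtype.ext (Subtype.ext (congrArg Units.val e))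
  have hsurj : ∀ x, ∃ y, Φ0 y = x := by
    intro x
    set Y := P⁻¹ * Matrix.SpecialLinearGroup.toGL x.1 * P with hY
    have hYσ : σG Y = Y := by
      rw [hY, map_mul, map_mul, map_inv, hP, hX x]
      calc (z * jGL * P)⁻¹ * (jGL * Matrix.SpecialLinearGroup.toGL x.1 * jGL⁻¹) * (z * jGL * P)
          = P⁻¹ * jGL⁻¹ * (z⁻¹ * (jGL * Matrix.SpecialLinearGroup.toGL x.1 * jGL⁻¹)) * z * jGL * P := by group
        _ = P⁻¹ * jGL⁻¹ * (z⁻¹ * ((jGL * Matrix.SpecialLinearGroup.toGL x.1 * jGL⁻¹) * z)) * jGL * P := by group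
        _ = _ := by rw [← hz]; group
    have hent : ∀ i j, Y.val i j ∈ K := fun i j => congrArg (fun g : GL (Fin 2) F => g.val i j) hYσ
    let M : Matrix (Fin 2) (Fin 2) K := Matrix.of fun i j => ⟨Y.val i j, hent i j⟩
    have hMmap : M.map ι = Y.val := by ext i j; rfl
    have hd : M.det = 1 := ι.injective (by
      rw [RingHom.map_det, RingHom.mapMatrix_apply, hMmap, map_one, hY, Units.val_mul, Units.val_mul,
        Matrix.det_units_conj']
      exact x.1.2)
    refine ⟨⟨M, hd⟩, hinjGL ?_⟩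
    refine (hΦ0 _).trans ?_
    rw [show ιG (Matrix.SpecialLinearGroup.toGL ⟨M, hd⟩) = Y from Units.ext hMmap, hY]
    group
  let Φh : Matrix.SpecialLinearGroup (Fin 2) K →* Cfsg.SU 2 F q := MonoidHom.mk' Φ0 fun a b => hinjGL (by
    beta_reduce
    rw [hΦ0, Subgroup.coe_mul, map_mul, map_mul, map_mul, hΦ0, hΦ0]
    group)
  have hbij : Function.Bijective Φh := by
    refine ⟨fun a b e => ?_, fun x => hsurj x⟩
    have e1 : P * ιG (Matrix.SpecialLinearGroup.toGL a) * P⁻¹ = P * ιG (Matrix.SpecialLinearGroup.toGL b) * P⁻¹ := by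
      rw [← hΦ0, ← hΦ0]; exact congrArg _ (congrArg Subtype.val e)
    have e2 := mul_left_cancel (mul_right_cancel e1)
    refine Subtype.ext ?_
    ext i j
    exact congrArg (fun g : GL (Fin 2) F => g.val i j) e2
  let Φ := MulEquiv.ofBijective Φh hbij
  obtain ⟨g, τ0, hg⟩ := aut_SL2 ((Φ.trans θ).trans Φ.symm)
  obtain ⟨τ, hτ⟩ := exists_aut_ext ι τ0
  set τG : GL (Fin 2) F →* GL (Fin 2) F := Matrix.GeneralLinearGroup.map τ.toRingHom
  set M := P * ιG g * (τG P)⁻¹ with hM
  have key : ∀ x, Matrix.SpecialLinearGroup.toGL (θ x).1 =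
      M * τG (Matrix.SpecialLinearGroup.toGL x.1) * M⁻¹ := by
    intro x
    obtain ⟨y, rfl⟩ := Φ.surjective x
    have e1 : Φ (((Φ.trans θ).trans Φ.symm) y) = θ (Φ y) := Φ.apply_symm_apply _
    rw [← e1, show (Φ (((Φ.trans θ).trans Φ.symm) y)) = Φ0 _ from rfl, show Φ y = Φ0 y from rfl, hΦ0, hΦ0,
      map_mul, map_mul, map_inv]
    have e2 : ιG (Matrix.SpecialLinearGroup.toGL (((Φ.trans θ).trans Φ.symm) y)) =
        ιG g * τG (ιG (Matrix.SpecialLinearGroup.toGL y)) * (ιG g)⁻¹ := by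
      rw [← map_inv]
      refine Units.ext ?_
      show ((((Φ.trans θ).trans Φ.symm) y).1).map ι =
        g.val.map ι * (y.1.map ι).map τ.toRingHom * (g⁻¹ : GL (Fin 2) K).val.map ι
      rw [hg y, Matrix.map_mul, Matrix.map_mul]
      congr 2
      ext i j
      exact (hτ _).symm
    rw [e2, hM]
    group
  have entry : ∀ (x : Cfsg.SU 2 F q) i j,
      M.val i 0 * τ (x.1.1 0 j) + M.val i 1 * τ (x.1.1 1 j) =
        (θ x).1.1 i 0 * M.val 0 j + (θ x).1.1 i 1 * M.val 1 j := by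
    intro x i j
    have e : M * τG (Matrix.SpecialLinearGroup.toGL x.1) = Matrix.SpecialLinearGroup.toGL (θ x).1 * M := by
      rw [key]; group
    have e' := congrArg (fun g : GL (Fin 2) F => g.val i j) e
    simp only [Units.val_mul, Matrix.mul_apply, Fin.sum_univ_two] at e'
    exact e'
  obtain ⟨d, hd0, hd⟩ := exists_torus hF
  have hd' := hT d hd0
  obtain ⟨d1, d2, -⟩ := su2_shape hF d
  obtain ⟨d1', d2', -⟩ := su2_shape hF (θ d)
  rw [hd0, map_zero, neg_zero] at d2
  rw [hd', map_zero, neg_zero] at d2'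
  set l := d.1.1 0 0
  have hτl : τ l ≠ τ (σ l) := fun e => hd (τ.injective e)
  have row : ∀ i, M.val i 0 = 0 ∨ M.val i 1 = 0 := by
    intro i
    have e0 := entry d i 0
    have e1 := entry d i 1
    rw [d2, map_zero, mul_zero, add_zero] at e0
    rw [hd0, map_zero, mul_zero, zero_add, d1] at e1
    by_contra hc
    push Not at hc
    fin_cases i
    · simp only [Fin.zero_eta, hd', zero_mul, add_zero] at e0 e1 hc
      exact hτl ((mul_left_cancel₀ hc.1 (e0.trans (mul_comm _ _))).trans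
        (mul_left_cancel₀ hc.2 (e1.trans (mul_comm _ _))).symm)
    · simp only [Fin.mk_one, d2', zero_mul, zero_add] at e0 e1 hc
      exact hτl ((mul_left_cancel₀ hc.1 (e0.trans (mul_comm _ _))).trans
        (mul_left_cancel₀ hc.2 (e1.trans (mul_comm _ _))).symm)
  have hdetM : M.val 0 0 * M.val 1 1 - M.val 0 1 * M.val 1 0 ≠ 0 := by
    rw [← Matrix.det_fin_two]
    exact (Matrix.GeneralLinearGroup.det M).ne_zero
  have fin : ∀ (μ : F) (τ' : F ≃+* F),
      (∀ x : Cfsg.SU 2 F q, (θ x).1.1 0 0 = τ' (x.1.1 0 0) ∧ (θ x).1.1 0 1 = μ * τ' (x.1.1 0 1)) →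
      ∃ (μ : F) (τ : F ≃+* F), σ μ * μ = 1 ∧
        ∀ x : Cfsg.SU 2 F q, (θ x).1.1 0 0 = τ (x.1.1 0 0) ∧ (θ x).1.1 0 1 = μ * τ (x.1.1 0 1) := by
    intro μ τ' hx
    refine ⟨μ, τ', ?_, hx⟩
    obtain ⟨-, -, h3⟩ := su2_shape hF (θ (mk2 hF 0 1 (by simp)))
    rw [(hx _).1, (hx _).2, mk2_a, mk2_b, map_zero, map_one, mul_one, map_zero, zero_mul, zero_add] at h3
    exact h3
  rcases row 0 with h00 | h01
  · have h01 : M.val 0 1 ≠ 0 := fun e => hdetM (by rw [h00, e]; ring)
    have h10 : M.val 1 0 ≠ 0 := fun e => hdetM (by rw [h00, e]; ring)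
    have h11 : M.val 1 1 = 0 := (row 1).resolve_left h10
    obtain ⟨σe, hσe⟩ : ∃ σe : F ≃+* F, ∀ x, σe x = σ x :=
      ⟨RingEquiv.ofBijective σ (Finite.injective_iff_bijective.1 σ.injective), fun _ => rfl⟩
    refine fin (-(M.val 0 1 / M.val 1 0)) (σe.trans τ) fun x => ?_
    obtain ⟨x1, x2, -⟩ := su2_shape hF x
    have e0 := entry x 0 0
    have e1 := entry x 0 1
    rw [h00, x2] at e0
    rw [h00, x1, h11] at e1
    simp only [RingEquiv.trans_apply, hσe]
    refine ⟨mul_right_cancel₀ h01 (by linear_combination -e1), ?_⟩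
    field_simp
    rw [map_neg] at e0
    linear_combination -e0
  · have h00 : M.val 0 0 ≠ 0 := fun e => hdetM (by rw [h01, e]; ring)
    have h11 : M.val 1 1 ≠ 0 := fun e => hdetM (by rw [h01, e]; ring)
    have h10 : M.val 1 0 = 0 := (row 1).resolve_right h11
    refine fin (M.val 0 0 / M.val 1 1) τ fun x => ?_
    have e0 := entry x 0 0
    have e1 := entry x 0 1
    rw [h01, h10] at e0
    rw [h01] at e1
    refine ⟨mul_right_cancel₀ h00 (by linear_combination -e0), ?_⟩
    field_simp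
    linear_combination -e1

/-- The semilinear monomial change of a matrix. -/
def twistMat {m : ℕ} (c : Fin m → F) (τ : F ≃+* F) (x : Matrix (Fin m) (Fin m) F) : Matrix (Fin m) (Fin m) F :=
  Matrix.diagonal c * x.map τ * Matrix.diagonal fun i => (c i)⁻¹

omit [Fintype F] in
theorem twistMat_apply {m : ℕ} (c : Fin m → F) (τ : F ≃+* F) (x : Matrix (Fin m) (Fin m) F) (i j : Fin m) :
    twistMat c τ x i j = c i * τ (x i j) * (c j)⁻¹ := by
  simp [twistMat]

omit [Fintype F] in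
theorem twistMat_mul {m : ℕ} {c : Fin m → F} (hc : ∀ i, c i ≠ 0) (τ : F ≃+* F) (x y : Matrix (Fin m) (Fin m) F) :
    twistMat c τ (x * y) = twistMat c τ x * twistMat c τ y := by
  ext i k
  simp only [twistMat_apply, Matrix.mul_apply, map_sum, map_mul, Finset.mul_sum, Finset.sum_mul]
  refine Finset.sum_congr rfl fun j _ => ?_
  have := hc j
  field_simp

include hF in
theorem twist_ne {m : ℕ} {c : Fin m → F} (hc : ∀ i, Forms.qEnd hF (c i) * c i = 1) (i : Fin m) : c i ≠ 0 :=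
  fun e => by simpa [e] using hc i

include hF in
theorem twist_mem {m : ℕ} {c : Fin m → F} (hc : ∀ i, Forms.qEnd hF (c i) * c i = 1) (τ : F ≃+* F)
    (x : Cfsg.SU m F q) : ∃ y : Cfsg.SU m F q, y.1.1 = twistMat c τ x.1.1 := by
  have h0 := twist_ne hF hc
  have hdet : (twistMat c τ x.1.1).det = 1 := by
    rw [twistMat, Matrix.det_mul, Matrix.det_mul, Matrix.det_diagonal, Matrix.det_diagonal, mul_comm (∏ i, c i),
      mul_assoc, ← Finset.prod_mul_distrib,
      show x.1.1.map τ = τ.toRingHom.mapMatrix x.1.1 from rfl, ← RingHom.map_det, x.1.2, map_one, one_mul]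
    exact Finset.prod_eq_one fun i _ => mul_inv_cancel₀ (h0 i)
  refine ⟨⟨⟨_, hdet⟩, (mem_SU_iff hF _).2 fun u v => ?_⟩, rfl⟩
  set pre : (Fin m → F) → (Fin m → F) := fun w i => τ.symm ((c i)⁻¹ * w i)
  have hmul : ∀ w i, (twistMat c τ x.1.1 *ᵥ w) i = c i * τ ((x.1.1 *ᵥ pre w) i) := by
    intro w i
    simp only [Matrix.mulVec, dotProduct, twistMat_apply, pre, map_sum, map_mul, RingEquiv.apply_symm_apply,
      Finset.mul_sum]
    exact Finset.sum_congr rfl fun j _ => by ring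
  have e := congrArg τ ((mem_SU_iff hF x.1).1 x.2 (pre u) (pre v))
  rw [hermB_sum, hermB_sum, map_sum, map_sum] at e
  rw [hermB_sum, hermB_sum]
  refine Eq.trans (Finset.sum_congr rfl fun i _ => ?_) (e.trans (Finset.sum_congr rfl fun i _ => ?_))
  · rw [show (⟨_, hdet⟩ : Matrix.SpecialLinearGroup (Fin m) F).1 = twistMat c τ x.1.1 from rfl, hmul, hmul,
      map_mul, map_mul, qEnd_comm hF]
    linear_combination (Forms.qEnd hF (τ ((x.1.1 *ᵥ pre u) i)) * τ ((x.1.1 *ᵥ pre v) i)) * hc i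
  · simp only [pre, map_mul, qEnd_comm hF, RingEquiv.apply_symm_apply, map_inv₀]
    have hσ0 : Forms.qEnd hF (c i) ≠ 0 := left_ne_zero_of_mul_eq_one (hc i)
    field_simp [h0 i]
    linear_combination -(Forms.qEnd hF (u i) * v i) * hc i

/-- The semilinear monomial automorphism of `SUₘ`. -/
noncomputable def twist {m : ℕ} {c : Fin m → F} (hc : ∀ i, Forms.qEnd hF (c i) * c i = 1) (τ : F ≃+* F) :
    Cfsg.SU m F q →* Cfsg.SU m F q :=
  MonoidHom.mk' (fun x => Classical.choose (twist_mem hF hc τ x)) fun a b => by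
    refine Subtype.ext (Subtype.ext ?_)
    exact (Classical.choose_spec (twist_mem hF hc τ (a * b))).trans
      ((twistMat_mul (fun i => twist_ne hF hc i) τ a.1.1 b.1.1).trans
        (congrArg₂ (· * ·) (Classical.choose_spec (twist_mem hF hc τ a)).symm
          (Classical.choose_spec (twist_mem hF hc τ b)).symm))

theorem twist_apply {m : ℕ} {c : Fin m → F} (hc : ∀ i, Forms.qEnd hF (c i) * c i = 1) (τ : F ≃+* F)
    (x : Cfsg.SU m F q) (i j : Fin m) : (twist hF hc τ x).1.1 i j = c i * τ (x.1.1 i j) * (c j)⁻¹ := by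
  rw [← twistMat_apply, ← Classical.choose_spec (twist_mem hF hc τ x)]
  rfl

theorem twist_bijective {m : ℕ} {c : Fin m → F} (hc : ∀ i, Forms.qEnd hF (c i) * c i = 1) (τ : F ≃+* F) :
    Function.Bijective (twist hF hc τ) := by
  refine Finite.injective_iff_bijective.1 fun a b e => Subtype.ext (Subtype.ext ?_)
  ext i j
  have e' : (twist hF hc τ a).1.1 i j = (twist hF hc τ b).1.1 i j := by rw [e]
  rw [twist_apply, twist_apply] at e'
  exact τ.injective (mul_left_cancel₀ (twist_ne hF hc i)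
    (mul_right_cancel₀ (inv_ne_zero (twist_ne hF hc j)) e'))

end Cfsg.Agent.PhanAmalgam
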