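/-
Area PhanAmalgam: the embeddings of `SUₘ` into `SU_N` along injections of the coordinates.
-/
import Cfsg.Agent.Lib.PhanAmalgam.Torus

set_option autoImplicit false

open scoped Matrix

namespace Cfsg.Agent.PhanAmalgam

open Cfsg.Agent.ClassicalSimple

variable {F : Type*} [Field F] [Fintype F] {q : ℕ} (hF : Fintype.card F = q ^ 2)

/-- The standard basis vectors. -/
abbrev E {N : ℕ} (j : Fin N) : Fin N → F := Pi.single j 1

theorem hE_left {N : ℕ} (j : Fin N) (v : Fin N → F) : Forms.hermB hF N (E j) v = v j := by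
  simp [hermB_sum, Pi.single_apply, apply_ite]

omit [Fintype F] in
theorem E_apply {N : ℕ} (j i : Fin N) : (E j : Fin N → F) i = if i = j then 1 else 0 := Pi.single_apply ..

theorem hE_E {N : ℕ} (i j : Fin N) : Forms.hermB hF N (E i) (E j : Fin N → F) = if i = j then 1 else 0 := by
  rw [hE_left, E_apply]

section

variable {m N : ℕ} {f : Fin m → Fin N} (hf : Function.Injective f)

/-- The coordinates split along `f`. -/
noncomputable def splitEquiv : Fin m ⊕ ((Set.range f)ᶜ : Set (Fin N)) ≃ Fin N := by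
  classical
  exact ((Equiv.ofInjective f hf).sumCongr (Equiv.refl _)).trans (Equiv.Set.sumCompl (Set.range f))

omit [Fintype F] in
theorem splitEquiv_inl (k : Fin m) : splitEquiv hf (Sum.inl k) = f k := by simp [splitEquiv]

omit [Fintype F] in
theorem splitEquiv_inr (j : ((Set.range f)ᶜ : Set (Fin N))) : splitEquiv hf (Sum.inr j) = j := by simp [splitEquiv]

/-- The matrix of `A` extended by the identity. -/
noncomputable def embMat (A : Matrix (Fin m) (Fin m) F) : Matrix (Fin N) (Fin N) F :=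
  (Matrix.fromBlocks A 0 0 1).submatrix (splitEquiv hf).symm (splitEquiv hf).symm

omit [Fintype F] in
theorem embMat_in (A : Matrix (Fin m) (Fin m) F) (v : Fin N → F) (k : Fin m) :
    (embMat hf A *ᵥ v) (f k) = (A *ᵥ (v ∘ f)) k := by
  classical
  rw [embMat, Matrix.submatrix_mulVec_equiv, Equiv.symm_symm, Function.comp_apply, Matrix.fromBlocks_mulVec,
    ← splitEquiv_inl hf k, Equiv.symm_apply_apply, Sum.elim_inl, Matrix.zero_mulVec, add_zero]
  exact congrArg (fun w => (A *ᵥ w) k) (funext fun l => by simp [splitEquiv_inl hf])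

omit [Fintype F] in
theorem embMat_out (A : Matrix (Fin m) (Fin m) F) (v : Fin N → F) {j : Fin N} (hj : j ∉ Set.range f) :
    (embMat hf A *ᵥ v) j = v j := by
  classical
  rw [embMat, Matrix.submatrix_mulVec_equiv, Equiv.symm_symm, Function.comp_apply, Matrix.fromBlocks_mulVec,
    show j = splitEquiv hf (Sum.inr ⟨j, hj⟩) from (splitEquiv_inr hf ⟨j, hj⟩).symm, Equiv.symm_apply_apply,
    Sum.elim_inr, Matrix.zero_mulVec, zero_add, Matrix.one_mulVec]
  rfl

omit [Fintype F] in
theorem embMat_mul (A B : Matrix (Fin m) (Fin m) F) : embMat hf (A * B) = embMat hf A * embMat hf B := by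
  classical
  rw [embMat, embMat, embMat, Matrix.submatrix_mul_equiv, Matrix.fromBlocks_multiply]
  simp

omit [Fintype F] in
theorem embMat_det (A : Matrix (Fin m) (Fin m) F) : (embMat hf A).det = A.det := by
  classical
  rw [embMat, Matrix.det_submatrix_equiv_self, Matrix.det_fromBlocks_zero₂₁, Matrix.det_one, mul_one]

omit [Fintype F] in
include hf in
theorem sum_split {M : Type*} [AddCommMonoid M] (g : Fin N → M) :
    ∑ i, g i = (∑ k, g (f k)) + ∑ j : ((Set.range f)ᶜ : Set (Fin N)), g j := by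
  classical
  rw [← (splitEquiv hf).sum_comp, Fintype.sum_sum_type]
  simp [splitEquiv_inl hf, splitEquiv_inr hf]

include hF in
theorem embMat_mem (x : Cfsg.SU m F q) : ∃ y : Cfsg.SU N F q, y.1.1 = embMat hf x.1.1 := by
  refine ⟨⟨⟨_, (embMat_det hf x.1.1).trans x.1.2⟩, (mem_SU_iff hF _).2 fun u v => ?_⟩, rfl⟩
  have e := (mem_SU_iff hF x.1).1 x.2 (u ∘ f) (v ∘ f)
  rw [hermB_sum, hermB_sum] at e
  rw [hermB_sum, hermB_sum]
  refine (sum_split hf _).trans (Eq.trans ?_ (sum_split hf _).symm)
  refine congrArg₂ (· + ·) ?_ (Finset.sum_congr rfl fun j _ => ?_)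
  · simp only [embMat_in hf]
    exact e
  · simp only [embMat_out hf _ _ j.2]

/-- `SUₘ` embedded along `f`. -/
noncomputable def embS : Cfsg.SU m F q →* Cfsg.SU N F q :=
  MonoidHom.mk' (fun x => Classical.choose (embMat_mem hF hf x)) fun a b => Subtype.ext (Subtype.ext
    ((Classical.choose_spec (embMat_mem hF hf (a * b))).trans ((embMat_mul hf a.1.1 b.1.1).trans
      (congrArg₂ (· * ·) (Classical.choose_spec (embMat_mem hF hf a)).symm
        (Classical.choose_spec (embMat_mem hF hf b)).symm))))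

theorem embS_val (x : Cfsg.SU m F q) : (embS hF hf x).1.1 = embMat hf x.1.1 :=
  Classical.choose_spec (embMat_mem hF hf x)

theorem embS_apply (x : Cfsg.SU m F q) (k l : Fin m) : (embS hF hf x).1.1 (f k) (f l) = x.1.1 k l := by
  classical
  rw [embS_val, embMat, Matrix.submatrix_apply, ← splitEquiv_inl hf k, ← splitEquiv_inl hf l,
    Equiv.symm_apply_apply, Equiv.symm_apply_apply, Matrix.fromBlocks_apply₁₁]

/-- `SUₘ` embedded along `f` in the isometry group. -/
noncomputable def embH : Cfsg.SU m F q →* SUH (Forms.hermB hF N) :=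
  (suEquiv hF (n := N)).toMonoidHom.comp (embS hF hf)

theorem embH_smul (x : Cfsg.SU m F q) (v : Fin N → F) : embH hF hf x • v = embMat hf x.1.1 *ᵥ v := by
  show suEquiv hF (embS hF hf x) • v = _
  rw [suEquiv_smul, embS_val]

theorem embH_in (x : Cfsg.SU m F q) (v : Fin N → F) (k : Fin m) :
    (embH hF hf x • v) (f k) = (x.1.1 *ᵥ (v ∘ f)) k := by
  rw [embH_smul, embMat_in]

theorem embH_out (x : Cfsg.SU m F q) (v : Fin N → F) {j : Fin N} (hj : j ∉ Set.range f) :
    (embH hF hf x • v) j = v j := by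
  rw [embH_smul, embMat_out _ _ _ hj]

theorem embH_fix (x : Cfsg.SU m F q) {j : Fin N} (hj : j ∉ Set.range f) :
    embH hF hf x • (E j : Fin N → F) = E j := by
  funext i
  by_cases hi : i ∈ Set.range f
  · obtain ⟨k, rfl⟩ := hi
    have h0 : ((E j : Fin N → F) ∘ f) = 0 := funext fun l => by
      simp [show f l ≠ j from fun e => hj ⟨l, e⟩]
    rw [embH_in, h0, Matrix.mulVec_zero, Pi.zero_apply, E_apply, if_neg fun e => hj ⟨k, e⟩]
  · exact embH_out hF hf x _ hi

theorem embH_injective : Function.Injective (embH hF hf) := by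
  intro a b e
  refine Subtype.ext (Subtype.ext ?_)
  ext k l
  rw [← embS_apply hF hf a, ← embS_apply hF hf b, (suEquiv hF (n := N)).injective e]

/-- The range of the embedding consists of the isometries fixing the other basis vectors. -/
theorem embH_surj {g : SUH (Forms.hermB hF N)} (hg : ∀ j, j ∉ Set.range f → g • (E j : Fin N → F) = E j) :
    ∃ x : Cfsg.SU m F q, embH hF hf x = g := by
  classical
  obtain ⟨y, rfl⟩ := (suEquiv hF (n := N)).surjective g
  have hcol : ∀ i j, y.1.1 i j = (suEquiv hF y • (E j : Fin N → F)) i := fun i j => by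
    rw [suEquiv_smul, mulVec_single_one]
  set A : Matrix (Fin m) (Fin m) F := Matrix.of fun k l => y.1.1 (f k) (f l) with hA
  have hy : y.1.1 = embMat hf A := by
    ext i j
    obtain ⟨i', rfl⟩ := (splitEquiv hf).surjective i
    obtain ⟨j', rfl⟩ := (splitEquiv hf).surjective j
    rw [embMat, Matrix.submatrix_apply, Equiv.symm_apply_apply, Equiv.symm_apply_apply]
    rcases j' with l | ⟨j, hj⟩
    · rcases i' with k | ⟨i, hi⟩
      · simp [hA, splitEquiv_inl hf]
      · rw [Matrix.fromBlocks_apply₂₁, Matrix.zero_apply, splitEquiv_inl, splitEquiv_inr, hcol,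
          ← hE_left hF i (suEquiv hF y • (E (f l) : Fin N → F)),
          ← hg i hi, su_form, hE_left, E_apply, if_neg fun e => hi ⟨l, e.symm⟩]
    · rw [splitEquiv_inr, hcol, hg j hj]
      rcases i' with k | ⟨i, hi⟩
      · rw [Matrix.fromBlocks_apply₁₂, Matrix.zero_apply, splitEquiv_inl, E_apply, if_neg fun e => hj ⟨k, e⟩]
      · simp [Pi.single_apply, splitEquiv_inr hf, Matrix.one_apply]
  have hdet : A.det = 1 := by rw [← embMat_det hf A, ← hy]; exact y.1.2
  refine ⟨⟨⟨A, hdet⟩, (mem_SU_iff hF _).2 fun u v => ?_⟩, congrArg (suEquiv hF) (Subtype.ext (Subtype.ext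
    ((embS_val hF hf _).trans hy.symm)))⟩
  have e := (mem_SU_iff hF y.1).1 y.2 (Function.extend f u (0 : Fin N → F)) (Function.extend f v (0 : Fin N → F))
  have hext : ∀ w : Fin m → F, Function.extend f w (0 : Fin N → F) ∘ f = w := fun w =>
    Function.extend_comp hf w 0
  have hout : ∀ (w : Fin m → F) (j : ((Set.range f)ᶜ : Set (Fin N))), Function.extend f w (0 : Fin N → F) (j : Fin N) = 0 :=
    fun w j => Function.extend_apply' w (0 : Fin N → F) (j : Fin N) j.2
  rw [hy, hermB_sum, hermB_sum] at e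
  replace e := ((sum_split hf _).symm.trans e).trans (sum_split hf _)
  have hmo : ∀ (w : Fin N → F) (j : ((Set.range f)ᶜ : Set (Fin N))), (embMat hf A *ᵥ w) (j : Fin N) = w j :=
    fun w j => embMat_out hf A w j.2
  simp only [embMat_in hf, hmo, hext, hout, mul_zero, Finset.sum_const_zero, add_zero, hf.extend_apply] at e
  rw [hermB_sum, hermB_sum]
  exact e

theorem embH_range :
    (embH hF hf).range = fix (Forms.hermB hF N) ((E : Fin N → Fin N → F) '' (Set.range f)ᶜ) := by
  refine le_antisymm ?_ fun g hg => embH_surj hF hf fun j hj => hg _ ⟨j, hj, rfl⟩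
  rintro _ ⟨x, rfl⟩ _ ⟨j, hj, rfl⟩
  exact embH_fix hF hf x hj

end

theorem embH_comp {k m N : ℕ} {g : Fin k → Fin m} {f : Fin m → Fin N} (hg : Function.Injective g)
    (hf : Function.Injective f) (x : Cfsg.SU k F q) :
    embH hF hf (embS hF hg x) = embH hF (hf.comp hg) x := by
  refine su_ext fun v => ?_
  funext i
  by_cases hi : i ∈ Set.range f
  · obtain ⟨j, rfl⟩ := hi
    rw [embH_in, embS_val]
    by_cases hj : j ∈ Set.range g
    · obtain ⟨l, rfl⟩ := hj
      rw [embMat_in, show f (g l) = (f ∘ g) l from rfl, embH_in]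
      rfl
    · rw [embMat_out _ _ _ hj, embH_out hF _ _ _ fun ⟨l, e⟩ => hj ⟨l, hf e⟩]
      rfl
  · rw [embH_out hF hf _ _ hi, embH_out hF _ _ _ fun ⟨l, e⟩ => hi ⟨g l, e⟩]

end Cfsg.Agent.PhanAmalgam
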