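/-
Area PhanAmalgam: a weak Phan system can be parametrised by homomorphisms of `SU₃` agreeing on the overlaps.
-/
import Cfsg.Agent.Lib.PhanAmalgam.Emb
import Cfsg.Prelude.Def_PhanSystems

set_option autoImplicit false

open scoped Matrix

namespace Cfsg.Agent.PhanAmalgam

open Cfsg.Agent.ClassicalSimple

variable {F : Type*} [Field F] [Fintype F] {q : ℕ} (hF : Fintype.card F = q ^ 2)

theorem suBlock_eq {m N : ℕ} {f : Fin m → Fin N} (hf : Function.Injective f) (s : Set (Fin N))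
    (hs : ∀ k, k ∈ s ↔ k ∈ Set.range f) : Cfsg.suBlock N F q s = (embS hF hf).range := by
  classical
  apply le_antisymm
  · rw [suBlock, Subgroup.closure_le]
    intro A hA
    obtain ⟨x, hx⟩ := embH_surj hF hf (g := suEquiv hF A) fun j hj => by
      obtain ⟨h1, h2⟩ := hA j fun e => hj ((hs j).1 e)
      funext i
      rw [suEquiv_smul, mulVec_single_one]
      by_cases hi : i = j
      · subst hi; rw [E_apply, if_pos rfl]; exact h1
      · rw [E_apply, if_neg hi]; exact (h2 i hi).2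
    exact ⟨x, (suEquiv hF (n := N)).injective hx⟩
  · rintro _ ⟨x, rfl⟩
    refine Subgroup.subset_closure fun k hk => ?_
    have hk' : k ∉ Set.range f := fun e => hk ((hs k).2 e)
    have hcol : ∀ i, (embS hF hf x).1.1 i k = (E k : Fin N → F) i := fun i => by
      have e := congrFun (embH_fix hF hf x hk') i
      rwa [embH_smul, mulVec_single_one, ← embS_val hF] at e
    refine ⟨by rw [hcol, E_apply, if_pos rfl], fun l hl => ⟨?_, by rw [hcol, E_apply, if_neg hl]⟩⟩
    have e := congrFun (mulVec_single_one (embMat hf x.1.1) l) k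
    rw [embMat_out _ _ _ hk'] at e
    rw [embS_val, ← e, Pi.single_apply, if_neg hl.symm]

/-- The embeddings of `SU₂` into `SU₃`. -/
noncomputable def e01 : Cfsg.SU 2 F q →* Cfsg.SU 3 F q := embS hF (Fin.castSucc_injective 2)

@[inherit_doc e01]
noncomputable def e12 : Cfsg.SU 2 F q →* Cfsg.SU 3 F q := embS hF (Fin.succ_injective 2)

theorem suBlock_01 : Cfsg.suBlock 3 F q {0, 1} = (e01 hF).range :=
  suBlock_eq hF (Fin.castSucc_injective 2) _ fun k => by
    fin_cases k <;> simp <;> decide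

theorem suBlock_12 : Cfsg.suBlock 3 F q {1, 2} = (e12 hF).range :=
  suBlock_eq hF (Fin.succ_injective 2) _ fun k => by
    fin_cases k <;> simp <;> decide

theorem not_range_01 : (2 : Fin 3) ∉ Set.range (Fin.castSucc : Fin 2 → Fin 3) := by
  rintro ⟨k, hk⟩; fin_cases k <;> simp_all [Fin.ext_iff]

theorem not_range_12 : (0 : Fin 3) ∉ Set.range (Fin.succ : Fin 2 → Fin 3) := by
  rintro ⟨k, hk⟩; exact Fin.succ_ne_zero k hk

theorem twist_embS {m N : ℕ} {f : Fin m → Fin N} (hf : Function.Injective f) {c : Fin N → F}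
    (hc : ∀ i, Forms.qEnd hF (c i) * c i = 1) (τ : F ≃+* F) (x : Cfsg.SU m F q) :
    twist hF hc τ (embS hF hf x) = embS hF hf (twist hF (c := c ∘ f) (fun i => hc (f i)) τ x) := by
  classical
  refine Subtype.ext (Subtype.ext ?_)
  ext i j
  obtain ⟨i, rfl⟩ := (splitEquiv hf).surjective i
  obtain ⟨j, rfl⟩ := (splitEquiv hf).surjective j
  rw [twist_apply, embS_val, embS_val, embMat, embMat]
  simp only [Matrix.submatrix_apply, Equiv.symm_apply_apply]
  rcases i with k | ⟨i, hi⟩ <;> rcases j with l | ⟨j, hj⟩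
  · simp [twist_apply, splitEquiv_inl hf]
  · simp
  · simp
  · simp only [Matrix.fromBlocks_apply₂₂, splitEquiv_inr, Matrix.one_apply]
    by_cases hij : i = j
    · subst hij; simp [mul_inv_cancel₀ (twist_ne hF hc i)]
    · simp [hij]

theorem col_embS {m N : ℕ} {f : Fin m → Fin N} (hf : Function.Injective f) (x : Cfsg.SU m F q) (i l : Fin m) :
    (suEquiv hF (embS hF hf x) • (E (f l) : Fin N → F)) (f i) = x.1.1 i l := by
  rw [suEquiv_smul, mulVec_single_one]
  exact embS_apply hF hf x i l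

theorem e01_diag_E {x : Cfsg.SU 2 F q} (hx : x.1.1 0 1 = 0) :
    suEquiv hF (e01 hF x) • (E 0 : Fin 3 → F) = x.1.1 0 0 • E 0 := by
  obtain ⟨-, x2, -⟩ := su2_shape hF x
  rw [hx, map_zero, neg_zero] at x2
  funext i
  by_cases hi : i ∈ Set.range (Fin.castSucc : Fin 2 → Fin 3)
  · obtain ⟨i, rfl⟩ := hi
    refine (col_embS hF (Fin.castSucc_injective 2) x i 0).trans ?_
    fin_cases i <;> simp [x2]
  · have e := embH_out hF (Fin.castSucc_injective 2) x (E 0 : Fin 3 → F) hi
    have hi0 : i ≠ 0 := fun e => hi ⟨0, e.symm⟩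
    rw [Pi.smul_apply, E_apply, if_neg hi0, smul_zero]
    rw [E_apply, if_neg hi0] at e
    exact e

theorem e01_diag_E_inv {x : Cfsg.SU 2 F q} (hx : x.1.1 0 1 = 0) :
    x.1.1 0 0 ≠ 0 ∧ (suEquiv hF (e01 hF x))⁻¹ • (E 0 : Fin 3 → F) = (x.1.1 0 0)⁻¹ • E 0 := by
  have hne : x.1.1 0 0 ≠ 0 := fun e => by
    obtain ⟨-, -, h3⟩ := su2_shape hF x
    simp [e, hx] at h3
  exact ⟨hne, by rw [inv_smul_eq_iff, su_scal, e01_diag_E hF hx, smul_smul, inv_mul_cancel₀ hne, one_smul]⟩

variable {G : Type*} [Group G]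

/-- A parametrisation of a standard pair. -/
structure Std (U U' V : Subgroup G) (ψ : Cfsg.SU 3 F q →* G) : Prop where
  ker_le : ψ.ker ≤ Subgroup.center (Cfsg.SU 3 F q)
  range_eq : ψ.range = V
  r01 : (ψ.comp (e01 hF)).range = U
  r12 : (ψ.comp (e12 hF)).range = U'

theorem exists_std {U U' V : Subgroup G} (h : Cfsg.IsStandardUnitaryPair V U U' F q) :
    ∃ ψ : Cfsg.SU 3 F q →* G, Std hF U U' V ψ := by
  rcases h with ⟨ψ, h1, h2⟩ | ⟨ψ, h1, h2⟩
  · refine ⟨V.subtype.comp ψ.toMonoidHom, ?_, ?_, ?_, ?_⟩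
    · intro x hx
      rw [MonoidHom.mem_ker] at hx
      have : ψ x = 1 := Subtype.ext hx
      rw [(map_eq_one_iff ψ ψ.injective).1 this]
      exact one_mem _
    · rw [MonoidHom.range_comp, MonoidHom.range_eq_top.2 ψ.surjective, ← MonoidHom.range_eq_map, Subgroup.range_subtype]
    · rw [MonoidHom.range_comp, ← suBlock_01 hF, h1]
    · rw [MonoidHom.range_comp, ← suBlock_12 hF, h2]
  · refine ⟨V.subtype.comp (ψ.toMonoidHom.comp (QuotientGroup.mk' (Subgroup.center (Cfsg.SU 3 F q)))), ?_, ?_, ?_, ?_⟩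
    · intro x hx
      rw [MonoidHom.mem_ker] at hx
      have : ψ (QuotientGroup.mk x) = 1 := Subtype.ext hx
      exact (QuotientGroup.eq_one_iff x).1 ((map_eq_one_iff ψ ψ.injective).1 this)
    · rw [MonoidHom.range_comp, MonoidHom.range_eq_top.2 (ψ.surjective.comp (QuotientGroup.mk'_surjective _)),
        ← MonoidHom.range_eq_map, Subgroup.range_subtype]
    · rw [MonoidHom.range_comp, ← suBlock_01 hF, h1]
    · rw [MonoidHom.range_comp, ← suBlock_12 hF, h2]

section

variable {hF}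
variable {U U' V : Subgroup G} {ψ : Cfsg.SU 3 F q →* G} (h : Std hF U U' V ψ)
include h

theorem Std.eq_mul_center {A B : Cfsg.SU 3 F q} (e : ψ A = ψ B) :
    ∃ z ∈ Subgroup.center (Cfsg.SU 3 F q), A = B * z :=
  ⟨B⁻¹ * A, h.ker_le (by rw [MonoidHom.mem_ker, map_mul, map_inv, e, inv_mul_cancel]), by
    rw [mul_inv_cancel_left]⟩

omit h in
theorem central_of_fix {z : Cfsg.SU 3 F q} (hz : z ∈ Subgroup.center (Cfsg.SU 3 F q)) {j : Fin 3}
    (hj : suEquiv hF z • (E j : Fin 3 → F) = E j) : z = 1 := by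
  have hmove : ∀ g : Cfsg.SU 3 F q, ∀ v : Fin 3 → F, suEquiv hF z • v = v →
      suEquiv hF z • (suEquiv hF g • v) = suEquiv hF g • v := by
    intro g v hv
    rw [← mul_smul, ← map_mul, ← Subgroup.mem_center_iff.1 hz g, map_mul, mul_smul, hv]
  -- signed transpositions
  set w : Cfsg.SU 2 F q := mk2 hF 0 1 (by simp)
  have key : ∀ {f : Fin 2 → Fin 3} (hf : Function.Injective f),
      (suEquiv hF z • (E (f 0) : Fin 3 → F) = E (f 0) ↔ suEquiv hF z • (E (f 1) : Fin 3 → F) = E (f 1)) := by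
    intro f hf
    have hw : ∀ l i, (suEquiv hF (embS hF hf w) • (E (f l) : Fin 3 → F)) (f i) = w.1.1 i l := by
      exact fun l i => col_embS hF hf w i l
    have hout : ∀ l i, i ∉ Set.range f → (suEquiv hF (embS hF hf w) • (E (f l) : Fin 3 → F)) i = 0 := by
      intro l i hi
      have e := embH_out hF hf w (E (f l) : Fin 3 → F) hi
      rw [E_apply, if_neg fun e => hi ⟨l, e.symm⟩] at e
      exact e
    have h0 : suEquiv hF (embS hF hf w) • (E (f 0) : Fin 3 → F) = (-1 : F) • E (f 1) := by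
      funext i
      by_cases hi : i ∈ Set.range f
      · obtain ⟨i, rfl⟩ := hi
        rw [hw]
        fin_cases i <;> simp [w, mk2, hf.eq_iff]
      · rw [hout 0 i hi, Pi.smul_apply, E_apply, if_neg fun e => hi ⟨1, e.symm⟩, smul_zero]
    have h1 : suEquiv hF (embS hF hf w) • (E (f 1) : Fin 3 → F) = E (f 0) := by
      funext i
      by_cases hi : i ∈ Set.range f
      · obtain ⟨i, rfl⟩ := hi
        rw [hw]
        fin_cases i <;> simp [w, mk2, hf.eq_iff]
      · rw [hout 1 i hi, E_apply, if_neg fun e => hi ⟨0, e.symm⟩]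
    constructor
    · intro e
      have e' := hmove (embS hF hf w) _ e
      rw [h0, su_scal] at e'
      exact smul_right_injective _ (neg_ne_zero.2 one_ne_zero) e'
    · intro e
      have e' := hmove (embS hF hf w) _ e
      rwa [h1] at e'
  have k01 := key (Fin.castSucc_injective 2)
  have k12 := key (Fin.succ_injective 2)
  have h1 : suEquiv hF z • (E 1 : Fin 3 → F) = E 1 := by
    fin_cases j
    exacts [k01.1 hj, hj, k12.2 hj]
  have hall : ∀ i : Fin 3, suEquiv hF z • (E i : Fin 3 → F) = E i := by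
    intro i; fin_cases i
    exacts [k01.2 h1, h1, k12.1 h1]
  refine Subtype.ext (Subtype.ext ?_)
  ext i k
  have e := congrFun (hall k) i
  rw [suEquiv_smul, mulVec_single_one, E_apply] at e
  rw [show z.1.1 i k = _ from e]
  simp [Matrix.one_apply]

theorem Std.inj01 : Function.Injective (ψ.comp (e01 hF)) := by
  rw [injective_iff_map_eq_one]
  intro x hx
  refine embH_injective hF (Fin.castSucc_injective 2) ?_
  have := central_of_fix (h.ker_le hx) (j := 2) (embH_fix hF _ x not_range_01)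
  show suEquiv hF (e01 hF x) = suEquiv hF (embS hF _ 1)
  rw [this, map_one (embS hF (Fin.castSucc_injective 2))]

theorem Std.inj12 : Function.Injective (ψ.comp (e12 hF)) := by
  rw [injective_iff_map_eq_one]
  intro x hx
  refine embH_injective hF (Fin.succ_injective 2) ?_
  have := central_of_fix (h.ker_le hx) (j := 0) (embH_fix hF _ x not_range_12)
  show suEquiv hF (e12 hF x) = suEquiv hF (embS hF _ 1)
  rw [this, map_one (embS hF (Fin.succ_injective 2))]

theorem Std.mem_left (x : Cfsg.SU 2 F q) : ψ (e01 hF x) ∈ U := h.r01 ▸ ⟨x, rfl⟩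

theorem Std.mem_right (x : Cfsg.SU 2 F q) : ψ (e12 hF x) ∈ U' := h.r12 ▸ ⟨x, rfl⟩

/-- An element of the first block normalising the second is diagonal. -/
theorem Std.diag_of_normalise {x : Cfsg.SU 2 F q}
    (hx : ∀ y ∈ U', ψ (e01 hF x) * y * (ψ (e01 hF x))⁻¹ ∈ U') : x.1.1 0 1 = 0 := by
  set g := e01 hF x
  have hconj : ∀ k, ∃ k', ∃ z ∈ Subgroup.center (Cfsg.SU 3 F q), g * e12 hF k * g⁻¹ = e12 hF k' * z := by
    intro k
    obtain ⟨k', hk'⟩ : ψ g * ψ (e12 hF k) * (ψ g)⁻¹ ∈ (ψ.comp (e12 hF)).range := by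
      rw [h.r12]; exact hx _ (h.mem_right k)
    exact ⟨k', h.eq_mul_center (by rw [map_mul, map_mul, map_inv]; exact hk'.symm)⟩
  obtain ⟨t, ht0, ht⟩ := exists_torus hF
  set s : Cfsg.SU 2 F q := mk2 hF 0 1 (by simp) with hs
  obtain ⟨t', z, hz, htt⟩ := hconj t
  obtain ⟨s', z', hz', hss⟩ := hconj s
  set w := t * s * t⁻¹ * s⁻¹
  have hfix : g * e12 hF w * g⁻¹ = e12 hF (t' * s' * t'⁻¹ * s'⁻¹) := by
    have e : ∀ a b : Cfsg.SU 3 F q, a * z * (b * z') * (a * z)⁻¹ * (b * z')⁻¹ = a * b * a⁻¹ * b⁻¹ := fun a b => by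
      have c1 := fun y => Subgroup.mem_center_iff.1 hz y
      have c2 := fun y => Subgroup.mem_center_iff.1 hz' y
      calc a * z * (b * z') * (a * z)⁻¹ * (b * z')⁻¹ = a * z * (b * z') * z⁻¹ * a⁻¹ * z'⁻¹ * b⁻¹ := by group
        _ = a * ((b * z') * z) * z⁻¹ * a⁻¹ * z'⁻¹ * b⁻¹ := by rw [mul_assoc a z, ← c1 (b * z')]
        _ = a * b * (z' * a⁻¹) * z'⁻¹ * b⁻¹ := by group
        _ = _ := by rw [← c2 a⁻¹]; group
    have e' := e (e12 hF t') (e12 hF s')
    rw [← htt, ← hss] at e'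
    rw [map_mul, map_mul, map_mul, map_inv, map_inv, map_mul, map_mul, map_mul, map_inv, map_inv, ← e']
    group
  -- the commutator fixes the image of the first basis vector
  set u := (suEquiv hF g)⁻¹ • (E 0 : Fin 3 → F) with hu
  have hw : suEquiv hF (e12 hF w) • u = u := by
    have e : suEquiv hF (g * e12 hF w * g⁻¹) • (E 0 : Fin 3 → F) = E 0 := by
      rw [hfix]; exact embH_fix hF _ _ not_range_12
    rw [map_mul, map_mul, map_inv, mul_smul, mul_smul, ← hu] at e
    exact smul_left_cancel (suEquiv hF g) (e.trans (smul_inv_smul _ _).symm)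
  have hu2 : u 2 = 0 := by
    rw [← hE_left hF (2 : Fin 3) u, hu, ← su_form (suEquiv hF g), smul_inv_smul, show suEquiv hF g • (E 2 : Fin 3 → F) = E 2 from
      embH_fix hF _ x not_range_01, hE_E, if_neg (by decide)]
  have hu1 : u 1 = Forms.qEnd hF (x.1.1 0 1) := by
    rw [← hE_left hF (1 : Fin 3) u, hu, ← su_form (suEquiv hF g), smul_inv_smul, (hermB_isUnitary hF).swap, hE_left]
    exact congrArg _ (col_embS hF (Fin.castSucc_injective 2) x 0 1)
  have hw00 : w.1.1 0 0 = t.1.1 0 0 * t.1.1 0 0 := by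
    obtain ⟨t1, t2, tN⟩ := su2_shape hF t
    rw [ht0, map_zero, neg_zero] at t2
    rw [ht0, mul_zero, add_zero] at tN
    have ti : ∀ i j, (t⁻¹).1.1 i j = ![![Forms.qEnd hF (t.1.1 0 0), 0], ![0, t.1.1 0 0]] i j := by
      intro i j
      rw [InvMemClass.coe_inv, Matrix.SpecialLinearGroup.coe_inv, Matrix.adjugate_fin_two]
      fin_cases i <;> fin_cases j <;> simp [t1, t2, ht0]
    have si : ∀ i j, (s⁻¹).1.1 i j = ![![(0 : F), -1], ![1, 0]] i j := by
      intro i j
      rw [InvMemClass.coe_inv, Matrix.SpecialLinearGroup.coe_inv, Matrix.adjugate_fin_two]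
      fin_cases i <;> fin_cases j <;> simp [hs, mk2]
    simp only [w, Subgroup.coe_mul, Matrix.SpecialLinearGroup.coe_mul, Matrix.mul_apply, Fin.sum_univ_two, ti, si]
    simp [hs, mk2, ht0, t2]
  have he : (suEquiv hF (e12 hF w) • u) 1 = w.1.1 0 0 * u 1 := by
    have e := embH_in hF (Fin.succ_injective 2) w u 0
    simp only [Matrix.mulVec, dotProduct, Fin.sum_univ_two, Function.comp_apply] at e
    rw [show Fin.succ (1 : Fin 2) = (2 : Fin 3) from rfl, hu2, mul_zero, add_zero] at e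
    exact e
  rw [hw, hw00, hu1] at he
  have hne : t.1.1 0 0 * t.1.1 0 0 - 1 ≠ 0 := by
    obtain ⟨-, -, tN⟩ := su2_shape hF t
    rw [ht0, mul_zero, add_zero] at tN
    intro e
    have h0 : t.1.1 0 0 ≠ 0 := fun h0 => by rw [h0] at tN; simp at tN
    exact ht (mul_right_cancel₀ h0 (by linear_combination e - tN))
  have h0 : (t.1.1 0 0 * t.1.1 0 0 - 1) * Forms.qEnd hF (x.1.1 0 1) = 0 := by linear_combination -he
  have := congrArg (Forms.qEnd hF) ((mul_eq_zero.1 h0).resolve_left hne)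
  rwa [Forms.qEnd_qEnd, map_zero] at this

theorem Std.normalise_of_diag {x : Cfsg.SU 2 F q} (hx : x.1.1 0 1 = 0) {y : G} (hy : y ∈ U') :
    ψ (e01 hF x) * y * (ψ (e01 hF x))⁻¹ ∈ U' := by
  obtain ⟨k, rfl⟩ : y ∈ (ψ.comp (e12 hF)).range := by rw [h.r12]; exact hy
  obtain ⟨hne, hinv⟩ := e01_diag_E_inv hF hx
  have hg0 := e01_diag_E hF hx
  obtain ⟨k', hk'⟩ := embH_surj hF (Fin.succ_injective 2)
    (g := suEquiv hF (e01 hF x * e12 hF k * (e01 hF x)⁻¹)) fun j hj => by
      have hj0 : j = 0 := by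
        by_contra h0
        exact hj ⟨j.pred h0, Fin.succ_pred j h0⟩
      subst hj0
      rw [map_mul, map_mul, map_inv, mul_smul, mul_smul, hinv, su_scal,
        show suEquiv hF (e12 hF k) • (E 0 : Fin 3 → F) = E 0 from embH_fix hF _ _ not_range_12, su_scal, hg0,
        smul_smul, inv_mul_cancel₀ hne, one_smul]
  have e : e12 hF k' = e01 hF x * e12 hF k * (e01 hF x)⁻¹ := (suEquiv hF (n := 3)).injective hk'
  have := h.mem_right k'
  rw [e, map_mul, map_mul, map_inv] at this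
  exact this

/-- The main step of the alignment. -/
theorem Std.align {U'' V' : Subgroup G} {φ : Cfsg.SU 3 F q →* G} (hφ : Std hF U' U'' V' φ)
    (hc : ∀ a ∈ U, ∀ b ∈ U'', a * b = b * a) :
    ∃ φ' : Cfsg.SU 3 F q →* G, Std hF U' U'' V' φ' ∧ ∀ x, φ' (e01 hF x) = ψ (e12 hF x) := by
  set a := ψ.comp (e12 hF)
  set b := φ.comp (e01 hF)
  set θ : Cfsg.SU 2 F q ≃* Cfsg.SU 2 F q := (MonoidHom.ofInjective h.inj12).trans
    ((MulEquiv.subgroupCongr (h.r12.trans hφ.r01.symm)).trans (MonoidHom.ofInjective hφ.inj01).symm)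
  have hθ : ∀ x, b (θ x) = a x := fun x => by
    simp only [θ, MulEquiv.trans_apply]
    exact MonoidHom.apply_ofInjective_symm hφ.inj01 _
  obtain ⟨t, ht0, ht⟩ := exists_torus hF
  have back : ∀ x, (θ x).1.1 0 1 = 0 → x.1.1 0 1 = 0 := by
    intro x hx
    obtain ⟨x1, x2, -⟩ := su2_shape hF x
    obtain ⟨t1, t2, tN⟩ := su2_shape hF t
    rw [ht0, map_zero, neg_zero] at t2
    rw [ht0, mul_zero, add_zero] at tN
    set d := ψ (e01 hF t)
    obtain ⟨x', hx'⟩ : d * a x * d⁻¹ ∈ (ψ.comp (e12 hF)).range := by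
      rw [h.r12]; exact h.normalise_of_diag ht0 (h.mem_right x)
    have hd : d ∈ U := h.mem_left t
    have hdiag : (θ x').1.1 0 1 = 0 := hφ.diag_of_normalise fun y hy => by
      have e1 : φ (e01 hF (θ x')) = d * φ (e01 hF (θ x)) * d⁻¹ := by
        show b (θ x') = d * b (θ x) * d⁻¹
        rw [hθ, hθ]; exact hx'
      have e2 : d⁻¹ * y * d = y := by rw [mul_assoc, ← hc d hd y hy, inv_mul_cancel_left]
      have e3 := hφ.normalise_of_diag hx hy
      have e4 : d * φ (e01 hF (θ x)) * d⁻¹ * y * (d * φ (e01 hF (θ x)) * d⁻¹)⁻¹ =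
          d * (φ (e01 hF (θ x)) * y * (φ (e01 hF (θ x)))⁻¹) * d⁻¹ := by
        calc _ = d * φ (e01 hF (θ x)) * (d⁻¹ * y * d) * (φ (e01 hF (θ x)))⁻¹ * d⁻¹ := by group
          _ = _ := by rw [e2]; group
      rw [e1, e4, hc d hd _ e3, mul_inv_cancel_right]
      exact e3
    -- `x'` is the twist of `x`, and they commute
    have hcomm : x * x' = x' * x := by
      refine h.inj12 ?_
      show a (x * x') = a (x' * x)
      rw [← hθ, ← hθ]
      refine congrArg b (su2_ext hF ?_ ?_) <;>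
      · rw [map_mul, map_mul]
        obtain ⟨y1, y2, -⟩ := su2_shape hF (θ x)
        obtain ⟨z1, z2, -⟩ := su2_shape hF (θ x')
        simp only [Subgroup.coe_mul, Matrix.SpecialLinearGroup.coe_mul, Matrix.mul_apply, Fin.sum_univ_two, hx, hdiag,
          y2, z2, map_zero, neg_zero]
        ring
    have hx'e : x'.1.1 0 0 = x.1.1 0 0 * (Forms.qEnd hF (t.1.1 0 0) * t.1.1 0 0) ∧
        x'.1.1 0 1 = Forms.qEnd hF (t.1.1 0 0) * x.1.1 0 1 := by
      have hex : e12 hF x' = e01 hF t * e12 hF x * (e01 hF t)⁻¹ := by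
        obtain ⟨z, hz, e⟩ := h.eq_mul_center
          (show ψ (e01 hF t * e12 hF x * (e01 hF t)⁻¹) = ψ (e12 hF x') by
            rw [map_mul, map_mul, map_inv]; exact hx'.symm)
        -- the central factor fixes the first basis vector
        have hz1 : z = 1 := by
          refine central_of_fix (hF := hF) hz (j := 0) ?_
          have e' : z = (e12 hF x')⁻¹ * (e01 hF t * e12 hF x * (e01 hF t)⁻¹) := by rw [e, inv_mul_cancel_left]
          obtain ⟨hne, hinv⟩ := e01_diag_E_inv hF ht0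
          have hg0 := e01_diag_E hF ht0
          have h0 : ∀ k, suEquiv hF (e12 hF k) • (E 0 : Fin 3 → F) = E 0 :=
            fun k => embH_fix hF _ _ not_range_12
          rw [e', map_mul, map_inv, mul_smul, map_mul, map_mul, map_inv, mul_smul, mul_smul, hinv, su_scal, h0,
            su_scal, hg0, smul_smul, inv_mul_cancel₀ hne, one_smul, inv_smul_eq_iff, h0]
        rw [e, hz1, mul_one]
      have ent : ∀ k l : Fin 2, x'.1.1 k l = (e01 hF t * e12 hF x * (e01 hF t)⁻¹).1.1 k.succ l.succ := fun k l => by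
        rw [← hex]; exact (embS_apply hF (Fin.succ_injective 2) x' k l).symm
      rw [← map_inv] at ent
      have tinv : ∀ i j, (t⁻¹).1.1 i j = ![![Forms.qEnd hF (t.1.1 0 0), 0], ![0, t.1.1 0 0]] i j := by
        intro i j
        rw [InvMemClass.coe_inv, Matrix.SpecialLinearGroup.coe_inv, Matrix.adjugate_fin_two]
        fin_cases i <;> fin_cases j <;> simp [t1, t2, ht0]
      have h01 : ∀ y : Cfsg.SU 2 F q, ∀ i j : Fin 3, (e01 hF y).1.1 i j =
          ![![y.1.1 0 0, y.1.1 0 1, 0], ![y.1.1 1 0, y.1.1 1 1, 0], ![0, 0, 1]] i j := by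
        intro y i j
        have hcol := congrFun (embH_fix hF (Fin.castSucc_injective 2) y not_range_01) i
        rw [embH_smul, mulVec_single_one, E_apply, ← embS_val hF] at hcol
        have hrow := congrFun (mulVec_single_one (embMat (Fin.castSucc_injective 2) y.1.1) j) 2
        rw [embMat_out _ _ _ not_range_01, ← embS_val hF, Pi.single_apply] at hrow
        fin_cases i <;> fin_cases j
        exacts [embS_apply hF (Fin.castSucc_injective 2) y 0 0, embS_apply hF (Fin.castSucc_injective 2) y 0 1, hcol,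
          embS_apply hF (Fin.castSucc_injective 2) y 1 0, embS_apply hF (Fin.castSucc_injective 2) y 1 1, hcol,
          hrow.symm, hrow.symm, hrow.symm]
      have h12 : ∀ y : Cfsg.SU 2 F q, ∀ i j : Fin 3, (e12 hF y).1.1 i j =
          ![![1, 0, 0], ![0, y.1.1 0 0, y.1.1 0 1], ![0, y.1.1 1 0, y.1.1 1 1]] i j := by
        intro y i j
        have hcol := congrFun (embH_fix hF (Fin.succ_injective 2) y not_range_12) i
        rw [embH_smul, mulVec_single_one, E_apply, ← embS_val hF] at hcol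
        have hrow := congrFun (mulVec_single_one (embMat (Fin.succ_injective 2) y.1.1) j) 0
        rw [embMat_out _ _ _ not_range_12, ← embS_val hF, Pi.single_apply] at hrow
        fin_cases i <;> fin_cases j
        exacts [hcol, hrow.symm, hrow.symm, hcol, embS_apply hF (Fin.succ_injective 2) y 0 0,
          embS_apply hF (Fin.succ_injective 2) y 0 1, hcol, embS_apply hF (Fin.succ_injective 2) y 1 0,
          embS_apply hF (Fin.succ_injective 2) y 1 1]
      constructor <;>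
      · rw [ent]
        simp only [Subgroup.coe_mul, Matrix.SpecialLinearGroup.coe_mul, Matrix.mul_apply, Fin.sum_univ_three, h01,
          h12, tinv]
        simp [ht0, t1, t2]
        try ring
    obtain ⟨-, x2', -⟩ := su2_shape hF x'
    rw [tN, mul_one] at hx'e
    have e00 : (x * x').1.1 0 0 = (x' * x).1.1 0 0 := by rw [hcomm]
    simp only [Subgroup.coe_mul, Matrix.SpecialLinearGroup.coe_mul, Matrix.mul_apply, Fin.sum_univ_two, x2, x2',
      hx'e.1, hx'e.2, map_mul, Forms.qEnd_qEnd] at e00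
    have h0 : (t.1.1 0 0 - Forms.qEnd hF (t.1.1 0 0)) * (Forms.qEnd hF (x.1.1 0 1) * x.1.1 0 1) = 0 := by
      linear_combination -e00
    rcases mul_eq_zero.1 ((mul_eq_zero.1 h0).resolve_left (sub_ne_zero.2 ht)) with e | e
    · have := congrArg (Forms.qEnd hF) e
      rwa [Forms.qEnd_qEnd, map_zero] at this
    · exact e
  -- the torus is preserved
  have hT : ∀ x, x.1.1 0 1 = 0 → (θ x).1.1 0 1 = 0 := by
    let T := {x : Cfsg.SU 2 F q // x.1.1 0 1 = 0}
    let r : T → T := fun y => ⟨θ.symm y.1, back _ (by rw [θ.apply_symm_apply]; exact y.2)⟩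
    have hr : Function.Surjective r := Finite.injective_iff_surjective.1 fun a b e =>
      Subtype.ext (θ.symm.injective (congrArg Subtype.val e))
    intro x hx
    obtain ⟨y, hy⟩ := hr ⟨x, hx⟩
    rw [show x = θ.symm y.1 from (congrArg Subtype.val hy).symm, θ.apply_symm_apply]
    exact y.2
  obtain ⟨μ, τ, hμ, hμτ⟩ := aut_su2 hF θ hT
  have hc3 : ∀ i, Forms.qEnd hF (![μ, 1, 1] i) * ![μ, 1, 1] i = 1 := by
    intro i; fin_cases i <;> simp [hμ]
  set α := twist hF hc3 τ
  have hα01 : ∀ x, α (e01 hF x) = e01 hF (θ x) := fun x => by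
    show twist hF hc3 τ (embS hF _ x) = embS hF _ (θ x)
    rw [twist_embS]
    congr 1
    refine su2_ext hF ?_ ?_ <;> rw [twist_apply]
    · rw [(hμτ x).1]
      have h0 : μ ≠ 0 := fun e => by simp [e] at hμ
      simp
      field_simp
    · rw [(hμτ x).2]; simp
  have hα12 : ∀ x, α (e12 hF x) = e12 hF (twist hF (c := ![μ, 1, 1] ∘ Fin.succ) (fun i => hc3 i.succ) τ x) :=
    fun x => twist_embS hF (Fin.succ_injective 2) hc3 τ x
  refine ⟨φ.comp α, ⟨?_, ?_, ?_, ?_⟩, fun x => ?_⟩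
  · intro x hx
    refine Subgroup.mem_center_iff.2 fun y => (twist_bijective hF hc3 τ).1 ?_
    rw [map_mul, map_mul]
    exact Subgroup.mem_center_iff.1 (hφ.ker_le hx) _
  · rw [MonoidHom.range_comp, MonoidHom.range_eq_top.2 (twist_bijective hF hc3 τ).2, ← MonoidHom.range_eq_map,
      hφ.range_eq]
  · refine le_antisymm ?_ fun y hy => ?_
    · rintro _ ⟨x, rfl⟩
      rw [MonoidHom.comp_apply, MonoidHom.comp_apply, hα01]
      exact hφ.mem_left _
    · obtain ⟨x, rfl⟩ : y ∈ (φ.comp (e01 hF)).range := by rw [hφ.r01]; exact hy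
      exact ⟨θ.symm x, by rw [MonoidHom.comp_apply, MonoidHom.comp_apply, hα01, θ.apply_symm_apply]; rfl⟩
  · refine le_antisymm ?_ fun y hy => ?_
    · rintro _ ⟨x, rfl⟩
      rw [MonoidHom.comp_apply, MonoidHom.comp_apply, hα12]
      exact hφ.mem_right _
    · obtain ⟨x, rfl⟩ : y ∈ (φ.comp (e12 hF)).range := by rw [hφ.r12]; exact hy
      obtain ⟨x, rfl⟩ := (twist_bijective hF (c := ![μ, 1, 1] ∘ Fin.succ) (fun i => hc3 i.succ) τ).2 x
      exact ⟨x, by rw [MonoidHom.comp_apply, MonoidHom.comp_apply, hα12]; rfl⟩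
  · rw [MonoidHom.comp_apply, hα01]; exact hθ x

end

/-- Compatible parametrisations of a chain of standard pairs. -/
theorem exists_chain (U : ℕ → Subgroup G) (V : ℕ → Subgroup G) (n : ℕ)
    (hcomm : ∀ i, i + 2 < n → ∀ a ∈ U i, ∀ b ∈ U (i + 2), a * b = b * a)
    (hpair : ∀ i, i + 1 < n → Cfsg.IsStandardUnitaryPair (V i) (U i) (U (i + 1)) F q) :
    ∃ P : ℕ → (Cfsg.SU 3 F q →* G), (∀ i, i + 1 < n → Std hF (U i) (U (i + 1)) (V i) (P i)) ∧
      ∀ i, i + 2 < n → ∀ x, P (i + 1) (e01 hF x) = P i (e12 hF x) := by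
  choose nxt hnxt using fun (i : ℕ) (ψ : Cfsg.SU 3 F q →* G) =>
    show ∃ φ : Cfsg.SU 3 F q →* G, i + 2 < n → Std hF (U i) (U (i + 1)) (V i) ψ →
        Std hF (U (i + 1)) (U (i + 2)) (V (i + 1)) φ ∧ ∀ x, φ (e01 hF x) = ψ (e12 hF x) from by
      by_cases hc : i + 2 < n ∧ Std hF (U i) (U (i + 1)) (V i) ψ
      · obtain ⟨φ, hφ⟩ := exists_std hF (hpair (i + 1) hc.1)
        obtain ⟨φ', h1, h2⟩ := hc.2.align hφ (hcomm i hc.1)
        exact ⟨φ', fun _ _ => ⟨h1, h2⟩⟩
      · exact ⟨ψ, fun a b => absurd ⟨a, b⟩ hc⟩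
  choose first hfirst using show ∃ ψ : Cfsg.SU 3 F q →* G, 1 < n → Std hF (U 0) (U 1) (V 0) ψ from by
    by_cases hc : 1 < n
    · obtain ⟨ψ, h⟩ := exists_std hF (hpair 0 hc)
      exact ⟨ψ, fun _ => h⟩
    · exact ⟨1, fun h => absurd h hc⟩
  let P : ℕ → (Cfsg.SU 3 F q →* G) := fun i => Nat.rec first (fun i ψ => nxt i ψ) i
  have hP : ∀ i, i + 1 < n → Std hF (U i) (U (i + 1)) (V i) (P i) := by
    intro i
    induction i with
    | zero => exact hfirst
    | succ i ih => exact fun hi => (hnxt i (P i) hi (ih (by omega))).1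
  exact ⟨P, hP, fun i hi => (hnxt i (P i) hi (hP i (by omega))).2⟩

end Cfsg.Agent.PhanAmalgam
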