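/-
Area PhanAmalgam: gluing the cosets over the units to a homomorphism on the stabiliser of `C`.
-/
import Cfsg.Agent.Lib.PhanAmalgam.Coset

set_option autoImplicit false

namespace Cfsg.Agent.PhanAmalgam

open Cfsg.Agent.ClassicalSimple

variable {F V H : Type*} [Field F] [AddCommGroup V] [Module F V] {σ : F →+* F} [Group H]

namespace Data

variable {h : V →ₛₗ[σ] V →ₗ[F] F} (D : Data h H) [Finite F] [FiniteDimensional F V]

/-- The cosets do not depend on the auxiliary unit, and one exists. -/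
structure Conn : Prop where
  W0 : ∀ {v : V}, D.Unit₁ v → ∃ w, D.W0 v w
  conn : ∀ {v w w' : V}, D.Unit₁ v → D.W0 v w → D.W0 v w' → D.val w v = D.val w' v

open Classical in
/-- The coset over a unit. -/
noncomputable def Ψ (v : V) : (H × SUH h) ⧸ D.Kp :=
  if hv : ∃ w, D.W0 v w then D.val (Classical.choose hv) v else QuotientGroup.mk 1

theorem Ψ_eq (hc : D.Conn) {v w : V} (hv : D.Unit₁ v) (hw : D.W0 v w) : D.Ψ v = D.val w v := by
  rw [Ψ, dif_pos ⟨w, hw⟩]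
  exact hc.conn hv (Classical.choose_spec (⟨w, hw⟩ : ∃ w, D.W0 v w)) hw

theorem val_e {w : V} (hw : D.W0 D.e w) : D.val w D.e = QuotientGroup.mk 1 := by
  have h1 : D.Lw w 1 = 1 := by
    have := D.Lw_mul hw.1 (one_mem _) (one_mem _)
    rw [one_mul] at this
    simpa using this
  rw [D.val_eq D.unit_e hw (one_mem _) (one_smul _ _), liftW, h1]
  rfl

theorem Ψ_e : D.Ψ D.e = QuotientGroup.mk 1 := by
  have hz : ∃ w, D.W0 D.e w := ⟨D.z, D.W1_z, D.sw D.oez⟩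
  rw [Ψ, dif_pos hz]
  exact D.val_e (Classical.choose_spec hz)

/-- The pairs compatible with the cosets over the units. -/
noncomputable def Good : Subgroup (H × SUH h) where
  carrier := {p | D.FixC p.2 ∧ ∀ v, D.Unit₁ v → p • D.Ψ v = D.Ψ (p.2 • v)}
  one_mem' := ⟨fun c _ => one_smul _ c, fun v _ => by rw [Prod.snd_one, one_smul, one_smul]⟩
  mul_mem' {a b} ha hb :=
    ⟨fun c hc => by rw [Prod.snd_mul, mul_smul, hb.1 c hc, ha.1 c hc], fun v hv => by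
      rw [mul_smul, hb.2 v hv, ha.2 _ (D.smul_unit hb.1 hv), Prod.snd_mul, mul_smul]⟩
  inv_mem' {a} ha := by
    have hC : D.FixC a.2⁻¹ := fun c hc => by rw [inv_smul_eq_iff, ha.1 c hc]
    refine ⟨hC, fun v hv => ?_⟩
    rw [inv_smul_eq_iff, Prod.snd_inv, ha.2 _ (D.smul_unit hC hv), smul_inv_smul]

theorem mem_Good {p : H × SUH h} :
    p ∈ D.Good ↔ D.FixC p.2 ∧ ∀ v, D.Unit₁ v → p • D.Ψ v = D.Ψ (p.2 • v) := Iff.rfl

theorem good_inj {a b : H} {g : SUH h} (ha : (a, g) ∈ D.Good) (hb : (b, g) ∈ D.Good) : a = b := by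
  have hm := mul_mem (inv_mem hb) ha
  have e : ((b, g) : H × SUH h)⁻¹ * (a, g) = (b⁻¹ * a, 1) := Prod.ext rfl (inv_mul_cancel g)
  rw [e, mem_Good] at hm
  have h1 := hm.2 D.e D.unit_e
  rw [one_smul, D.Ψ_e] at h1
  have h2 : ((b⁻¹ * a, 1) : H × SUH h) • (QuotientGroup.mk 1 : (H × SUH h) ⧸ D.Kp) =
      QuotientGroup.mk (((b⁻¹ * a, 1) : H × SUH h) * 1) := rfl
  rw [h2, QuotientGroup.eq, mul_one, mul_one, D.mem_Kp, Prod.fst_inv, Prod.snd_inv, inv_one] at h1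
  have h3 : (b⁻¹ * a)⁻¹ = 1 := by rw [h1.2, D.R_one]
  exact (inv_mul_eq_one.1 (inv_eq_one.1 h3)).symm

theorem liftR_good (hc : D.Conn) {k : SUH h} (hk : k ∈ fix h (D.C ∪ {D.e})) : D.liftR k ∈ D.Good := by
  refine ⟨(D.mem_fix_one.1 hk).1, fun v hv => ?_⟩
  obtain ⟨w, hw⟩ := hc.W0 hv
  rw [D.Ψ_eq hc hv hw, D.val_R hk hv hw]
  exact (D.Ψ_eq hc (D.smul_unit (D.mem_fix_one.1 hk).1 hv) (D.W0_smul hk hw)).symm

/-- The elements of the stabiliser of `z` whose lifts are compatible with the cosets. -/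
noncomputable def goodL : Subgroup (SUH h) where
  carrier := {g | g ∈ fix h (D.C ∪ {D.z}) ∧ ((D.L g, g) : H × SUH h) ∈ D.Good}
  one_mem' := ⟨one_mem _, by rw [D.L_one]; exact one_mem D.Good⟩
  mul_mem' {a b} ha hb := ⟨mul_mem ha.1 hb.1, by rw [D.L_mul _ ha.1 _ hb.1]; exact mul_mem ha.2 hb.2⟩
  inv_mem' {a} ha := ⟨inv_mem ha.1, by rw [D.L_inv ha.1]; exact inv_mem ha.2⟩

theorem fixPerp_le {g : SUH h} (hg : g ∈ fixPerp h D.C D.e D.e1) : g ∈ fix h (D.C ∪ {D.z}) :=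
  D.mem_fix_one.2 ⟨fun c hc => hg c (Or.inl hc), hg _ (Or.inr ⟨D.hz, D.oez, D.o1z⟩)⟩

theorem fixPerp_good_of (hc : D.Conn) {g : SUH h} (hg : g ∈ fixPerp h D.C D.e D.e1) {v p : V} (hv : D.Unit₁ v)
    (hp : D.W0 v p) (hp1 : h D.e1 p = 0) : ((D.L g, g) : H × SUH h) • D.Ψ v = D.Ψ (g • v) := by
  obtain ⟨hmove, hp', hv'⟩ := D.val_first hg hv hp hp1
  rw [D.Ψ_eq hc hv hp, hmove, D.Ψ_eq hc hv' hp']

/-- The extension, given compatibility of the elements supported on `e`, `e1` and generation. -/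
theorem exists_ext_of (hc : D.Conn) (hP : ∀ g ∈ fixPerp h D.C D.e D.e1, ((D.L g, g) : H × SUH h) ∈ D.Good)
    (hgenz : ∀ T : Subgroup (SUH h), fix h (D.C ∪ {D.e, D.z}) ≤ T → fixPerp h D.C D.e D.e1 ≤ T →
      fix h (D.C ∪ {D.z}) ≤ T)
    (hgen : ∀ T : Subgroup (SUH h), fix h (D.C ∪ {D.e}) ≤ T → fixPerp h D.C D.e D.e1 ≤ T → fix h D.C ≤ T) :
    ∃ Φ : SUH h → H, (∀ a ∈ fix h D.C, ∀ b ∈ fix h D.C, Φ (a * b) = Φ a * Φ b) ∧
      (∀ g ∈ fix h (D.C ∪ {D.e}), Φ g = D.R g) ∧ ∀ g ∈ fix h (D.C ∪ {D.z}), Φ g = D.L g := by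
  have hL : ∀ g ∈ fix h (D.C ∪ {D.z}), ((D.L g, g) : H × SUH h) ∈ D.Good := fun g hg => by
    refine (hgenz D.goodL (fun k hk => ⟨D.fix_ez_right hk, ?_⟩) (fun k hk => ⟨D.fixPerp_le hk, hP k hk⟩) hg).2
    rw [← D.agree k hk]
    exact D.liftR_good hc (D.fix_ez_left hk)
  have hsurj : fix h D.C ≤ D.Good.map (MonoidHom.snd H (SUH h)) :=
    hgen _ (fun k hk => ⟨_, D.liftR_good hc hk, rfl⟩) (fun k hk => ⟨_, hP k hk, rfl⟩)
  classical
  choose Φ hΦ using fun g : SUH h => show ∃ a : H, g ∈ fix h D.C → (a, g) ∈ D.Good from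
    if hg : g ∈ fix h D.C then by
      obtain ⟨⟨a, g'⟩, hp, rfl⟩ := hsurj hg
      exact ⟨a, fun _ => hp⟩
    else ⟨1, fun h' => absurd h' hg⟩
  exact ⟨Φ, fun a ha b hb => D.good_inj (hΦ _ (mul_mem ha hb)) (mul_mem (hΦ a ha) (hΦ b hb)),
    fun g hg => D.good_inj (hΦ g (fix_mono Set.subset_union_left hg)) (D.liftR_good hc hg),
    fun g hg => D.good_inj (hΦ g (fix_mono Set.subset_union_left hg)) (hL g hg)⟩

/-- A homomorphism on the stabiliser of `C` is determined by its restrictions. -/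
theorem ext_unique_of (Φ Φ' : SUH h → H) (hΦ : ∀ a ∈ fix h D.C, ∀ b ∈ fix h D.C, Φ (a * b) = Φ a * Φ b)
    (hΦ' : ∀ a ∈ fix h D.C, ∀ b ∈ fix h D.C, Φ' (a * b) = Φ' a * Φ' b)
    (hgen : ∀ T : Subgroup (SUH h), fix h (D.C ∪ {D.e}) ≤ T → fixPerp h D.C D.e D.e1 ≤ T → fix h D.C ≤ T)
    (hR : ∀ g ∈ fix h (D.C ∪ {D.e}), Φ g = Φ' g) (hP : ∀ g ∈ fixPerp h D.C D.e D.e1, Φ g = Φ' g) :
    ∀ g ∈ fix h D.C, Φ g = Φ' g := by
  have one : ∀ Φ₀ : SUH h → H, (∀ a ∈ fix h D.C, ∀ b ∈ fix h D.C, Φ₀ (a * b) = Φ₀ a * Φ₀ b) → Φ₀ 1 = 1 :=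
    fun Φ₀ hm => by
      have := hm 1 (one_mem _) 1 (one_mem _)
      rw [one_mul] at this
      simpa using this
  let T : Subgroup (SUH h) :=
    { carrier := {g | g ∈ fix h D.C ∧ Φ g = Φ' g}
      one_mem' := ⟨one_mem _, (one Φ hΦ).trans (one Φ' hΦ').symm⟩
      mul_mem' := fun {a b} ha hb =>
        ⟨mul_mem ha.1 hb.1, by rw [hΦ a ha.1 b hb.1, hΦ' a ha.1 b hb.1, ha.2, hb.2]⟩
      inv_mem' := fun {a} ha => ⟨inv_mem ha.1, by
        have e := hΦ _ (inv_mem ha.1) a ha.1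
        have e' := hΦ' _ (inv_mem ha.1) a ha.1
        rw [inv_mul_cancel, one Φ hΦ] at e
        rw [inv_mul_cancel, one Φ' hΦ', ← ha.2] at e'
        exact mul_right_cancel (e.symm.trans e')⟩ }
  exact fun g hg => (hgen T (fun k hk => ⟨fix_mono Set.subset_union_left hk, hR k hk⟩)
    (fun k hk => ⟨fun c hc => hk c (Or.inl hc), hP k hk⟩) hg).2

end Data

end Cfsg.Agent.PhanAmalgam
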