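/-
Area PhanAmalgam: comparison of the cosets with the orbit maps of the stabiliser of `z`; the cosets over all units are
well defined.
-/
import Cfsg.Agent.Lib.PhanAmalgam.Coset

set_option autoImplicit false

namespace Cfsg.Agent.PhanAmalgam

open Cfsg.Agent.ClassicalSimple

variable {F V H : Type*} [Field F] [AddCommGroup V] [Module F V] {σ : F →+* F} [Group H]

namespace Data

variable {h : V →ₛₗ[σ] V →ₗ[F] F} (D : Data h H) [Finite F] [FiniteDimensional F V] [Wide σ]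

/-- The product with `z` has a norm different from `0` and `1`. -/
def GoodAt (f v : V) : Prop := σ (h f v) * h f v ≠ 0 ∧ σ (h f v) * h f v ≠ 1

omit [Finite F] [FiniteDimensional F V] in
theorem fix_sub {g : SUH h} {a b v : V} {c c' : F} (ha : g • a = a) (hb : g • b = b) :
    g • v - c • a - c' • b = g • (v - c • a - c' • b) := by
  rw [su_sub, su_sub, su_scal, su_scal, ha, hb]

include D in
theorem exists_lam (d : F) : ∃ l : F, σ l * l = 1 - σ d * d :=
  D.hh.exists_norm_eq (by simp [D.hh.invol, mul_comm d])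

/-- A square root of the complementary norm. -/
noncomputable def lam (d : F) : F := Classical.choose (D.exists_lam d)

theorem lam_spec (d : F) : σ (D.lam d) * D.lam d = 1 - σ d * d := Classical.choose_spec (D.exists_lam d)

/-- The base point of the orbit of the units with product `d` with `z`. -/
noncomputable def base (d : F) : V := D.lam d • D.e + d • D.z

theorem base_unit (d : F) : D.Unit₁ (D.base d) := by
  refine ⟨add_mem (Submodule.smul_mem _ _ D.he) (Submodule.smul_mem _ _ D.hz), ?_⟩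
  simp only [base, map_add, map_smulₛₗ, LinearMap.add_apply, LinearMap.smul_apply, smul_eq_mul, RingHom.id_apply,
    D.nee, D.nzz, D.oez, D.sw D.oez]
  linear_combination D.lam_spec d

theorem base_W0 (d : F) : D.W0 (D.base d) D.y :=
  ⟨D.W1_y, by simp [base, D.sw D.oey, D.oyz]⟩

theorem base_e (d : F) : h D.e (D.base d) = D.lam d := by simp [base, D.nee, D.oez]

theorem base_z (d : F) : h D.z (D.base d) = d := by simp [base, D.nzz, D.sw D.oez]

theorem base_conn {d : F} (h0 : σ d * d ≠ 0) {w w' : V} (hw : D.W0 (D.base d) w) (hw' : D.W0 (D.base d) w') :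
    D.val w (D.base d) = D.val w' (D.base d) := by
  refine D.val_conn_generic (D.base_unit d) (r := d • D.z) (by rw [base_e]; rfl) (Or.inr ?_) hw hw'
  simpa [D.nzz] using h0

theorem lam_ne {d : F} (h1 : σ d * d ≠ 1) : D.lam d ≠ 0 := fun e => by
  have := D.lam_spec d
  rw [e, map_zero, zero_mul] at this
  exact h1 (sub_eq_zero.1 this.symm).symm

theorem exists_orbit (v : V) : ∃ l : SUH h, D.Unit₁ v → GoodAt (h := h) D.z v →
    l ∈ fix h (D.C ∪ {D.z}) ∧ l • D.base (h D.z v) = v := by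
  by_cases hc : D.Unit₁ v ∧ GoodAt (h := h) D.z v
  · obtain ⟨hv, hgood⟩ := hc
    set d := h D.z v
    set s := v - d • D.z with hs
    have hss : h s s = 1 - σ d * d := D.norm_sub D.nzz hv.2
    have hl := D.lam_ne hgood.2
    have ht : D.Unit₁ ((D.lam d)⁻¹ • s) := by
      refine ⟨Submodule.smul_mem _ _ (sub_mem hv.1 (Submodule.smul_mem _ _ D.hz)), ?_⟩
      simp only [map_smulₛₗ, LinearMap.smul_apply, smul_eq_mul, RingHom.id_apply, hss, map_inv₀, ← D.lam_spec d]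
      have : σ (D.lam d) ≠ 0 := fun e => hl (by rw [← D.hh.invol (D.lam d), e, map_zero])
      field_simp
      exact div_self hl
    have hzt : h D.z ((D.lam d)⁻¹ • s) = 0 := by simp [hs, d, D.nzz]
    obtain ⟨u, hu, h1, h2, -⟩ :=
      D.exists_unit_perp (Or.inr D.unit_z) (Or.inr ht) D.unit₀_zero hzt (by simp) (by simp)
    obtain ⟨l, hl', hle⟩ := D.exists_move_unit {D.z} (by simp [D.hz]) D.unit_e ht hu (by simp [D.sw D.oez])
      (by simpa using hzt) (by simp [h1]) (D.sw h2)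
    refine ⟨l, fun _ _ => ⟨hl', ?_⟩⟩
    rw [base, su_add, su_scal, su_scal, hle, (D.mem_fix_one.1 hl').2, smul_smul, mul_inv_cancel₀ hl, one_smul, hs,
      sub_add_cancel]
  · exact ⟨1, fun a b => absurd ⟨a, b⟩ hc⟩

/-- An element fixing `z` taking the base point to `v`. -/
noncomputable def orbitTo (v : V) : SUH h := Classical.choose (D.exists_orbit v)

/-- The coset over `v` computed in the stabiliser of `z`. -/
noncomputable def psi' (v : V) : (H × SUH h) ⧸ D.Kp :=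
  ((D.L (D.orbitTo v), D.orbitTo v) : H × SUH h) • D.val D.y (D.base (h D.z v))

theorem psi'_eq {v : V} {d : F} (h0 : σ d * d ≠ 0) (h1 : σ d * d ≠ 1) {l : SUH h}
    (hl : l ∈ fix h (D.C ∪ {D.z})) (hlv : l • D.base d = v) :
    D.psi' v = ((D.L l, l) : H × SUH h) • D.val D.y (D.base d) := by
  obtain ⟨hlC, hlz⟩ := D.mem_fix_one.1 hl
  have hd : h D.z v = d := by rw [← hlv, ← hlz, su_form, base_z]
  have hv : D.Unit₁ v := hlv ▸ D.smul_unit hlC (D.base_unit d)
  have hgood : GoodAt (h := h) D.z v := by rw [GoodAt, hd]; exact ⟨h0, h1⟩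
  obtain ⟨hl', hlv'⟩ := Classical.choose_spec (D.exists_orbit v) hv hgood
  rw [psi', orbitTo]
  generalize Classical.choose (D.exists_orbit v) = l' at hl' hlv' ⊢
  rw [hd] at hlv' ⊢
  set δ := l⁻¹ * l' with hδdef
  have hδz : δ ∈ fix h (D.C ∪ {D.z}) := mul_mem (inv_mem hl) hl'
  obtain ⟨hδC, hδz'⟩ := D.mem_fix_one.1 hδz
  have hδb : δ • D.base d = D.base d := by rw [hδdef, mul_smul, hlv', inv_smul_eq_iff, hlv]
  have hδe : δ • D.e = D.e := by
    have e := hδb
    rw [base, su_add, su_scal, su_scal, hδz'] at e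
    exact smul_right_injective V (D.lam_ne h1) (add_right_cancel e)
  have hδK : δ ∈ fix h (D.C ∪ {D.e}) := D.mem_fix_one.2 ⟨hδC, hδe⟩
  have hδR : D.R δ = D.L δ := D.agree δ (D.mem_fix_two.2 ⟨hδC, hδe, hδz'⟩)
  rw [show l' = l * δ by rw [hδdef]; group, D.L_mul _ hl _ hδz, ← hδR,
    show ((D.L l * D.R δ, l * δ) : H × SUH h) = ((D.L l, l) : H × SUH h) * D.liftR δ from rfl, mul_smul,
    D.val_R hδK (D.base_unit d) (D.base_W0 d), hδb]
  congr 1
  have hW : D.W0 (D.base d) (δ • D.y) := by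
    have := D.W0_smul hδK (D.base_W0 d)
    rwa [hδb] at this
  exact D.base_conn h0 hW (D.base_W0 d)

theorem psi'_L {v : V} (hv : D.Unit₁ v) (hgood : GoodAt (h := h) D.z v) {g : SUH h}
    (hg : g ∈ fix h (D.C ∪ {D.z})) : ((D.L g, g) : H × SUH h) • D.psi' v = D.psi' (g • v) := by
  obtain ⟨hl, hlv⟩ := Classical.choose_spec (D.exists_orbit v) hv hgood
  rw [D.psi'_eq hgood.1 hgood.2 hl hlv, D.psi'_eq hgood.1 hgood.2 (mul_mem hg hl) (by rw [mul_smul, hlv]),
    D.L_mul _ hg _ hl, ← mul_smul]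
  rfl

/-- The case of a vector whose part orthogonal to `e` and `z` is anisotropic. -/
theorem psi'_generic {v : V} (hv : D.Unit₁ v) (hgood : GoodAt (h := h) D.z v)
    (ha : σ (h D.e v) * h D.e v ≠ 1) (hM : σ (h D.e v) * h D.e v + σ (h D.z v) * h D.z v ≠ 1) {w : V}
    (hw : D.W0 v w) : D.val w v = D.psi' v := by
  set a := h D.e v with ha'
  set d := h D.z v with hd'
  set s := v - a • D.e - d • D.z with hs
  set M := 1 - σ a * a - σ d * d with hMdef
  have hM0 : M ≠ 0 := fun e => hM (by linear_combination -e)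
  have hsW : s ∈ orth h D.C :=
    sub_mem (sub_mem hv.1 (Submodule.smul_mem _ _ D.he)) (Submodule.smul_mem _ _ D.hz)
  have hes : h D.e s = 0 := by simp [hs, a, D.nee, D.oez]
  have hzs : h D.z s = 0 := by simp [hs, d, D.nzz, D.sw D.oez]
  have hve : h v D.e = σ a := by rw [D.hh.swap D.e v]
  have hvz : h v D.z = σ d := by rw [D.hh.swap D.z v]
  have hss : h s s = M := by
    simp only [hs, map_sub, map_smulₛₗ, LinearMap.sub_apply, LinearMap.smul_apply, smul_eq_mul, RingHom.id_apply,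
      D.nee, D.nzz, D.oez, D.sw D.oez, hv.2, hve, hvz, ← ha', ← hd', hMdef]
    ring
  obtain ⟨b, hb⟩ := D.hh.exists_norm_eq (c := M) (by rw [hMdef]; simp [D.hh.invol, mul_comm a, mul_comm d])
  have hb0 : b ≠ 0 := fun e => hM0 (by rw [← hb, e, map_zero, zero_mul])
  have hσb : σ b ≠ 0 := fun e => hb0 (by rw [← D.hh.invol b, e, map_zero])
  have ht : D.Unit₁ (b⁻¹ • s) := by
    refine ⟨Submodule.smul_mem _ _ hsW, ?_⟩
    simp only [map_smulₛₗ, LinearMap.smul_apply, smul_eq_mul, RingHom.id_apply, hss, map_inv₀, ← hb]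
    field_simp
  obtain ⟨u, hu, hu1, hu2, hu3⟩ := D.exists_unit_perp (Or.inr D.unit_e) (Or.inr D.unit_z) (Or.inr D.unit_e1) D.oez
    D.oe1 (D.sw D.o1z)
  obtain ⟨k, hk, hks⟩ := D.exists_move_unit {D.e, D.z} (by rintro x (rfl | rfl); exacts [D.he, D.hz]) ht D.unit_e1 hu
    (by rintro x (rfl | rfl) <;> simp [hes, hzs]) (by rintro x (rfl | rfl); exacts [D.oe1, D.sw D.o1z])
    (by rintro x (rfl | rfl); exacts [hu1, hu2]) (D.sw hu3)
  obtain ⟨hkC, hke, hkz⟩ := D.mem_fix_two.1 hk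
  have hkv : k • v = a • D.e + d • D.z + b • D.e1 := by
    have e : k • s = b • D.e1 := by rw [← hks, su_scal, smul_smul, mul_inv_cancel₀ hb0, one_smul]
    rw [show v = a • D.e + d • D.z + s by rw [hs]; abel, su_add, su_add, su_scal, su_scal, hke, hkz, e]
  set v2 := k • v with hv2
  have hv2u : D.Unit₁ v2 := D.smul_unit hkC hv
  -- move the plane part of `v2` to `e`
  set l := D.lam d with hl
  have hl0 : l ≠ 0 := D.lam_ne hgood.2
  have hσl : σ l ≠ 0 := fun e => hl0 (by rw [← D.hh.invol l, e, map_zero])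
  have hx : D.Unit₁ (l⁻¹ • (a • D.e + b • D.e1)) := by
    refine ⟨Submodule.smul_mem _ _ (add_mem (Submodule.smul_mem _ _ D.he) (Submodule.smul_mem _ _ D.he1)), ?_⟩
    simp only [map_smulₛₗ, map_add, LinearMap.add_apply, LinearMap.smul_apply, smul_eq_mul, RingHom.id_apply,
      D.nee, D.ne11, D.oe1, D.sw D.oe1, map_inv₀]
    field_simp
    linear_combination hb + hMdef - D.lam_spec d
  obtain ⟨g0, hg0, hg0x⟩ := D.exists_move_unit {x | x ∈ orth h D.C ∧ h D.e x = 0 ∧ h D.e1 x = 0} (fun x hx => hx.1) hx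
    D.unit_e D.unit_e1 (fun x hx => by simp [D.sw hx.2.1, D.sw hx.2.2]) (fun x hx => D.sw hx.2.1)
    (fun x hx => D.sw hx.2.2) (D.sw D.oe1)
  have hg0z : g0 • D.z = D.z := hg0 _ (Or.inr ⟨D.hz, D.oez, D.o1z⟩)
  have hg0v : g0 • v2 = D.base d := by
    have e : g0 • (a • D.e + b • D.e1) = l • D.e := by
      conv_rhs => rw [← hg0x, su_scal, smul_smul, mul_inv_cancel₀ hl0, one_smul]
    rw [hkv, show a • D.e + d • D.z + b • D.e1 = (a • D.e + b • D.e1) + d • D.z by abel, su_add, e, su_scal, hg0z]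
    rfl
  have hy : D.W0 v2 D.y := ⟨D.W1_y, by rw [hkv]; simp [D.sw D.oey, D.oyz, D.sw D.o1y]⟩
  obtain ⟨hmove, -, -⟩ := D.val_first hg0 hv2u hy D.o1y
  rw [hg0v] at hmove
  have hg0F : g0 ∈ fix h (D.C ∪ {D.z}) := D.mem_fix_one.2 ⟨fun c hc => hg0 c (Or.inl hc), hg0z⟩
  have hkF := D.fix_ez_right hk
  have hlF : k⁻¹ * g0⁻¹ ∈ fix h (D.C ∪ {D.z}) := mul_mem (inv_mem hkF) (inv_mem hg0F)
  have hlv : (k⁻¹ * g0⁻¹) • D.base d = v := by rw [mul_smul, ← hg0v, inv_smul_smul, hv2, inv_smul_smul]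
  rw [D.psi'_eq hgood.1 hgood.2 hlF hlv, ← hmove, D.L_mul _ (inv_mem hkF) _ (inv_mem hg0F), D.L_inv hkF,
    D.L_inv hg0F, ← mul_smul]
  have hkey : (((D.L k)⁻¹ * (D.L g0)⁻¹, k⁻¹ * g0⁻¹) : H × SUH h) * (D.L g0, g0) = D.liftR k⁻¹ := by
    refine Prod.ext ?_ ?_
    · show (D.L k)⁻¹ * (D.L g0)⁻¹ * D.L g0 = D.R k⁻¹
      rw [D.R_inv (D.fix_ez_left hk), D.agree k hk]; group
    · show k⁻¹ * g0⁻¹ * g0 = k⁻¹
      group
  rw [hkey, D.val_R (inv_mem (D.fix_ez_left hk)) hv2u hy, hv2, inv_smul_smul]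
  have hky : D.W0 v (k⁻¹ • D.y) := by
    have := D.W0_smul (inv_mem (D.fix_ez_left hk)) hy
    rwa [hv2, inv_smul_smul] at this
  refine D.val_conn_generic hv (r := v - a • D.e) (by rw [← ha']; abel) (Or.inr ?_) hw hky
  rw [D.norm_sub D.nee hv.2]
  exact sub_ne_zero.2 (Ne.symm ha)

/-- The case of the transport by a unit orthogonal to `e`, `e1` and `v`. -/
theorem psi'_first {v : V} (hv : D.Unit₁ v) (hgood : GoodAt (h := h) D.z v) {p : V} (hp : D.W0 v p)
    (hp1 : h D.e1 p = 0) : D.val p v = D.psi' v := by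
  set a := h D.e v with ha
  set b := h D.e1 v with hb
  set d := h D.z v with hd
  set x := a • D.e + b • D.e1 with hx
  set P := Submodule.span F ({D.e, D.e1} : Set V) with hP
  have hPe : D.e ∈ P := Submodule.subset_span (Or.inl rfl)
  have hPe1 : D.e1 ∈ P := Submodule.subset_span (Or.inr rfl)
  have hxP : x ∈ P := add_mem (P.smul_mem _ hPe) (P.smul_mem _ hPe1)
  have hPC : P ≤ orth h D.C := Submodule.span_le.2 (by rintro w (rfl | rfl); exacts [D.he, D.he1])
  have hperp : ∀ w ∈ P, ∀ t, h D.e t = 0 → h D.e1 t = 0 → h t w = 0 := by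
    intro w hw t h1 h2
    obtain ⟨c, c', rfl⟩ := Submodule.mem_span_pair.1 hw
    simp [D.sw h1, D.sw h2]
  have hsame : ∀ u ∈ P, h u x = h u v := fun u hu => by
    obtain ⟨c, c', rfl⟩ := Submodule.mem_span_pair.1 hu
    simp [hx, D.nee, D.ne11, D.oe1, D.sw D.oe1, a, b]
  have hsum : ∀ X : F, σ X * X ≠ 1 → σ X * X + σ d * d ≠ 1 → (∃ u ∈ P, h u u = 1 ∧ h x u = X) →
      D.val p v = D.psi' v := by
    rintro X hX1 hX2 ⟨u, hu, huu, hxu⟩
    obtain ⟨g, hg, hge⟩ := D.exists_move_unit {t | t ∈ orth h D.C ∧ h D.e t = 0 ∧ h D.e1 t = 0} (fun t ht => ht.1)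
      (a := u) ⟨hPC hu, huu⟩ D.unit_e D.unit_e1 (fun t ht => hperp u hu t ht.2.1 ht.2.2) (fun t ht => D.sw ht.2.1)
      (fun t ht => D.sw ht.2.2) (D.sw D.oe1)
    obtain ⟨hmove, hp', hv'⟩ := D.val_first hg hv hp hp1
    have hgz : g • D.z = D.z := hg _ (Or.inr ⟨D.hz, D.oez, D.o1z⟩)
    have hgF : g ∈ fix h (D.C ∪ {D.z}) := D.mem_fix_one.2 ⟨fun c hc => hg c (Or.inl hc), hgz⟩
    have hd' : h D.z (g • v) = d := by rw [← hgz, su_form]
    have ha' : h D.e (g • v) = σ X := by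
      rw [← hge, su_form, ← hsame u hu, D.hh.swap x u, hxu]
    have hgood' : GoodAt (h := h) D.z (g • v) := by rw [GoodAt, hd']; exact hgood
    have h2 := D.psi'_generic hv' hgood' (by rw [ha', D.hh.invol, mul_comm]; exact hX1)
      (by rw [ha', hd', D.hh.invol, mul_comm X]; exact hX2) hp'
    rw [← hmove, ← D.psi'_L hv hgood hgF] at h2
    exact (MulAction.injective _) h2
  by_cases hx0 : x = 0
  · have ha0 : a = 0 := by simpa [hx, D.nee, D.oe1] using congrArg (h D.e) hx0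
    refine D.psi'_generic hv hgood (by rw [← ha, ha0, map_zero, zero_mul]; exact zero_ne_one) ?_ hp
    rw [← ha, ha0, map_zero, zero_mul, zero_add, ← hd]; exact hgood.2
  obtain ⟨c, hc, hc0, hc1, hc2⟩ := Wide.avoid (σ := σ) 1 (1 - σ d * d)
  obtain ⟨X, hX⟩ := D.hh.exists_norm_eq hc
  have hX0 : X ≠ 0 := fun e => hc0 (by rw [← hX, e, map_zero, zero_mul])
  refine hsum X (by rw [hX]; exact hc1) (fun e => hc2 (by linear_combination e - hX)) ?_
  by_cases hxx : h x x = 0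
  · obtain ⟨t, ⟨c1, c2, htm⟩, hxt⟩ := D.exists_partner D.nee D.ne11 D.oe1 ⟨a, b, rfl⟩ hx0
    obtain ⟨u, hu, huu, hxu, -⟩ :=
      D.exists_level_iso P hxP (htm ▸ add_mem (P.smul_mem _ hPe) (P.smul_mem _ hPe1)) hxx hxt X hX0
    exact ⟨u, hu, huu, hxu⟩
  · set t0 := (-σ b) • D.e + σ a • D.e1 with ht0
    have ht0P : t0 ∈ P := add_mem (P.smul_mem _ hPe) (P.smul_mem _ hPe1)
    have ht0n : h t0 t0 = h x x := by
      simp only [ht0, hx, map_add, map_smulₛₗ, LinearMap.add_apply, LinearMap.smul_apply, smul_eq_mul, map_neg,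
        RingHom.id_apply, D.hh.invol, D.nee, D.ne11, D.oe1, D.sw D.oe1]
      ring
    obtain ⟨k, hk⟩ := exists_unit_smul D.hh (ht0n ▸ hxx)
    refine D.exists_level_aniso P hxP (P.smul_mem k ht0P) hxx hk ?_ X
    simp only [ht0, hx, map_add, map_smulₛₗ, LinearMap.add_apply, LinearMap.smul_apply, smul_eq_mul, map_neg,
      RingHom.id_apply, D.hh.invol, D.nee, D.ne11, D.oe1, D.sw D.oe1]
    ring

/-- The case of the transport by a unit orthogonal to `e`, `v` and to a unit orthogonal to `e` and `z`. -/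
theorem psi'_frame {v f p : V} (hv : D.Unit₁ v) (hgood : GoodAt (h := h) D.z v) (hf : D.W1 f)
    (hzf : h D.z f = 0) (hp : D.W0 v p) (hfp : h f p = 0) : D.val p v = D.psi' v := by
  obtain ⟨u, hu, hu1, hu2, hu3⟩ := D.exists_unit_perp (Or.inr D.unit_e) (Or.inr D.unit_z) (Or.inr D.unit_e1) D.oez
    D.oe1 (D.sw D.o1z)
  obtain ⟨k, hk, hkf⟩ := D.exists_move_unit {D.e, D.z} (by rintro x (rfl | rfl); exacts [D.he, D.hz]) hf.1 D.unit_e1 hu
    (by rintro x (rfl | rfl); exacts [hf.2, hzf]) (by rintro x (rfl | rfl); exacts [D.oe1, D.sw D.o1z])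
    (by rintro x (rfl | rfl); exacts [hu1, hu2]) (D.sw hu3)
  obtain ⟨hkC, hke, hkz⟩ := D.mem_fix_two.1 hk
  have hke' := D.fix_ez_left hk
  have hgood' : GoodAt (h := h) D.z (k • v) := by rw [GoodAt, ← hkz, su_form]; exact hgood
  have h1 := D.psi'_first (D.smul_unit hkC hv) hgood' (D.W0_smul hke' hp) (by rw [← hkf, su_form]; exact hfp)
  rw [← D.val_R hke' hv hp, ← D.psi'_L hv hgood (D.fix_ez_right hk), liftR, D.agree k hk] at h1
  exact (MulAction.injective _) h1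

theorem val_frame {v f3 f p : V} (hv : D.Unit₁ v) (hf3 : D.W1 f3) (hgood : GoodAt (h := h) f3 v) (hf : D.W1 f)
    (hff : h f3 f = 0) (hp : D.W0 v p) (hfp : h f p = 0) :
    D.val p v = D.liftR (D.kTo f3) • D.psi' ((D.kTo f3)⁻¹ • v) := by
  obtain ⟨hk, hkz⟩ := D.kTo_spec hf3
  set k := D.kTo f3
  have hki := inv_mem hk
  have hkiC := (D.mem_fix_one.1 hki).1
  have hgood' : GoodAt (h := h) D.z (k⁻¹ • v) := by
    rw [GoodAt, ← su_form k, smul_inv_smul, hkz]; exact hgood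
  have h1 := D.psi'_frame (D.smul_unit hkiC hv) hgood' (D.W1_smul hki hf)
    (by rw [← su_form k, smul_inv_smul, hkz]; exact hff) (D.W0_smul hki hp) (by rw [su_form]; exact hfp)
  rw [← h1, D.val_R hk (D.smul_unit hkiC hv) (D.W0_smul hki hp), smul_inv_smul, smul_inv_smul]

theorem val_conn {v w w' : V} (hv : D.Unit₁ v) (hw : D.W0 v w) (hw' : D.W0 v w') : D.val w v = D.val w' v := by
  set r := v - h D.e v • D.e with hr
  have hdec : v = h D.e v • D.e + r := by rw [hr]; abel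
  by_cases hgen : r = 0 ∨ h r r ≠ 0
  · exact D.val_conn_generic hv hdec hgen hw hw'
  push Not at hgen
  obtain ⟨hr0, hrr⟩ := hgen
  have hrW : r ∈ orth h D.C := sub_mem hv.1 (Submodule.smul_mem _ _ D.he)
  have her : h D.e r = 0 := by simp [hr, D.nee]
  have hwr : h w r = 0 := by simp [hr, hw.2, D.sw hw.1.2]
  have hwr' : h w' r = 0 := by simp [hr, hw'.2, D.sw hw'.1.2]
  obtain ⟨x, hx, hrx⟩ := D.nd r hrW hr0
  set t0 := (h r x)⁻¹ • x with ht0
  set t := t0 - h D.e t0 • D.e - h w t0 • w with ht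
  have htW : t ∈ orth h D.C := by
    refine sub_mem (sub_mem ?_ (Submodule.smul_mem _ _ D.he)) (Submodule.smul_mem _ _ hw.1.1.1)
    exact Submodule.smul_mem _ _ hx
  have hrt : h r t = 1 := by simp [ht, ht0, D.sw her, D.sw hwr, inv_mul_cancel₀ hrx]
  have het : h D.e t = 0 := by simp [ht, D.nee, hw.1.2]
  have hwt : h w t = 0 := by simp [ht, D.sw hw.1.2, hw.1.1.2]
  let Ds := orth h (D.C ∪ {D.e, w})
  have hDs : ∀ u, u ∈ orth h D.C → h D.e u = 0 → h w u = 0 → u ∈ Ds := fun u a b c => by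
    rintro y (hy | rfl | rfl)
    exacts [a y hy, b, c]
  set P := σ (h w' t) * h w' t
  obtain ⟨c, hc, hc0, hc1, hc2⟩ := Wide.avoid (σ := σ) 1 P⁻¹
  obtain ⟨X, hX⟩ := D.hh.exists_norm_eq hc
  have hX0 : X ≠ 0 := fun e => hc0 (by rw [← hX, e, map_zero, zero_mul])
  obtain ⟨f3, hf3D, hf3n, hrf3, α, hf3⟩ :=
    D.exists_level_iso Ds (hDs r hrW her hwr) (hDs t htW het hwt) hrr hrt X hX0
  have hf3W : D.W1 f3 := ⟨⟨fun y hy => hf3D y (Or.inl hy), hf3n⟩, hf3D _ (Or.inr (Or.inl rfl))⟩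
  have hwf3 : h w f3 = 0 := hf3D _ (Or.inr (Or.inr rfl))
  have hgood : GoodAt (h := h) f3 v := by
    have e : h f3 v = σ X := by
      rw [hdec, map_add, map_smul, D.sw hf3W.2, smul_zero, zero_add, D.hh.swap r f3, hrf3]
    rw [GoodAt, e, D.hh.invol, mul_comm, hX]
    exact ⟨hc0, hc1⟩
  obtain ⟨f, hf, h1, h2, h3⟩ := D.exists_unit_perp (Or.inr D.unit_e) (Or.inr hw.1.1) (Or.inr hf3W.1) hw.1.2 hf3W.2
    hwf3
  -- the same for `w'`
  set μ := h w' f3 with hμ
  have hμ' : μ = X * h w' t := by simp [hμ, hf3, hwr']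
  have hμ1 : σ μ * μ ≠ 1 := by
    rw [hμ', map_mul]
    intro e
    have hP : c * P = 1 := by rw [← hX]; linear_combination e
    exact hc2 (eq_inv_of_mul_eq_one_left hP)
  set s := f3 - μ • w' with hs
  obtain ⟨k, hk, hku⟩ := D.exists_normalise (sub_mem hf3W.1.1 (Submodule.smul_mem _ _ hw'.1.1.1) : s ∈ orth h D.C)
    (by rw [hμ, D.norm_sub hw'.1.1.2 hf3n, ← hμ]; exact sub_ne_zero.2 (Ne.symm hμ1))
  obtain ⟨f', hf', h1', h2', h3'⟩ := D.exists_unit_perp (Or.inr D.unit_e) (Or.inr hw'.1.1) (Or.inr hku) hw'.1.2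
    (by simp [hs, hf3W.2, hw'.1.2]) (by simp [hs, μ, hw'.1.1.2])
  have h4 : h f3 f' = 0 := by
    have e : h s f' = 0 := by
      rw [map_smulₛₗ, LinearMap.smul_apply, smul_eq_mul] at h3'
      exact (mul_eq_zero.1 h3').resolve_left fun e => hk (by rw [← D.hh.invol k, e, map_zero])
    simpa [hs, h2'] using e
  rw [D.val_frame hv hf3W hgood ⟨hf, h1⟩ h3 hw (D.sw h2),
    D.val_frame hv hf3W hgood ⟨hf', h1'⟩ h4 hw' (D.sw h2')]

end Data

end Cfsg.Agent.PhanAmalgam
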