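/-
Area PhanAmalgam: the extension of `R` and `L` to the stabiliser of `C`.
-/
import Cfsg.Agent.Lib.PhanAmalgam.Orbit
import Cfsg.Agent.Lib.PhanAmalgam.Glue

set_option autoImplicit false

namespace Cfsg.Agent.PhanAmalgam

open Cfsg.Agent.ClassicalSimple

variable {F V H : Type*} [Field F] [AddCommGroup V] [Module F V] {σ : F →+* F} [Group H]

namespace Data

variable {h : V →ₛₗ[σ] V →ₗ[F] F} (D : Data h H) [Finite F] [FiniteDimensional F V] [Wide σ]

include D in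
/-- A unit orthogonal to two given vectors with a prescribed product with a third one orthogonal to them. -/
theorem exists_unit_level {p1 p2 s : V} (h1 : D.Unit₀ p1) (h2 : D.Unit₀ p2) (h12 : h p1 p2 = 0)
    (hs : s ∈ orth h D.C) (hs0 : s ≠ 0) (hs1 : h p1 s = 0) (hs2 : h p2 s = 0) (X : F) (hX : X ≠ 0) :
    ∃ f, D.Unit₁ f ∧ h p1 f = 0 ∧ h p2 f = 0 ∧ h s f = X := by
  let Ds := orth h (D.C ∪ {p1, p2})
  have mem : ∀ u, u ∈ orth h D.C → h p1 u = 0 → h p2 u = 0 → u ∈ Ds := fun u a b c => by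
    rintro w (hw | rfl | rfl)
    exacts [a w hw, b, c]
  have hsD := mem s hs hs1 hs2
  have fin : (∃ f ∈ Ds, h f f = 1 ∧ h s f = X) → ∃ f, D.Unit₁ f ∧ h p1 f = 0 ∧ h p2 f = 0 ∧ h s f = X :=
    fun ⟨f, hf, hff, hsf⟩ => ⟨f, ⟨fun c hc => hf c (Or.inl hc), hff⟩, hf _ (Or.inr (Or.inl rfl)),
      hf _ (Or.inr (Or.inr rfl)), hsf⟩
  by_cases hss : h s s = 0
  · obtain ⟨x, hx, hsx⟩ := D.nd s hs hs0
    set t0 := (h s x)⁻¹ • x with ht0
    set t := t0 - h p1 t0 • p1 - h p2 t0 • p2 with ht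
    have htW : t ∈ orth h D.C := sub_mem (sub_mem (Submodule.smul_mem _ _ hx)
      (Submodule.smul_mem _ _ (D.unit₀_mem h1))) (Submodule.smul_mem _ _ (D.unit₀_mem h2))
    have e1 : h p1 t = 0 := by
      rw [ht, map_sub, D.proj_eq h1, map_smul, h12, smul_zero, sub_zero]
    have e2 : h p2 t = 0 := by
      rw [ht, show t0 - h p1 t0 • p1 - h p2 t0 • p2 = (t0 - h p2 t0 • p2) - h p1 t0 • p1 by abel, map_sub,
        D.proj_eq h2, map_smul, D.sw h12, smul_zero, sub_zero]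
    have est : h s t = 1 := by simp [ht, ht0, D.sw hs1, D.sw hs2, inv_mul_cancel₀ hsx]
    obtain ⟨f, hf, hff, hsf, -⟩ := D.exists_level_iso Ds hsD (mem t htW e1 e2) hss est X hX
    exact fin ⟨f, hf, hff, hsf⟩
  · obtain ⟨a, ha, hau⟩ := D.exists_normalise hs hss
    obtain ⟨u, hu, e1, e2, e3⟩ :=
      D.exists_unit_perp h1 h2 (Or.inr hau) h12 (by simp [hs1]) (by simp [hs2])
    have esu : h s u = 0 := by
      rw [map_smulₛₗ, LinearMap.smul_apply, smul_eq_mul] at e3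
      exact (mul_eq_zero.1 e3).resolve_left fun e => ha (by rw [← D.hh.invol a, e, map_zero])
    exact fin (D.exists_level_aniso Ds hsD (mem u hu.1 e1 e2) hss hu.2 esu X)

include D in
theorem exists_norm_avoid (c0 : F) : ∃ X : F, X ≠ 0 ∧ σ X * X ≠ 1 ∧ σ X * X ≠ c0 := by
  obtain ⟨c, hc, hc0, hc1, hc2⟩ := Wide.avoid (σ := σ) 1 c0
  obtain ⟨X, hX⟩ := D.hh.exists_norm_eq hc
  exact ⟨X, fun e => hc0 (by rw [← hX, e, map_zero, zero_mul]), by rw [hX]; exact hc1, by rw [hX]; exact hc2⟩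

/-- A subgroup containing the stabiliser of `e` and `x` and the elements supported on `e`, `e1` contains the
stabiliser of `x`. -/
theorem gen {x : V} (hx : D.Unit₀ x) (hxe : h D.e x = 0) (hx1 : h D.e1 x = 0) (T : Subgroup (SUH h))
    (hK : fix h (D.C ∪ {D.e, x}) ≤ T) (hP : fixPerp h D.C D.e D.e1 ≤ T) : fix h (D.C ∪ {x}) ≤ T := by
  have hxm := D.unit₀_mem hx
  obtain ⟨d, hd, hd1, hd2, hd3⟩ :=
    D.exists_unit_perp (Or.inr D.unit_e) hx (Or.inr D.unit_e1) hxe D.oe1 (D.sw hx1)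
  have move : ∀ t, D.Unit₁ t → h D.e t = 0 → h x t = 0 → ∃ k ∈ fix h (D.C ∪ {D.e, x}), k • t = D.e1 :=
    fun t ht h1 h2 => D.exists_move_unit {D.e, x} (by rintro w (rfl | rfl); exacts [D.he, hxm]) ht D.unit_e1 hd
      (by rintro w (rfl | rfl); exacts [h1, h2]) (by rintro w (rfl | rfl); exacts [D.oe1, D.sw hx1])
      (by rintro w (rfl | rfl); exacts [hd1, hd2]) (D.sw hd3)
  have plane : ∀ t, D.Unit₁ t → (∀ w ∈ orth h D.C, h D.e w = 0 → h D.e1 w = 0 → h w t = 0) →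
      ∃ g ∈ fixPerp h D.C D.e D.e1, g • t = D.e :=
    fun t ht h1 => D.exists_move_unit {w | w ∈ orth h D.C ∧ h D.e w = 0 ∧ h D.e1 w = 0} (fun w hw => hw.1) ht
      D.unit_e D.unit_e1 (fun w hw => h1 w hw.1 hw.2.1 hw.2.2) (fun w hw => D.sw hw.2.1) (fun w hw => D.sw hw.2.2)
      (D.sw D.oe1)
  have gx : ∀ g ∈ fixPerp h D.C D.e D.e1, g • x = x := fun g hg => hg x (Or.inr ⟨hxm, hxe, hx1⟩)
  have kx : ∀ k ∈ fix h (D.C ∪ {D.e, x}), k • x = x ∧ k • D.e = D.e ∧ D.FixC k := fun k hk =>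
    ⟨(D.mem_fix_two.1 hk).2.2, (D.mem_fix_two.1 hk).2.1, (D.mem_fix_two.1 hk).1⟩
  -- units whose part orthogonal to `e` is zero or anisotropic
  have step : ∀ u, D.Unit₁ u → h x u = 0 → (u - h D.e u • D.e = 0 ∨ σ (h D.e u) * h D.e u ≠ 1) →
      ∃ t ∈ T, D.FixC t ∧ t • x = x ∧ t • u = D.e := by
    intro u hu hxu hcase
    set a := h D.e u
    set s := u - a • D.e with hs
    rcases hcase with h0 | hne
    · have hua : u = a • D.e := sub_eq_zero.1 h0
      obtain ⟨g, hg, hge⟩ := plane u hu fun w _ h1 _ => by rw [hua]; simp [D.sw h1]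
      exact ⟨g, hP hg, fun c hc => hg c (Or.inl hc), gx g hg, hge⟩
    · have hsW : s ∈ orth h D.C := sub_mem hu.1 (Submodule.smul_mem _ _ D.he)
      obtain ⟨c, hc, hcu⟩ := D.exists_normalise hsW
        (by rw [hs, D.norm_sub D.nee hu.2]; exact sub_ne_zero.2 (Ne.symm hne))
      obtain ⟨k, hk, hks⟩ := move _ hcu (by simp [hs, a, D.nee]) (by simp [hs, hxu, D.sw hxe])
      obtain ⟨hkx, hke, hkC⟩ := kx k hk
      have hku : k • u = a • D.e + c⁻¹ • D.e1 := by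
        rw [← hks, su_scal, smul_smul, inv_mul_cancel₀ hc, one_smul, hs, su_sub, su_scal, hke]
        abel
      obtain ⟨g, hg, hge⟩ := plane (k • u) (D.smul_unit hkC hu) fun w _ h1 h2 => by
        rw [hku]; simp [D.sw h1, D.sw h2]
      exact ⟨g * k, mul_mem (hP hg) (hK hk), fun w hw => by rw [mul_smul, hkC w hw, hg w (Or.inl hw)],
        by rw [mul_smul, hkx, gx g hg], by rw [mul_smul, hge]⟩
  have reach : ∀ u, D.Unit₁ u → h x u = 0 → ∃ t ∈ T, D.FixC t ∧ t • x = x ∧ t • u = D.e := by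
    intro u hu hxu
    by_cases hcase : u - h D.e u • D.e = 0 ∨ σ (h D.e u) * h D.e u ≠ 1
    · exact step u hu hxu hcase
    push Not at hcase
    obtain ⟨hs0, -⟩ := hcase
    set a := h D.e u
    set s := u - a • D.e with hs
    have hsW : s ∈ orth h D.C := sub_mem hu.1 (Submodule.smul_mem _ _ D.he)
    obtain ⟨X, hX, hX1, -⟩ := D.exists_norm_avoid 1
    obtain ⟨f, hf, hef, hxf, hsf⟩ := D.exists_unit_level (Or.inr D.unit_e) hx hxe hsW hs0
      (by simp [hs, a, D.nee]) (by simp [hs, hxu, D.sw hxe]) X hX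
    obtain ⟨k, hk, hkf⟩ := move f hf hef hxf
    obtain ⟨hkx, hke, hkC⟩ := kx k hk
    obtain ⟨g, hg, hge⟩ := plane D.e1 D.unit_e1 fun w _ _ h2 => D.sw h2
    have hgC : D.FixC g := fun c hc => hg c (Or.inl hc)
    have hb : h D.e (g • k • u) = σ X := by
      rw [← hge, su_form, ← hkf, su_form, show u = a • D.e + s by rw [hs]; abel, map_add, map_smul,
        D.sw hef, smul_zero, zero_add, D.hh.swap s f, hsf]
    obtain ⟨t, ht, htC, htx, hte⟩ := step (g • k • u) (D.smul_unit hgC (D.smul_unit hkC hu))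
      (by rw [← gx g hg, su_form, ← hkx, su_form]; exact hxu)
      (Or.inr (by rw [hb, D.hh.invol, mul_comm]; exact hX1))
    exact ⟨t * g * k, mul_mem (mul_mem ht (hP hg)) (hK hk),
      fun w hw => by rw [mul_smul, mul_smul, hkC w hw, hgC w hw, htC w hw],
      by rw [mul_smul, mul_smul, hkx, gx g hg, htx], by rw [mul_smul, mul_smul, hte]⟩
  intro g hg
  obtain ⟨hgC, hgx⟩ := D.mem_fix_one.1 hg
  obtain ⟨t, ht, htC, htx, hte⟩ := reach (g • D.e) (D.smul_unit hgC D.unit_e)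
    (by rw [← hgx, su_form]; exact D.sw hxe)
  have hm : t * g ∈ T := hK (D.mem_fix_two.2
    ⟨fun c hc => by rw [mul_smul, hgC c hc, htC c hc], by rw [mul_smul, hte], by rw [mul_smul, hgx, htx]⟩)
  have := mul_mem (inv_mem ht) hm
  rwa [inv_mul_cancel_left] at this

/-- The stabiliser of `C` is generated by the stabiliser of `e` and the elements supported on `e`, `e1`. -/
theorem gen_all (T : Subgroup (SUH h)) (hK : fix h (D.C ∪ {D.e}) ≤ T) (hP : fixPerp h D.C D.e D.e1 ≤ T) :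
    fix h D.C ≤ T := fun g hg =>
  D.gen D.unit₀_zero (map_zero _) (map_zero _) T
    (fun k hk => hK (D.mem_fix_one.2 ⟨(D.mem_fix_two.1 hk).1, (D.mem_fix_two.1 hk).2.1⟩)) hP
    (D.mem_fix_one.2 ⟨hg, smul_zero g⟩)

theorem exists_W0 {v : V} (hv : D.Unit₁ v) : ∃ w, D.W0 v w := by
  set a := h D.e v
  set r := v - a • D.e with hr
  have hrW : r ∈ orth h D.C := sub_mem hv.1 (Submodule.smul_mem _ _ D.he)
  have her : h D.e r = 0 := by simp [hr, a, D.nee]
  have conv : ∀ u, D.Unit₁ u → h D.e u = 0 → h u r = 0 → D.W0 v u := fun u hu h1 h2 => by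
    refine ⟨⟨hu, h1⟩, ?_⟩
    rw [show v = a • D.e + r by rw [hr]; abel]
    simp [D.sw h1, h2]
  by_cases hr0 : r = 0
  · obtain ⟨u, hu, h1, -, -⟩ :=
      D.exists_unit_perp (Or.inr D.unit_e) D.unit₀_zero D.unit₀_zero (map_zero _) (map_zero _) (by simp)
    exact ⟨u, conv u hu h1 (by simp [hr0])⟩
  by_cases hrr : h r r = 0
  swap
  · obtain ⟨c, hc, hcu⟩ := D.exists_normalise hrW hrr
    obtain ⟨u, hu, h1, h2, -⟩ :=
      D.exists_unit_perp (Or.inr D.unit_e) (Or.inr hcu) D.unit₀_zero (by simp [her]) (map_zero _) (map_zero _)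
    refine ⟨u, conv u hu h1 (D.sw ?_)⟩
    rw [map_smulₛₗ, LinearMap.smul_apply, smul_eq_mul] at h2
    exact (mul_eq_zero.1 h2).resolve_left fun e => hc (by rw [← D.hh.invol c, e, map_zero])
  obtain ⟨X, hX, -, -⟩ := D.exists_norm_avoid 1
  obtain ⟨f, hf, hef, -, hrf⟩ :=
    D.exists_unit_level (Or.inr D.unit_e) D.unit₀_zero (map_zero _) hrW hr0 her (by simp) X hX
  set s := r - h f r • f with hs
  have hss : h s s ≠ 0 := by
    have hfr : h f r = σ X := by rw [D.hh.swap r f, hrf]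
    simp only [hs, map_sub, map_smulₛₗ, LinearMap.sub_apply, LinearMap.smul_apply, smul_eq_mul, RingHom.id_apply,
      hrr, hrf, hfr, hf.2, D.hh.invol]
    ring_nf
    simpa using hX
  obtain ⟨c, hc, hcu⟩ := D.exists_normalise (sub_mem hrW (Submodule.smul_mem _ _ hf.1)) hss
  obtain ⟨u, hu, h1, h2, h3⟩ := D.exists_unit_perp (Or.inr D.unit_e) (Or.inr hf) (Or.inr hcu) hef
    (by simp [hs, her, hef]) (by simp [hs, hf.2])
  refine ⟨u, conv u hu h1 (D.sw ?_)⟩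
  rw [map_smulₛₗ, LinearMap.smul_apply, smul_eq_mul] at h3
  have e := (mul_eq_zero.1 h3).resolve_left fun e => hc (by rw [← D.hh.invol c, e, map_zero])
  simpa [hs, h2] using e

theorem conn : D.Conn := ⟨fun hv => D.exists_W0 hv, fun hv hw hw' => D.val_conn hv hw hw'⟩

theorem Ψ_psi' {v : V} (hv : D.Unit₁ v) (hgood : GoodAt (h := h) D.z v) : D.Ψ v = D.psi' v := by
  set a := h D.e v
  set d := h D.z v
  set s := v - a • D.e - d • D.z with hs
  have hsW : s ∈ orth h D.C :=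
    sub_mem (sub_mem hv.1 (Submodule.smul_mem _ _ D.he)) (Submodule.smul_mem _ _ D.hz)
  have hes : h D.e s = 0 := by simp [hs, a, D.nee, D.oez]
  have hzs : h D.z s = 0 := by simp [hs, d, D.nzz, D.sw D.oez]
  by_cases hs0 : s = 0
  · obtain ⟨f, hf, hef, hzf, -⟩ :=
      D.exists_unit_perp (Or.inr D.unit_e) (Or.inr D.unit_z) D.unit₀_zero D.oez (map_zero _) (map_zero _)
    obtain ⟨p, hp, hep, hzp, hfp⟩ :=
      D.exists_unit_perp (Or.inr D.unit_e) (Or.inr D.unit_z) (Or.inr hf) D.oez hef hzf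
    have hp0 : D.W0 v p := by
      refine ⟨⟨hp, hep⟩, ?_⟩
      rw [show v = a • D.e + d • D.z by rw [← sub_eq_zero, ← sub_sub]; exact hs0]
      simp [D.sw hep, D.sw hzp]
    rw [D.Ψ_eq D.conn hv hp0, D.psi'_frame hv hgood ⟨hf, hef⟩ hzf hp0 hfp]
  obtain ⟨X, hX, -, hX2⟩ := D.exists_norm_avoid (1 - σ a * a)
  obtain ⟨f, hf, hef, hzf, hsf⟩ :=
    D.exists_unit_level (Or.inr D.unit_e) (Or.inr D.unit_z) D.oez hsW hs0 hes hzs X hX
  set b := h f v with hb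
  have hbX : b = σ X := by
    rw [hb, show v = a • D.e + d • D.z + s by rw [hs]; abel]
    simp [D.sw hef, D.sw hzf, D.hh.swap s f, hsf]
  set r := v - a • D.e - b • f with hr
  have hrW : r ∈ orth h D.C :=
    sub_mem (sub_mem hv.1 (Submodule.smul_mem _ _ D.he)) (Submodule.smul_mem _ _ hf.1)
  have hrr : h r r ≠ 0 := by
    have hve : h v D.e = σ a := by rw [D.hh.swap D.e v]
    have hvf : h v f = σ b := by rw [D.hh.swap f v, hb]
    have e : h r r = 1 - σ a * a - σ b * b := by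
      simp only [hr, map_sub, map_smulₛₗ, LinearMap.sub_apply, LinearMap.smul_apply, smul_eq_mul, RingHom.id_apply,
        D.nee, hf.2, hef, D.sw hef, hv.2, hve, hvf, ← hb]
      simp only [show h D.e v = a from rfl]
      ring
    rw [e]
    refine sub_ne_zero.2 (Ne.symm ?_)
    rw [hbX, D.hh.invol, mul_comm]
    exact hX2
  obtain ⟨c, hc, hcu⟩ := D.exists_normalise hrW hrr
  obtain ⟨p, hp, hep, hfp, hrp⟩ := D.exists_unit_perp (Or.inr D.unit_e) (Or.inr hf) (Or.inr hcu) hef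
    (by simp [hr, a, D.nee, hef]) (by simp [hr, b, hf.2, D.sw hef])
  rw [map_smulₛₗ, LinearMap.smul_apply, smul_eq_mul] at hrp
  have e := (mul_eq_zero.1 hrp).resolve_left fun e => hc (by rw [← D.hh.invol c, e, map_zero])
  have hp0 : D.W0 v p := by
    refine ⟨⟨hp, hep⟩, ?_⟩
    rw [show v = a • D.e + b • f + r by rw [hr]; abel]
    simp [D.sw hep, D.sw hfp, D.sw e]
  rw [D.Ψ_eq D.conn hv hp0, D.psi'_frame hv hgood ⟨hf, hef⟩ hzf hp0 hfp]

theorem liftL_at {g : SUH h} (hg : g ∈ fix h (D.C ∪ {D.z})) {v : V} (hv : D.Unit₁ v)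
    (hgood : GoodAt (h := h) D.z v) : ((D.L g, g) : H × SUH h) • D.Ψ v = D.Ψ (g • v) := by
  obtain ⟨hgC, hgz⟩ := D.mem_fix_one.1 hg
  have hgood' : GoodAt (h := h) D.z (g • v) := by rw [GoodAt, ← hgz, su_form]; exact hgood
  rw [D.Ψ_psi' hv hgood, D.Ψ_psi' (D.smul_unit hgC hv) hgood', D.psi'_L hv hgood hg]

theorem fixPerp_good {g : SUH h} (hg : g ∈ fixPerp h D.C D.e D.e1) : ((D.L g, g) : H × SUH h) ∈ D.Good := by
  have hgC : D.FixC g := fun c hc => hg c (Or.inl hc)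
  refine ⟨hgC, fun v hv => ?_⟩
  by_cases hex : ∃ p, D.W0 v p ∧ h D.e1 p = 0
  · obtain ⟨p, hp, hp1⟩ := hex
    obtain ⟨hmove, hp', hv'⟩ := D.val_first hg hv hp hp1
    rw [D.Ψ_eq D.conn hv hp, hmove, D.Ψ_eq D.conn hv' hp']
  set a := h D.e v
  set b := h D.e1 v
  set s := v - a • D.e - b • D.e1 with hs
  have hsW : s ∈ orth h D.C :=
    sub_mem (sub_mem hv.1 (Submodule.smul_mem _ _ D.he)) (Submodule.smul_mem _ _ D.he1)
  have hes : h D.e s = 0 := by simp [hs, a, D.nee, D.oe1]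
  have h1s : h D.e1 s = 0 := by simp [hs, b, D.ne11, D.sw D.oe1]
  have hs0 : s ≠ 0 := fun h0 => by
    obtain ⟨p, hp, hep, h1p, -⟩ :=
      D.exists_unit_perp (Or.inr D.unit_e) (Or.inr D.unit_e1) D.unit₀_zero D.oe1 (map_zero _) (map_zero _)
    refine hex ⟨p, ⟨⟨hp, hep⟩, ?_⟩, h1p⟩
    rw [show v = a • D.e + b • D.e1 by rw [← sub_eq_zero, ← sub_sub]; exact h0]
    simp [D.sw hep, D.sw h1p]
  obtain ⟨X, hX, hX1, -⟩ := D.exists_norm_avoid 1
  obtain ⟨f, hf, hef, h1f, hsf⟩ :=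
    D.exists_unit_level (Or.inr D.unit_e) (Or.inr D.unit_e1) D.oe1 hsW hs0 hes h1s X hX
  obtain ⟨d, hd, hd1, hd2, hd3⟩ := D.exists_unit_perp (Or.inr D.unit_e) (Or.inr D.unit_e1) (Or.inr hf) D.oe1 hef h1f
  obtain ⟨k, hk, hkz⟩ := D.exists_move_unit {D.e, D.e1} (by rintro x (rfl | rfl); exacts [D.he, D.he1]) D.unit_z hf hd
    (by rintro x (rfl | rfl); exacts [D.oez, D.o1z]) (by rintro x (rfl | rfl); exacts [hef, h1f])
    (by rintro x (rfl | rfl); exacts [hd1, hd2]) (D.sw hd3)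
  obtain ⟨hkC, hke, -⟩ := D.mem_fix_two.1 hk
  have hkF : k ∈ fix h (D.C ∪ {D.e}) := D.mem_fix_one.2 ⟨hkC, hke⟩
  have hkiC : D.FixC k⁻¹ := fun c hc => by rw [inv_smul_eq_iff, hkC c hc]
  have hgood : GoodAt (h := h) D.z (k⁻¹ • v) := by
    have e : h D.z (k⁻¹ • v) = σ X := by
      rw [← su_form k, smul_inv_smul, hkz, show v = a • D.e + b • D.e1 + s by rw [hs]; abel]
      simp [D.sw hef, D.sw h1f, D.hh.swap s f, hsf]
    rw [GoodAt, e, D.hh.invol, mul_comm]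
    exact ⟨fun e0 => hX (D.norm_eq_zero.1 e0), hX1⟩
  have hcomm : g * k = k * g := (D.commute_perp D.unit_e D.unit_e1 D.oe1 hg hk).eq
  have hpair : ((D.L g, g) : H × SUH h) = D.liftR k * (D.L g, g) * (D.liftR k)⁻¹ := by
    refine Prod.ext ?_ ?_
    · show D.L g = D.R k * D.L g * (D.R k)⁻¹
      rw [← (D.comm1 g hg k hk).eq, mul_inv_cancel_right]
    · show g = k * g * k⁻¹
      rw [← hcomm, mul_inv_cancel_right]
  obtain ⟨-, hR⟩ := D.liftR_good D.conn hkF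
  obtain ⟨-, hRi⟩ := inv_mem (D.liftR_good D.conn hkF)
  rw [hpair, mul_smul, mul_smul, hRi v hv]
  show D.liftR k • ((D.L g, g) : H × SUH h) • D.Ψ (k⁻¹ • v) = _
  rw [D.liftL_at (D.fixPerp_le hg) (D.smul_unit hkiC hv) hgood, hR _ (D.smul_unit hgC (D.smul_unit hkiC hv))]
  show D.Ψ (k • g • k⁻¹ • v) = D.Ψ ((k * g * k⁻¹) • v)
  rw [mul_smul, mul_smul]

/-- The main step: the two homomorphisms extend to the stabiliser of `C`. -/
theorem exists_ext :
    ∃ Φ : SUH h → H, (∀ a ∈ fix h D.C, ∀ b ∈ fix h D.C, Φ (a * b) = Φ a * Φ b) ∧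
      (∀ g ∈ fix h (D.C ∪ {D.e}), Φ g = D.R g) ∧ ∀ g ∈ fix h (D.C ∪ {D.z}), Φ g = D.L g :=
  D.exists_ext_of D.conn (fun _ hg => D.fixPerp_good hg)
    (fun T hK hP => D.gen (Or.inr D.unit_z) D.oez D.o1z T hK hP) D.gen_all

/-- A homomorphism on the stabiliser of `C` is determined by its restrictions. -/
theorem ext_unique (Φ Φ' : SUH h → H) (hΦ : ∀ a ∈ fix h D.C, ∀ b ∈ fix h D.C, Φ (a * b) = Φ a * Φ b)
    (hΦ' : ∀ a ∈ fix h D.C, ∀ b ∈ fix h D.C, Φ' (a * b) = Φ' a * Φ' b)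
    (hR : ∀ g ∈ fix h (D.C ∪ {D.e}), Φ g = Φ' g) (hP : ∀ g ∈ fixPerp h D.C D.e D.e1, Φ g = Φ' g) :
    ∀ g ∈ fix h D.C, Φ g = Φ' g :=
  D.ext_unique_of Φ Φ' hΦ hΦ' D.gen_all hR hP

end Data

end Cfsg.Agent.PhanAmalgam
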