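/-
Area PhanAmalgam: for `q ≥ 3` the group `SU₃` is generated by its two block subgroups.
-/
import Cfsg.Agent.Lib.PhanAmalgam.Align
import Cfsg.Agent.Lib.PhanAmalgam.Ok

set_option autoImplicit false

open scoped Matrix

namespace Cfsg.Agent.PhanAmalgam

open Cfsg.Agent.ClassicalSimple

variable {F : Type*} [Field F] [Fintype F] {q : ℕ} (hF : Fintype.card F = q ^ 2)

include hF in
theorem exists_fixed_avoid (s : Finset F) (hs : s.card + 1 < q) :
    ∃ c : F, Forms.qEnd hF c = c ∧ c ≠ 0 ∧ c ∉ s := by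
  classical
  set K := (powMonoidHom (α := Fˣ) (q - 1)).ker
  have hcard : Nat.card K = q - 1 := Forms.card_units_pow_eq_one hF (dvd_mul_left _ _)
  by_contra hc
  push Not at hc
  have hK : ∀ u : K, ((u.1 : Fˣ) : F) ∈ s := fun u => hc _ (by
    have h1 : (u.1 : F) ^ (q - 1) = 1 := by simpa using congrArg Units.val u.2
    rw [Forms.qEnd_apply, ← Nat.sub_add_cancel (Forms.one_lt_q hF).le, pow_succ', h1, mul_one]) u.1.ne_zero
  have h2 : Nat.card K ≤ Nat.card s :=
    Nat.card_le_card_of_injective (fun u => (⟨_, hK u⟩ : s)) fun a b e =>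
      Subtype.ext (Units.ext (congrArg Subtype.val e))
  rw [hcard, Nat.card_eq_fintype_card, Fintype.card_coe] at h2
  omega

theorem sup_blocks (hq : 3 ≤ q) : (e01 hF).range ⊔ (e12 hF).range = ⊤ := by
  classical
  set hh := hermB_isUnitary hF (n := 3)
  set S := (e01 hF).range ⊔ (e12 hF).range
  set T := S.map (suEquiv hF (n := 3)).toMonoidHom with hT
  have fix0 : ∀ g : SUH (Forms.hermB hF 3), g • (E 0 : Fin 3 → F) = E 0 → g ∈ T := by
    intro g hg
    obtain ⟨x, hx⟩ := embH_surj hF (Fin.succ_injective 2) (g := g) fun j hj => by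
      have hj0 : j = 0 := by
        by_contra h0
        exact hj ⟨j.pred h0, Fin.succ_pred j h0⟩
      rw [hj0, hg]
    exact ⟨e12 hF x, Subgroup.mem_sup_right ⟨x, rfl⟩, hx⟩
  have fix2 : ∀ g : SUH (Forms.hermB hF 3), g • (E 2 : Fin 3 → F) = E 2 → g ∈ T := by
    intro g hg
    obtain ⟨x, hx⟩ := embH_surj hF (Fin.castSucc_injective 2) (g := g) fun j hj => by
      have hj2 : j = 2 := by
        fin_cases j
        exacts [absurd ⟨0, rfl⟩ hj, absurd ⟨1, rfl⟩ hj, rfl]
      rw [hj2, hg]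
    exact ⟨e01 hF x, Subgroup.mem_sup_left ⟨x, rfl⟩, hx⟩
  have zero_of : ∀ (i : Fin 3) (v : Fin 3 → F), Forms.hermB hF 3 (E i) v = 0 →
      v ∈ orth (Forms.hermB hF 3) {(E i : Fin 3 → F)} := fun i v hv c hc => by
    rw [Set.mem_singleton_iff] at hc; subst hc; exact hv
  have step : ∀ u : Fin 3 → F, Forms.hermB hF 3 u u = 1 →
      (u - u 0 • E 0 = 0 ∨ Forms.qEnd hF (u 0) * u 0 ≠ 1) → ∃ t ∈ T, t • u = E 0 := by
    intro u hu hcase
    -- bring `u` to the orthogonal of the last vector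
    obtain ⟨k, hk, hk2⟩ : ∃ k ∈ T, (k • u) 2 = 0 := by
      rcases hcase with h0 | hne
      · exact ⟨1, one_mem T, by rw [one_smul, sub_eq_zero.1 h0]; simp⟩
      · set s := u - u 0 • (E 0 : Fin 3 → F) with hs
        have hss : Forms.hermB hF 3 s s ≠ 0 := by
          have e : Forms.hermB hF 3 s s = 1 - Forms.qEnd hF (u 0) * u 0 := by
            simp only [hs, map_sub, map_smulₛₗ, LinearMap.sub_apply, LinearMap.smul_apply, smul_eq_mul,
              RingHom.id_apply, hu, hE_left, hE_E, if_pos rfl, (hermB_isUnitary hF).swap (E 0) u, Pi.single_eq_same, E_apply]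
            ring
          rw [e]; exact sub_ne_zero.2 (Ne.symm hne)
        obtain ⟨c, hc⟩ := exists_unit_smul hh hss
        obtain ⟨g, hg, hgc⟩ := exists_move hh (orth (Forms.hermB hF 3) {(E 0 : Fin 3 → F)})
          (w := c • s) (w' := E 1) (d := E 2)
          (zero_of 0 _ (by simp [hs, hE_left])) (zero_of 0 _ (by simp [hE_E])) (zero_of 0 _ (by simp [hE_E]))
          hc (by simp [hE_E]) (by simp [hE_E]) (by simp [hE_E])
        have hg0 : g • (E 0 : Fin 3 → F) = E 0 := hgc _ fun x hx => hx _ rfl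
        refine ⟨g, fix0 g hg0, ?_⟩
        have hc0 : c ≠ 0 := fun e => by simp [e] at hc
        rw [show u = u 0 • E 0 + c⁻¹ • (c • s) by rw [smul_smul, inv_mul_cancel₀ hc0, one_smul, hs]; abel,
          su_add, su_scal, su_scal, hg0, hg]
        simp
    obtain ⟨g, hg, hgc⟩ := exists_move hh (orth (Forms.hermB hF 3) {(E 2 : Fin 3 → F)})
      (w := k • u) (w' := E 0) (d := E 1)
      (zero_of 2 _ (by rw [hE_left]; exact hk2)) (zero_of 2 _ (by simp [hE_E])) (zero_of 2 _ (by simp [hE_E]))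
      (by rw [su_form]; exact hu) (by simp [hE_E]) (by simp [hE_E]) (by simp [hE_E])
    exact ⟨g * k, mul_mem (fix2 g (hgc _ fun x hx => hx _ rfl)) hk, by rw [mul_smul, hg]⟩
  have reach : ∀ u : Fin 3 → F, Forms.hermB hF 3 u u = 1 → ∃ t ∈ T, t • u = E 0 := by
    intro u hu
    by_cases hcase : u - u 0 • (E 0 : Fin 3 → F) = 0 ∨ Forms.qEnd hF (u 0) * u 0 ≠ 1
    · exact step u hu hcase
    push Not at hcase
    obtain ⟨hs0, ha⟩ := hcase
    have hsum : Forms.qEnd hF (u 0) * u 0 + Forms.qEnd hF (u 1) * u 1 + Forms.qEnd hF (u 2) * u 2 = 1 := by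
      rw [hermB_sum, Fin.sum_univ_three] at hu; exact hu
    have hb : u 1 ≠ 0 := fun hb => hs0 (by
      have h2 : u 2 = 0 := by
        rw [hb, mul_zero, add_zero, ha, add_eq_left] at hsum
        rcases mul_eq_zero.1 hsum with e | e
        · exact (map_eq_zero _).1 e
        · exact e
      funext i; fin_cases i <;> simp [hb, h2])
    have hc : u 2 ≠ 0 := fun hc => hb (by
      rw [hc, mul_zero, add_zero, ha, add_eq_left] at hsum
      rcases mul_eq_zero.1 hsum with e | e
      · exact (map_eq_zero _).1 e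
      · exact e)
    obtain ⟨c0, hc0, hc00, hc01⟩ := exists_fixed_avoid hF {1} (by rw [Finset.card_singleton]; omega)
    rw [Finset.mem_singleton] at hc01
    obtain ⟨X, hX⟩ := hh.exists_norm_eq hc0
    obtain ⟨d, hd⟩ := hh.exists_trace_one
    have hX0 : X ≠ 0 := fun e => hc00 (by rw [← hX, e, map_zero, zero_mul])
    have hσX : Forms.qEnd hF X ≠ 0 := (map_ne_zero _).2 hX0
    have hσb : Forms.qEnd hF (u 1) ≠ 0 := (map_ne_zero _).2 hb
    have hσc : Forms.qEnd hF (u 2) ≠ 0 := (map_ne_zero _).2 hc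
    set b := u 1
    set c := u 2
    set M := Forms.qEnd hF X * X + Forms.qEnd hF b * b with hM
    have hMσ : Forms.qEnd hF M = M := by simp [hM, Forms.qEnd_qEnd, mul_comm]
    set α := M * d / (Forms.qEnd hF X * b) with hα
    have hNc : Forms.qEnd hF c * c = -(Forms.qEnd hF b * b) := by linear_combination hsum - ha
    have hN : Forms.qEnd hF α * α + Forms.qEnd hF ((X - α * b) / c) * ((X - α * b) / c) = 1 := by
      rw [map_div₀ (Forms.qEnd hF) (X - α * b) c, div_mul_div_comm (Forms.qEnd hF (X - α * b)), hNc, map_sub, map_mul]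
      have hσα : Forms.qEnd hF α = M * Forms.qEnd hF d / (X * Forms.qEnd hF b) := by
        rw [hα, map_div₀, map_mul, map_mul, Forms.qEnd_qEnd, hMσ]
      rw [hσα, hα]
      field_simp
      linear_combination (X * Forms.qEnd hF X * M) * hd + (X * Forms.qEnd hF X) * hM
    set k := embH hF (Fin.succ_injective 2) (mk2 hF α ((X - α * b) / c) hN) with hk
    set g := embH hF (Fin.castSucc_injective 2) (mk2 hF 0 1 (by simp))
    have hk1 : (k • u) 1 = X := by
      rw [hk, show (1 : Fin 3) = Fin.succ (0 : Fin 2) from rfl, embH_in]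
      simp only [Matrix.mulVec, dotProduct, Fin.sum_univ_two, Function.comp_apply, mk2_a, mk2_b]
      rw [show u (Fin.succ (0 : Fin 2)) = b from rfl, show u (Fin.succ (1 : Fin 2)) = c from rfl, div_mul_cancel₀ _ hc,
        add_sub_cancel]
    have hg0 : (g • k • u) 0 = X := by
      rw [show (0 : Fin 3) = Fin.castSucc (0 : Fin 2) from rfl, embH_in]
      simp only [Matrix.mulVec, dotProduct, Fin.sum_univ_two, Function.comp_apply, mk2_a, mk2_b, zero_mul, one_mul,
        zero_add]
      exact hk1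
    obtain ⟨t, ht, hte⟩ := step (g • k • u) (by rw [su_form, su_form]; exact hu)
      (Or.inr (by rw [hg0, hX]; exact hc01))
    exact ⟨t * g * k, mul_mem (mul_mem ht (fix2 g (embH_fix hF _ _ not_range_01)))
      (fix0 k (embH_fix hF _ _ not_range_12)), by rw [mul_smul, mul_smul, hte]⟩
  refine eq_top_iff.2 fun x _ => ?_
  obtain ⟨t, ht, hte⟩ := reach (suEquiv hF x • E 0) (by rw [su_form, hE_E, if_pos rfl])
  have hm := mul_mem (inv_mem ht) (fix0 (t * suEquiv hF x) (by rw [mul_smul, hte]))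
  rw [inv_mul_cancel_left] at hm
  obtain ⟨y, hy, hyx⟩ := hm
  rwa [← (suEquiv hF (n := 3)).injective hyx]

end Cfsg.Agent.PhanAmalgam
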