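/-
Area PhanAmalgam: induction over the intervals of coordinates.
-/
import Cfsg.Agent.Lib.PhanAmalgam.Gen

set_option autoImplicit false

open scoped Matrix

namespace Cfsg.Agent.PhanAmalgam

open Cfsg.Agent.ClassicalSimple

variable {F : Type*} [Field F] [Fintype F] {q : ℕ} (hF : Fintype.card F = q ^ 2)

/-- The basis vectors outside an interval. -/
def outside (F : Type*) [Field F] (N a m : ℕ) : Set (Fin N → F) :=
  (E : Fin N → Fin N → F) '' {j | (j : ℕ) < a ∨ a + m ≤ (j : ℕ)}

/-- The stabiliser of the basis vectors outside an interval. -/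
noncomputable def blk (N a m : ℕ) : Subgroup (SUH (Forms.hermB hF N)) := fix (Forms.hermB hF N) (outside F N a m)

theorem mem_blk {N a m : ℕ} {g : SUH (Forms.hermB hF N)} :
    g ∈ blk hF N a m ↔ ∀ j : Fin N, (j : ℕ) < a ∨ a + m ≤ (j : ℕ) → g • (E j : Fin N → F) = E j :=
  ⟨fun hg j hj => hg _ ⟨j, hj, rfl⟩, by rintro hg _ ⟨j, hj, rfl⟩; exact hg j hj⟩

theorem blk_mono {N a m a' m' : ℕ} (h1 : a' ≤ a) (h2 : a + m ≤ a' + m') : blk hF N a m ≤ blk hF N a' m' :=
  fun g hg => (mem_blk hF).2 fun j hj => (mem_blk hF).1 hg j (by omega)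

/-- The inclusion of an interval. -/
def off {N m : ℕ} (i : ℕ) (h : i + m ≤ N) (k : Fin m) : Fin N := ⟨i + k, lt_of_lt_of_le (Nat.add_lt_add_left k.2 i) h⟩

theorem off_injective {N m : ℕ} (i : ℕ) (h : i + m ≤ N) : Function.Injective (off i h) := fun a b e => by
  have e' := congrArg Fin.val e
  simp only [off] at e'
  exact Fin.ext (by omega)

/-- The block embeddings at an offset. -/
noncomputable def embAt (N m i : ℕ) : Cfsg.SU m F q →* SUH (Forms.hermB hF N) :=
  if h : i + m ≤ N then embH hF (off_injective i h) else 1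

theorem embAt_range {N m i : ℕ} (h : i + m ≤ N) : (embAt hF N m i).range = blk hF N i m := by
  rw [embAt, dif_pos h, embH_range, blk, outside]
  congr 2
  ext j
  simp only [Set.mem_compl_iff, Set.mem_range, Set.mem_setOf_eq]
  constructor
  · intro hj
    by_contra hc
    exact hj ⟨⟨(j : ℕ) - i, by omega⟩, Fin.ext (by simp only [off]; omega)⟩
  · rintro hj ⟨k, rfl⟩
    have := k.2
    simp only [off] at hj
    omega

theorem embAt_mem {N m i : ℕ} (h : i + m ≤ N) (x : Cfsg.SU m F q) : embAt hF N m i x ∈ blk hF N i m :=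
  (embAt_range hF h).le ⟨x, rfl⟩

theorem exists_embAt {N m i : ℕ} (h : i + m ≤ N) {g : SUH (Forms.hermB hF N)} (hg : g ∈ blk hF N i m) :
    ∃ x, embAt hF N m i x = g :=
  (embAt_range hF h).ge hg

theorem embH_congr {m N : ℕ} {f f' : Fin m → Fin N} (e : f = f') (hf : Function.Injective f)
    (hf' : Function.Injective f') (x : Cfsg.SU m F q) : embH hF hf x = embH hF hf' x := by
  subst e; rfl

theorem embAt_e01 {N i : ℕ} (h : i + 3 ≤ N) (x : Cfsg.SU 2 F q) :
    embAt hF N 3 i (e01 hF x) = embAt hF N 2 i x := by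
  rw [embAt, dif_pos h, embAt, dif_pos (show i + 2 ≤ N by omega), e01, embH_comp]
  exact embH_congr hF (funext fun k => Fin.ext (by simp [off])) _ _ x

theorem embAt_e12 {N i : ℕ} (h : i + 3 ≤ N) (x : Cfsg.SU 2 F q) :
    embAt hF N 3 i (e12 hF x) = embAt hF N 2 (i + 1) x := by
  rw [embAt, dif_pos h, embAt, dif_pos (show i + 1 + 2 ≤ N by omega), e12, embH_comp]
  exact embH_congr hF (funext fun k => Fin.ext (by simp [off]; omega)) _ _ x

theorem embAt_injective {N m i : ℕ} (h : i + m ≤ N) : Function.Injective (embAt hF N m i) := by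
  rw [embAt, dif_pos h]; exact embH_injective hF _

variable {G : Type*} [Group G]

include hF in
theorem wide (hq : 4 ≤ q) : Wide (Forms.qEnd hF) := ⟨fun u v => by
  classical
  obtain ⟨c, h1, h2, h3⟩ := exists_fixed_avoid hF {u, v} (by
    have := Finset.card_le_two (a := u) (b := v); omega)
  simp only [Finset.mem_insert, Finset.mem_singleton, not_or] at h3
  exact ⟨c, h1, h2, h3.1, h3.2⟩⟩

/-- A compatible system on a chain of blocks. -/
structure Chain (N : ℕ) (U : ℕ → Subgroup G) (P : ℕ → (Cfsg.SU 3 F q →* G)) : Prop where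
  r01 : ∀ i, i + 3 ≤ N → ∀ x, P i (e01 hF x) ∈ U i
  r12 : ∀ i, i + 3 ≤ N → ∀ x, P i (e12 hF x) ∈ U (i + 1)
  compat : ∀ i, i + 4 ≤ N → ∀ x, P (i + 1) (e01 hF x) = P i (e12 hF x)
  comm : ∀ i j, i + 2 ≤ j → j + 2 ≤ N → ∀ a ∈ U i, ∀ b ∈ U j, a * b = b * a

/-- A map defined on a block extending the system. -/
def IsExt (N : ℕ) (P : ℕ → (Cfsg.SU 3 F q →* G)) (a m : ℕ) (Φ : SUH (Forms.hermB hF N) → G) : Prop :=
  (∀ x ∈ blk hF N a m, ∀ y ∈ blk hF N a m, Φ (x * y) = Φ x * Φ y) ∧
    ∀ i, a ≤ i → i + 3 ≤ a + m → ∀ x, Φ (embAt hF N 3 i x) = P i x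

/-- Maps on a block agreeing on the three-dimensional blocks agree. -/
def Rigid (G : Type*) [Group G] (N a m : ℕ) : Prop :=
  ∀ Φ Φ' : SUH (Forms.hermB hF N) → G,
    (∀ x ∈ blk hF N a m, ∀ y ∈ blk hF N a m, Φ (x * y) = Φ x * Φ y) →
    (∀ x ∈ blk hF N a m, ∀ y ∈ blk hF N a m, Φ' (x * y) = Φ' x * Φ' y) →
    (∀ i, a ≤ i → i + 3 ≤ a + m → ∀ x, Φ (embAt hF N 3 i x) = Φ' (embAt hF N 3 i x)) →
    ∀ g ∈ blk hF N a m, Φ g = Φ' g

section

variable {hF}
variable {N : ℕ} {U : ℕ → Subgroup G} {P : ℕ → (Cfsg.SU 3 F q →* G)} (hC : Chain hF N U P)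
include hC

theorem Chain.commute (hq : 3 ≤ q) {a m : ℕ} (hm : a + m ≤ N) (hrig : Rigid hF G N a m) {a' m' : ℕ} (h1 : a' ≤ a)
    (h2 : a + m ≤ a' + m') {Φ : SUH (Forms.hermB hF N) → G} (hΦ : IsExt hF N P a' m' Φ) {y : G}
    (hy : ∀ j, a ≤ j → j + 2 ≤ a + m → ∀ b ∈ U j, y * b = b * y) :
    ∀ g ∈ blk hF N a m, y * Φ g = Φ g * y := by
  intro g hg
  have hle := blk_mono hF (N := N) h1 h2
  have hP : ∀ i, a ≤ i → i + 3 ≤ a + m → ∀ x, y * P i x = P i x * y := by
    intro i hi hi' x
    have htop : (e01 hF).range ⊔ (e12 hF).range ≤ (Subgroup.centralizer {y}).comap (P i) := by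
      refine sup_le ?_ ?_
      · rintro _ ⟨w, rfl⟩
        rw [Subgroup.mem_comap, Subgroup.mem_centralizer_iff]
        rintro _ rfl
        exact hy i hi (by omega) _ (hC.r01 i (by omega) w)
      · rintro _ ⟨w, rfl⟩
        rw [Subgroup.mem_comap, Subgroup.mem_centralizer_iff]
        rintro _ rfl
        exact hy (i + 1) (by omega) (by omega) _ (hC.r12 i (by omega) w)
    rw [sup_blocks hF hq] at htop
    exact Subgroup.mem_centralizer_iff.1 (htop (Subgroup.mem_top x)) y rfl
  have e := hrig (fun g => y * Φ g * y⁻¹) Φ (fun u hu v hv => by rw [hΦ.1 u (hle hu) v (hle hv)]; group)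
    (fun u hu v hv => hΦ.1 u (hle hu) v (hle hv))
    (fun i hi hi' x => by
      rw [hΦ.2 i (by omega) (by omega), hP i hi hi' x, mul_inv_cancel_right]) g hg
  conv_rhs => rw [← e]
  rw [inv_mul_cancel_right]

theorem Chain.exists_ext (hq : 4 ≤ q) :
    ∀ m, 3 ≤ m → ∀ a, a + m ≤ N → (∃ Φ, IsExt hF N P a m Φ) ∧ Rigid hF G N a m := by
  classical
  intro m
  induction m using Nat.strong_induction_on with
  | _ m ih =>
    intro hm a ha
    by_cases hm3 : m = 3
    · subst hm3
      have hinv : ∀ g, ∃ x, g ∈ blk hF N a 3 → embAt hF N 3 a x = g := fun g => by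
        by_cases hg : g ∈ blk hF N a 3
        · obtain ⟨x, hx⟩ := exists_embAt hF ha hg
          exact ⟨x, fun _ => hx⟩
        · exact ⟨1, fun h => absurd h hg⟩
      choose inv hinv using hinv
      refine ⟨⟨fun g => P a (inv g), fun x hx y hy => ?_, fun i hi hi' x => ?_⟩, fun Φ Φ' _ _ hagree g hg => ?_⟩
      · show P a (inv (x * y)) = P a (inv x) * P a (inv y)
        rw [← map_mul]
        congr 1
        apply embAt_injective hF ha
        rw [map_mul, hinv x hx, hinv y hy, hinv _ (mul_mem hx hy)]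
      · obtain rfl : i = a := by omega
        show P i (inv (embAt hF N 3 i x)) = P i x
        rw [embAt_injective hF ha (hinv _ (embAt_mem hF ha x))]
      · obtain ⟨x, rfl⟩ := exists_embAt hF ha hg
        exact hagree a le_rfl le_rfl x
    obtain ⟨k, rfl⟩ : ∃ k, m = k + 1 := ⟨m - 1, by omega⟩
    have hk : 3 ≤ k := by omega
    set h := Forms.hermB hF N with hh
    obtain ⟨⟨ΦL, hL⟩, -⟩ := ih k (by omega) hk a (by omega)
    obtain ⟨⟨ΦR, hR⟩, -⟩ := ih k (by omega) hk (a + 1) (by omega)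
    set ie : Fin N := ⟨a, by omega⟩
    set ie1 : Fin N := ⟨a + 1, by omega⟩
    set iy : Fin N := ⟨a + k - 1, by omega⟩
    set iz : Fin N := ⟨a + k, by omega⟩
    have hne : ie ≠ ie1 ∧ ie ≠ iy ∧ ie ≠ iz ∧ ie1 ≠ iy ∧ ie1 ≠ iz ∧ iy ≠ iz := by
      simp only [ie, ie1, iy, iz, ne_eq, Fin.ext_iff]; omega
    have hin : ∀ j : Fin N, a ≤ (j : ℕ) → (j : ℕ) < a + (k + 1) →
        (E j : Fin N → F) ∈ orth h (outside F N a (k + 1)) := by
      rintro j h1 h2 _ ⟨i, hi, rfl⟩
      rw [hE_E, if_neg]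
      rintro rfl
      simp only [Set.mem_setOf_eq] at hi
      omega
    -- the stabilisers in terms of blocks
    have fix1 : ∀ (j : Fin N) (a' m' : ℕ),
        (∀ i : Fin N, ((i : ℕ) < a' ∨ a' + m' ≤ (i : ℕ)) ↔ ((i : ℕ) < a ∨ a + (k + 1) ≤ (i : ℕ) ∨ i = j)) →
        fix h (outside F N a (k + 1) ∪ {(E j : Fin N → F)}) = blk hF N a' m' := by
      intro j a' m' hij
      ext g
      rw [mem_blk]
      refine ⟨fun hg i hi => ?_, fun hg => ?_⟩
      · rcases (hij i).1 hi with h1 | h1 | rfl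
        exacts [hg _ (Or.inl ⟨i, Or.inl h1, rfl⟩), hg _ (Or.inl ⟨i, Or.inr h1, rfl⟩), hg _ (Or.inr rfl)]
      · rintro x (⟨i, hi, rfl⟩ | rfl)
        · exact hg i ((hij i).2 (hi.elim Or.inl fun h1 => Or.inr (Or.inl h1)))
        · exact hg j ((hij j).2 (Or.inr (Or.inr rfl)))
    have fix2 : ∀ (j j' : Fin N) (a' m' : ℕ),
        (∀ i : Fin N, ((i : ℕ) < a' ∨ a' + m' ≤ (i : ℕ)) →
          ((i : ℕ) < a ∨ a + (k + 1) ≤ (i : ℕ) ∨ i = j ∨ i = j')) →
        fix h (outside F N a (k + 1) ∪ {(E j : Fin N → F), E j'}) ≤ blk hF N a' m' := by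
      intro j j' a' m' hij g hg
      rw [mem_blk]
      intro i hi
      rcases hij i hi with h1 | h1 | rfl | rfl
      exacts [hg _ (Or.inl ⟨i, Or.inl h1, rfl⟩), hg _ (Or.inl ⟨i, Or.inr h1, rfl⟩), hg _ (Or.inr (Or.inl rfl)),
        hg _ (Or.inr (Or.inr rfl))]
    have perp : ∀ (j j' : Fin N) (a' : ℕ), (∀ i : Fin N, ((i : ℕ) < a' ∨ a' + 2 ≤ (i : ℕ)) → i ≠ j ∧ i ≠ j') →
        fixPerp h (outside F N a (k + 1)) (E j) (E j') ≤ blk hF N a' 2 := by
      intro j j' a' hij g hg
      rw [mem_blk]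
      intro i hi
      obtain ⟨h1, h2⟩ := hij i hi
      by_cases hio : (i : ℕ) < a ∨ a + (k + 1) ≤ (i : ℕ)
      · exact hg _ (Or.inl ⟨i, hio, rfl⟩)
      · push Not at hio
        exact hg _ (Or.inr ⟨hin i hio.1 hio.2, by rw [hE_E, if_neg h1.symm], by rw [hE_E, if_neg h2.symm]⟩)
    have fe : fix h (outside F N a (k + 1) ∪ {(E ie : Fin N → F)}) = blk hF N (a + 1) k :=
      fix1 ie (a + 1) k fun i => by simp only [ie, Fin.ext_iff]; omega
    have fz : fix h (outside F N a (k + 1) ∪ {(E iz : Fin N → F)}) = blk hF N a k :=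
      fix1 iz a k fun i => by simp only [iz, Fin.ext_iff]; omega
    have hR' : ∀ i, a + 1 ≤ i → i + 3 ≤ a + 1 + k → ∀ x, ΦR (embAt hF N 3 i x) = P i x := hR.2
    let D : Data h G :=
      { hh := hermB_isUnitary hF
        C := outside F N a (k + 1)
        e := E ie, e1 := E ie1, y := E iy, z := E iz
        he := hin ie (by simp [ie]) (by simp [ie])
        he1 := hin ie1 (by simp [ie1]) (by simp [ie1]; omega)
        hy := hin iy (by simp [iy]; omega) (by simp [iy]; omega)
        hz := hin iz (by simp [iz]) (by simp [iz])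
        nee := by rw [hE_E, if_pos rfl]
        ne11 := by rw [hE_E, if_pos rfl]
        nyy := by rw [hE_E, if_pos rfl]
        nzz := by rw [hE_E, if_pos rfl]
        oe1 := by rw [hE_E, if_neg hne.1]
        oey := by rw [hE_E, if_neg hne.2.1]
        oez := by rw [hE_E, if_neg hne.2.2.1]
        o1y := by rw [hE_E, if_neg hne.2.2.2.1]
        o1z := by rw [hE_E, if_neg hne.2.2.2.2.1]
        oyz := by rw [hE_E, if_neg hne.2.2.2.2.2]
        nd := fun v hv hv0 => by
          obtain ⟨i, hi⟩ := Function.ne_iff.1 hv0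
          have h1 : ¬ ((i : ℕ) < a ∨ a + (k + 1) ≤ (i : ℕ)) := fun hio => hi (by
            have e := hv _ ⟨i, hio, rfl⟩
            rwa [hE_left] at e)
          push Not at h1
          refine ⟨E i, hin i h1.1 h1.2, fun e => hi ?_⟩
          have e' := (hermB_isUnitary hF).comm_zero e
          rwa [hE_left] at e'
        span := fun g hgC hgW => by
          refine su_ext fun v => ?_
          have hall : ∀ i : Fin N, g • (E i : Fin N → F) = E i := fun i => by
            by_cases hio : (i : ℕ) < a ∨ a + (k + 1) ≤ (i : ℕ)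
            · exact hgC _ ⟨i, hio, rfl⟩
            · push Not at hio; exact hgW _ (hin i hio.1 hio.2)
          funext i
          rw [one_smul, ← hE_left hF i (g • v), ← hall i, su_form, hE_left]
        R := ΦR
        L := ΦL
        R_mul := by rw [fe]; exact hR.1
        L_mul := by rw [fz]; exact hL.1
        agree := fun g hg => by
          have hg' := fix2 ie iz (a + 1) (k - 1) (fun i hi => by simp only [ie, iz, Fin.ext_iff]; omega) hg
          by_cases hk3 : k = 3
          · subst hk3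
            obtain ⟨x, rfl⟩ := exists_embAt hF (m := 2) (i := a + 1) (by omega) hg'
            rw [← embAt_e12 hF (i := a) (by omega), hL.2 a le_rfl (by omega), embAt_e12 hF (i := a) (by omega),
              ← embAt_e01 hF (i := a + 1) (by omega), hR' (a + 1) le_rfl (by omega), hC.compat a (by omega)]
          · refine (ih (k - 1) (by omega) (by omega) (a + 1) (by omega)).2 ΦR ΦL
              (fun u hu v hv => hR.1 u (blk_mono hF le_rfl (by omega) hu) v (blk_mono hF le_rfl (by omega) hv))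
              (fun u hu v hv => hL.1 u (blk_mono hF (by omega) (by omega) hu) v
                (blk_mono hF (by omega) (by omega) hv))
              (fun i hi hi' x => by rw [hR' i hi (by omega), hL.2 i (by omega) (by omega)]) g hg'
        comm1 := fun g hg g' hg' => by
          obtain ⟨x, rfl⟩ := exists_embAt hF (m := 2) (i := a) (by omega)
            (perp ie ie1 a (fun i hi => by simp only [ie, ie1, ne_eq, Fin.ext_iff]; omega) hg)
          rw [← embAt_e01 hF (i := a) (by omega), hL.2 a le_rfl (by omega)]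
          have hxU := hC.r01 a (by omega) x
          have hg'' := fix2 ie ie1 (a + 2) (k - 1) (fun i hi => by simp only [ie, ie1, Fin.ext_iff]; omega) hg'
          by_cases hk3 : k = 3
          · subst hk3
            obtain ⟨w, rfl⟩ := exists_embAt hF (m := 2) (i := a + 2) (by omega) hg''
            rw [← embAt_e12 hF (i := a + 1) (by omega), hR' (a + 1) le_rfl (by omega)]
            exact hC.comm a (a + 2) le_rfl (by omega) _ hxU _ (hC.r12 (a + 1) (by omega) w)
          · exact hC.commute (by omega) (by omega) (ih (k - 1) (by omega) (by omega) (a + 2) (by omega)).2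
              (by omega) (by omega) hR (fun j hj hj' b hb => hC.comm a j (by omega) (by omega) _ hxU b hb) g' hg''
        comm2 := fun g hg g' hg' => by
          obtain ⟨x, rfl⟩ := exists_embAt hF (m := 2) (i := a + k - 1) (by omega)
            (perp iy iz (a + k - 1) (fun i hi => by simp only [iy, iz, ne_eq, Fin.ext_iff]; omega) hg)
          obtain ⟨j, hj⟩ : ∃ j, a + k - 1 = j + 1 := ⟨a + k - 2, by omega⟩
          rw [hj, ← embAt_e12 hF (i := j) (by omega), hR' j (by omega) (by omega)]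
          have hxU := hC.r12 j (by omega) x
          have hg'' := fix2 iy iz a (k - 1) (fun i hi => by simp only [iy, iz, Fin.ext_iff]; omega) hg'
          by_cases hk3 : k = 3
          · subst hk3
            obtain ⟨w, rfl⟩ := exists_embAt hF (m := 2) (i := a) (by omega) hg''
            rw [← embAt_e01 hF (i := a) (by omega), hL.2 a le_rfl (by omega)]
            exact (hC.comm a (j + 1) (by omega) (by omega) _ (hC.r01 a (by omega) w) _ hxU).symm
          · exact hC.commute (by omega) (by omega) (ih (k - 1) (by omega) (by omega) a (by omega)).2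
              (by omega) (by omega) hL (fun i hi hi' b hb => (hC.comm i (j + 1) (by omega) (by omega) b hb _ hxU).symm)
              g' hg'' }
    haveI : Wide (Forms.qEnd hF) := wide hF hq
    have hblk : fix h D.C = blk hF N a (k + 1) := rfl
    refine ⟨?_, fun Φ Φ' hΦ hΦ' hagree g hg => ?_⟩
    · obtain ⟨Φ, h1, h2, h3⟩ := D.exists_ext
      refine ⟨Φ, fun x hx y hy => h1 x hx y hy, fun i hi hi' x => ?_⟩
      by_cases hia : i = a
      · subst hia
        rw [h3 _ (fz.ge (blk_mono hF le_rfl (by omega) (embAt_mem hF (by omega) x)))]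
        exact hL.2 i le_rfl (by omega) x
      · rw [h2 _ (fe.ge (blk_mono hF (by omega) (by omega) (embAt_mem hF (by omega) x)))]
        exact hR' i (by omega) (by omega) x
    · refine D.ext_unique Φ Φ' hΦ hΦ' (fun u hu => ?_) (fun u hu => ?_) g hg
      · exact (ih k (by omega) hk (a + 1) (by omega)).2 Φ Φ'
          (fun x hx y hy => hΦ x (blk_mono hF (by omega) (by omega) hx) y (blk_mono hF (by omega) (by omega) hy))
          (fun x hx y hy => hΦ' x (blk_mono hF (by omega) (by omega) hx) y (blk_mono hF (by omega) (by omega) hy))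
          (fun i hi hi' x => hagree i (by omega) (by omega) x) u (fe.le hu)
      · obtain ⟨x, rfl⟩ := exists_embAt hF (m := 3) (i := a) (by omega)
          (blk_mono hF le_rfl (by omega)
            (perp ie ie1 a (fun i hi => by simp only [ie, ie1, ne_eq, Fin.ext_iff]; omega) hu))
        exact hagree a le_rfl (by omega) x

end

include hF in
/-- The recognition theorem for a group with a compatible system. -/
theorem exists_hom (hq : 4 ≤ q) {N : ℕ} (hN : 3 ≤ N) {U : ℕ → Subgroup G} {P : ℕ → (Cfsg.SU 3 F q →* G)}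
    (hC : Chain hF N U P) :
    ∃ f : Cfsg.SU N F q →* G, ∀ i, i + 3 ≤ N → (P i).range ≤ f.range := by
  obtain ⟨⟨Φ, hΦ⟩, -⟩ := hC.exists_ext hq N hN 0 (by omega)
  have hall : ∀ g, g ∈ blk hF N 0 N := fun g => (mem_blk hF).2 fun j hj => by omega
  let f : Cfsg.SU N F q →* G :=
    MonoidHom.mk' (fun x => Φ (suEquiv hF x)) fun a b => by rw [map_mul]; exact hΦ.1 _ (hall _) _ (hall _)
  refine ⟨f, fun i hi => ?_⟩
  rintro _ ⟨x, rfl⟩
  refine ⟨(suEquiv hF (n := N)).symm (embAt hF N 3 i x), ?_⟩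
  show Φ (suEquiv hF ((suEquiv hF (n := N)).symm (embAt hF N 3 i x))) = P i x
  rw [MulEquiv.apply_symm_apply]
  exact hΦ.2 i (by omega) (by omega) x

end Cfsg.Agent.PhanAmalgam
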