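/-
Area PhanAmalgam: fitting a homomorphism of `SU₄` to two given parametrisations of standard pairs.
-/
import Cfsg.Agent.Lib.PhanAmalgam.Driver

set_option autoImplicit false

open scoped Matrix

namespace Cfsg.Agent.PhanAmalgam

open Cfsg.Agent.ClassicalSimple

variable {F : Type*} [Field F] [Fintype F] {q : ℕ} (hF : Fintype.card F = q ^ 2)

/-- The embeddings of `SU₃` into `SU₄`. -/
noncomputable def e012 : Cfsg.SU 3 F q →* Cfsg.SU 4 F q := embS hF (Fin.castSucc_injective 3)

@[inherit_doc e012]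
noncomputable def e123 : Cfsg.SU 3 F q →* Cfsg.SU 4 F q := embS hF (Fin.succ_injective 3)

theorem embS_comp {k m N : ℕ} {g : Fin k → Fin m} {f : Fin m → Fin N} (hg : Function.Injective g)
    (hf : Function.Injective f) (x : Cfsg.SU k F q) :
    embS hF hf (embS hF hg x) = embS hF (hf.comp hg) x :=
  (suEquiv hF (n := N)).injective (embH_comp hF hg hf x)

theorem e012_e12 (x : Cfsg.SU 2 F q) : e012 hF (e12 hF x) = e123 hF (e01 hF x) := by
  rw [e012, e12, e123, e01, embS_comp, embS_comp]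

omit [Fintype F] in
theorem range_comp_surj {A B C : Type*} [Group A] [Group B] [Group C] (f : B →* C) (g : A →* B)
    (hg : Function.Surjective g) : (f.comp g).range = f.range := by
  rw [MonoidHom.range_comp, MonoidHom.range_eq_top.2 hg, ← MonoidHom.range_eq_map]

theorem embS_eq_one_twist {m N : ℕ} {f : Fin m → Fin N} (hf : Function.Injective f) {c : Fin N → F}
    (hc : ∀ i, Forms.qEnd hF (c i) * c i = 1) (hc1 : ∀ k, c (f k) = 1) (x : Cfsg.SU m F q) :
    twist hF hc (RingEquiv.refl F) (embS hF hf x) = embS hF hf x := by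
  rw [twist_embS]
  congr 1
  refine Subtype.ext (Subtype.ext ?_)
  ext i j
  rw [twist_apply, Function.comp_apply, Function.comp_apply, hc1, hc1]
  simp

theorem twist_one {m : ℕ} {c : Fin m → F} (hc : ∀ i, Forms.qEnd hF (c i) * c i = 1) (hc1 : ∀ k, c k = 1)
    (x : Cfsg.SU m F q) : twist hF hc (RingEquiv.refl F) x = x := by
  refine Subtype.ext (Subtype.ext ?_)
  ext i j
  rw [twist_apply, hc1, hc1]
  simp

theorem twist_congr {m : ℕ} {c c' : Fin m → F} (hc : ∀ i, Forms.qEnd hF (c i) * c i = 1)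
    (hc' : ∀ i, Forms.qEnd hF (c' i) * c' i = 1) (e : c = c') (τ : F ≃+* F) (x : Cfsg.SU m F q) :
    twist hF hc τ x = twist hF hc' τ x := by subst e; rfl

theorem twist_comp {m : ℕ} {c c' : Fin m → F} (hc : ∀ i, Forms.qEnd hF (c i) * c i = 1)
    (hc' : ∀ i, Forms.qEnd hF (c' i) * c' i = 1) (hcc : ∀ i, Forms.qEnd hF ((c * c') i) * (c * c') i = 1)
    (τ : F ≃+* F) (hτ : ∀ i, τ (c' i) = c' i) (x : Cfsg.SU m F q) :
    twist hF hc τ (twist hF hc' (RingEquiv.refl F) x) = twist hF hcc τ x := by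
  refine Subtype.ext (Subtype.ext ?_)
  ext i j
  rw [twist_apply, twist_apply, twist_apply]
  simp only [map_mul, map_inv₀, hτ, RingEquiv.refl_apply, Pi.mul_apply, mul_inv]
  ring

/-- Conjugation by a diagonal element of the first block acts on the second as a twist. -/
theorem e01_diag_conj {t : Cfsg.SU 2 F q} (ht : t.1.1 0 1 = 0) {c : Fin 3 → F}
    (hc : ∀ i, Forms.qEnd hF (c i) * c i = 1) (h0 : c 0 = t.1.1 0 0) (h1 : c 1 = Forms.qEnd hF (t.1.1 0 0))
    (h2 : c 2 = 1) (y : Cfsg.SU 3 F q) :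
    e01 hF t * y * (e01 hF t)⁻¹ = twist hF hc (RingEquiv.refl F) y := by
  obtain ⟨t1, t2, -⟩ := su2_shape hF t
  rw [ht, map_zero, neg_zero] at t2
  have hdiag : (e01 hF t).1.1 = Matrix.diagonal c := by
    ext i j
    have hcol := congrFun (embH_fix hF (Fin.castSucc_injective 2) t not_range_01) i
    rw [embH_smul, mulVec_single_one, E_apply, ← embS_val hF] at hcol
    have hrow := congrFun (mulVec_single_one (embMat (Fin.castSucc_injective 2) t.1.1) j) 2
    rw [embMat_out _ _ _ not_range_01, ← embS_val hF, Pi.single_apply] at hrow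
    fin_cases i <;> fin_cases j
    exacts [(embS_apply hF (Fin.castSucc_injective 2) t 0 0).trans (by simp [h0]),
      (embS_apply hF (Fin.castSucc_injective 2) t 0 1).trans (by simp [ht]), hcol.trans (by simp),
      (embS_apply hF (Fin.castSucc_injective 2) t 1 0).trans (by simp [t2]),
      (embS_apply hF (Fin.castSucc_injective 2) t 1 1).trans (by simp [t1, h1]), hcol.trans (by simp),
      hrow.symm.trans (by simp), hrow.symm.trans (by simp), hrow.symm.trans (by simp [h2])]
  rw [mul_inv_eq_iff_eq_mul]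
  refine Subtype.ext (Subtype.ext ?_)
  ext i j
  rw [Subgroup.coe_mul, Subgroup.coe_mul, Matrix.SpecialLinearGroup.coe_mul, Matrix.SpecialLinearGroup.coe_mul, hdiag,
    Matrix.diagonal_mul, Matrix.mul_diagonal, twist_apply, RingEquiv.refl_apply]
  have := twist_ne hF hc j
  field_simp

variable {G : Type*} [Group G]

/-- Parametrisations of the same pair are related on the first block by a monomial semilinear map. -/
theorem fit_first {U U' V : Subgroup G} {φ ψ : Cfsg.SU 3 F q →* G} (hφ : Std hF U U' V φ) (hψ : Std hF U U' V ψ) :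
    ∃ (μ : F) (τ : F ≃+* F) (hc : ∀ i, Forms.qEnd hF (![μ, 1, 1] i) * ![μ, 1, 1] i = 1),
      ∀ x, φ (e01 hF x) = ψ (twist hF hc τ (e01 hF x)) := by
  set θ : Cfsg.SU 2 F q ≃* Cfsg.SU 2 F q := (MonoidHom.ofInjective hφ.inj01).trans
    ((MulEquiv.subgroupCongr (hφ.r01.trans hψ.r01.symm)).trans (MonoidHom.ofInjective hψ.inj01).symm)
  have hθ : ∀ x, ψ (e01 hF (θ x)) = φ (e01 hF x) := fun x => by
    show ψ.comp (e01 hF) (θ x) = φ.comp (e01 hF) x
    simp only [θ, MulEquiv.trans_apply]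
    exact MonoidHom.apply_ofInjective_symm hψ.inj01 _
  have hT : ∀ x, x.1.1 0 1 = 0 → (θ x).1.1 0 1 = 0 := fun x hx =>
    hψ.diag_of_normalise fun y hy => by rw [hθ]; exact hφ.normalise_of_diag hx hy
  obtain ⟨μ, τ, hμ, hμτ⟩ := aut_su2 hF θ hT
  have hc : ∀ i, Forms.qEnd hF (![μ, 1, 1] i) * ![μ, 1, 1] i = 1 := by
    intro i; fin_cases i <;> simp [hμ]
  refine ⟨μ, τ, hc, fun x => ?_⟩
  rw [← hθ]
  congr 1
  show e01 hF (θ x) = twist hF hc τ (embS hF _ x)
  rw [twist_embS]
  show embS hF _ (θ x) = _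
  congr 1
  refine su2_ext hF ?_ ?_ <;> rw [twist_apply]
  · rw [(hμτ x).1]
    have h0 : μ ≠ 0 := fun e => by simp [e] at hμ
    simp
    field_simp
  · rw [(hμτ x).2]; simp

/-- Parametrisations of the same pair agreeing on the first block are related on the second by a diagonal map. -/
theorem fit_second (hfix : ∀ (τ : F ≃+* F) (x : F), Forms.qEnd hF x = x → τ x = x) {U U' V : Subgroup G}
    {φ ψ : Cfsg.SU 3 F q →* G} (hφ : Std hF U U' V φ) (hψ : Std hF U U' V ψ)
    (hag : ∀ x, φ (e01 hF x) = ψ (e01 hF x)) :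
    ∃ (μ : F) (hc : ∀ i, Forms.qEnd hF (![1, 1, μ] i) * ![1, 1, μ] i = 1),
      (∀ x, φ (e01 hF x) = ψ (twist hF hc (RingEquiv.refl F) (e01 hF x))) ∧
        ∀ x, φ (e12 hF x) = ψ (twist hF hc (RingEquiv.refl F) (e12 hF x)) := by
  set θ : Cfsg.SU 2 F q ≃* Cfsg.SU 2 F q := (MonoidHom.ofInjective hφ.inj12).trans
    ((MulEquiv.subgroupCongr (hφ.r12.trans hψ.r12.symm)).trans (MonoidHom.ofInjective hψ.inj12).symm)
  have hθ : ∀ x, ψ (e12 hF (θ x)) = φ (e12 hF x) := fun x => by
    show ψ.comp (e12 hF) (θ x) = φ.comp (e12 hF) x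
    simp only [θ, MulEquiv.trans_apply]
    exact MonoidHom.apply_ofInjective_symm hψ.inj12 _
  obtain ⟨t, ht0, ht⟩ := exists_torus hF
  obtain ⟨t1, t2, tN⟩ := su2_shape hF t
  rw [ht0, mul_zero, add_zero] at tN
  set l := t.1.1 0 0
  have hct : ∀ i, Forms.qEnd hF (![l, Forms.qEnd hF l, 1] i) * ![l, Forms.qEnd hF l, 1] i = 1 := by
    intro i; fin_cases i <;> simp [tN, Forms.qEnd_qEnd, mul_comm l]
  set cs : Fin 2 → F := ![l, Forms.qEnd hF l, 1] ∘ Fin.succ with hcs
  have hcs' : ∀ i, Forms.qEnd hF (cs i) * cs i = 1 := fun i => hct i.succ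
  -- conjugation by the torus commutes with `θ`
  have hconj : ∀ x, θ (twist hF hcs' (RingEquiv.refl F) x) = twist hF hcs' (RingEquiv.refl F) (θ x) := by
    intro x
    refine hψ.inj12 ?_
    show ψ (e12 hF _) = ψ (e12 hF _)
    have k : ∀ y : Cfsg.SU 2 F q,
        e12 hF (twist hF hcs' (RingEquiv.refl F) y) = e01 hF t * e12 hF y * (e01 hF t)⁻¹ := fun y => by
      rw [e01_diag_conj hF ht0 hct (by simp [l]) (by simp [l]) (by simp)]
      exact (twist_embS hF (Fin.succ_injective 2) hct _ y).symm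
    rw [hθ, k, k, map_mul, map_mul, map_inv, map_mul, map_mul, map_inv, hag, hθ]
  -- the diagonal torus is preserved
  have hT : ∀ x, x.1.1 0 1 = 0 → (θ x).1.1 0 1 = 0 := by
    intro x hx
    have hfx : twist hF hcs' (RingEquiv.refl F) x = x := by
      refine su2_ext hF ?_ ?_ <;> rw [twist_apply]
      · have := twist_ne hF hcs' 0
        rw [RingEquiv.refl_apply]
        field_simp
      · simp [hx]
    have e := hconj x
    rw [hfx] at e
    have e' := congrArg (fun y : Cfsg.SU 2 F q => y.1.1 0 1) e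
    simp only [twist_apply, RingEquiv.refl_apply, hcs, Function.comp_apply] at e'
    simp at e'
    have h : (θ x).1.1 0 1 * (Forms.qEnd hF l - 1) = 0 := by linear_combination -e'
    rcases mul_eq_zero.1 h with h | h
    · exact h
    · exfalso
      rw [sub_eq_zero] at h
      rw [h, one_mul] at tN
      exact ht (by rw [h, tN])
  obtain ⟨μ, τ, hμ, hμτ⟩ := aut_su2 hF θ hT
  have hμ0 : μ ≠ 0 := fun e => by simp [e] at hμ
  -- the field automorphism is trivial
  have hl : τ (Forms.qEnd hF l) = Forms.qEnd hF l := by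
    have e := congrArg (fun y : Cfsg.SU 2 F q => y.1.1 0 1) (hconj (mk2 hF 0 1 (by simp)))
    simp only [twist_apply, RingEquiv.refl_apply, hcs, Function.comp_apply, (hμτ _).2] at e
    simp [mk2_b] at e
    have h0 : μ * (τ (Forms.qEnd hF l) - Forms.qEnd hF l) = 0 := by linear_combination e
    exact sub_eq_zero.1 ((mul_eq_zero.1 h0).resolve_left hμ0)
  have hτ : ∀ x, τ x = x := by
    intro x
    set m := Forms.qEnd hF l with hm
    have hne : m - Forms.qEnd hF m ≠ 0 := by
      rw [hm, Forms.qEnd_qEnd, sub_ne_zero]; exact ht.symm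
    set v := (x - Forms.qEnd hF x) / (m - Forms.qEnd hF m) with hv
    have hvf : Forms.qEnd hF v = v := by
      rw [hv, map_div₀, map_sub, map_sub, Forms.qEnd_qEnd, Forms.qEnd_qEnd,
        ← neg_sub x, ← neg_sub m, neg_div_neg_eq]
    have huf : Forms.qEnd hF (x - v * m) = x - v * m := by
      rw [map_sub, map_mul, hvf]
      have e : v * (m - Forms.qEnd hF m) = x - Forms.qEnd hF x := div_mul_cancel₀ _ hne
      linear_combination e
    calc τ x = τ ((x - v * m) + v * m) := by rw [sub_add_cancel]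
      _ = (x - v * m) + v * m := by rw [map_add, map_mul, hfix τ _ huf, hfix τ _ hvf, hl]
      _ = x := sub_add_cancel _ _
  have hc : ∀ i, Forms.qEnd hF (![1, 1, μ⁻¹] i) * ![1, 1, μ⁻¹] i = 1 := by
    intro i; fin_cases i <;> simp [map_inv₀, ← mul_inv, mul_comm μ, hμ]
  refine ⟨μ⁻¹, hc, fun x => ?_, fun x => ?_⟩
  · rw [hag, e01, embS_eq_one_twist hF (Fin.castSucc_injective 2) hc (fun k => by fin_cases k <;> rfl)]
  · rw [← hθ]
    congr 1
    show e12 hF (θ x) = twist hF hc _ (embS hF _ x)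
    rw [twist_embS]
    show embS hF _ (θ x) = _
    congr 1
    refine su2_ext hF ?_ ?_ <;> rw [twist_apply]
    · rw [(hμτ x).1, hτ]; simp
    · rw [(hμτ x).2, hτ]; simp [mul_comm μ]

theorem Std.twist {U U' V : Subgroup G} {ψ : Cfsg.SU 3 F q →* G} (hψ : Std hF U U' V ψ) {c : Fin 3 → F}
    (hc : ∀ i, Forms.qEnd hF (c i) * c i = 1) (τ : F ≃+* F) :
    Std hF U U' V (ψ.comp (PhanAmalgam.twist hF hc τ)) := by
  have hb := twist_bijective hF hc τ
  refine ⟨fun x hx => ?_, ?_, ?_, ?_⟩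
  · refine Subgroup.mem_center_iff.2 fun y => hb.1 ?_
    rw [map_mul, map_mul]
    exact Subgroup.mem_center_iff.1 (hψ.ker_le hx) _
  · rw [MonoidHom.range_comp, MonoidHom.range_eq_top.2 hb.2, ← MonoidHom.range_eq_map, hψ.range_eq]
  · refine le_antisymm ?_ fun y hy => ?_
    · rintro _ ⟨x, rfl⟩
      show ψ (PhanAmalgam.twist hF hc τ (embS hF _ x)) ∈ U
      rw [twist_embS]
      exact hψ.mem_left _
    · obtain ⟨x, rfl⟩ : y ∈ (ψ.comp (e01 hF)).range := by rw [hψ.r01]; exact hy
      obtain ⟨x, rfl⟩ := (twist_bijective hF (c := c ∘ Fin.castSucc) (fun i => hc _) τ).2 x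
      exact ⟨x, congrArg ψ (twist_embS hF (Fin.castSucc_injective 2) hc τ x)⟩
  · refine le_antisymm ?_ fun y hy => ?_
    · rintro _ ⟨x, rfl⟩
      show ψ (PhanAmalgam.twist hF hc τ (embS hF _ x)) ∈ U'
      rw [twist_embS]
      exact hψ.mem_right _
    · obtain ⟨x, rfl⟩ : y ∈ (ψ.comp (e12 hF)).range := by rw [hψ.r12]; exact hy
      obtain ⟨x, rfl⟩ := (twist_bijective hF (c := c ∘ Fin.succ) (fun i => hc _) τ).2 x
      exact ⟨x, congrArg ψ (twist_embS hF (Fin.succ_injective 2) hc τ x)⟩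

/-- Homomorphisms of `SU₃` agreeing on both blocks agree, for parametrisations of one pair. -/
def Tight : Prop :=
  ∀ φ ψ : Cfsg.SU 3 F q →* G, Function.Injective φ → Function.Injective ψ → φ.range = ψ.range →
    (∀ x, φ (e01 hF x) = ψ (e01 hF x)) → (∀ x, φ (e12 hF x) = ψ (e12 hF x)) → φ = ψ

/-- A homomorphism of `SU₄` parametrising both pairs can be made to agree with given parametrisations. -/
theorem fit_four (hfix : ∀ (τ : F ≃+* F) (x : F), Forms.qEnd hF x = x → τ x = x) (htight : Tight (G := G) hF)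
    {U U' U'' V V' : Subgroup G} {φ φ' : Cfsg.SU 3 F q →* G} (hφ : Std hF U U' V φ) (hφ' : Std hF U' U'' V' φ')
    (iφ : Function.Injective φ) (iφ' : Function.Injective φ') (hcompat : ∀ x, φ' (e01 hF x) = φ (e12 hF x))
    (f : Cfsg.SU 4 F q →* G) (hf : Std hF U U' V (f.comp (e012 hF))) (hf' : Std hF U' U'' V' (f.comp (e123 hF)))
    (if1 : Function.Injective (f.comp (e012 hF))) (if2 : Function.Injective (f.comp (e123 hF))) :
    ∃ f' : Cfsg.SU 4 F q →* G, (∀ x, f' (e012 hF x) = φ x) ∧ ∀ x, f' (e123 hF x) = φ' x := by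
  -- fit the first pair
  obtain ⟨μ, τ, hc, h1⟩ := fit_first hF hφ hf
  have hψ := hf.twist hF hc τ
  obtain ⟨μ', hc', h2a, h2b⟩ := fit_second hF hfix hφ hψ h1
  set g3 : Cfsg.SU 3 F q →* Cfsg.SU 3 F q := (twist hF hc τ).comp (twist hF hc' (RingEquiv.refl F)) with hg3
  have e3 : φ = (f.comp (e012 hF)).comp g3 := by
    refine htight _ _ iφ ((if1.comp ((twist_bijective hF hc τ).1.comp (twist_bijective hF hc' _).1))) ?_ h2a h2b
    rw [range_comp_surj (f.comp (e012 hF)) g3
      ((twist_bijective hF hc τ).2.comp (twist_bijective hF hc' (RingEquiv.refl F)).2), hφ.range_eq, hf.range_eq]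
  have hd : ∀ i, Forms.qEnd hF (![μ, 1, 1, 1] i) * ![μ, 1, 1, 1] i = 1 := by
    have h0 := hc 0
    intro i; fin_cases i <;> simp at h0 ⊢; exact h0
  have hd' : ∀ i, Forms.qEnd hF (![1, 1, μ', 1] i) * ![1, 1, μ', 1] i = 1 := by
    have h0 := hc' 2
    intro i; fin_cases i <;> simp at h0 ⊢; exact h0
  set f1 := (f.comp (twist hF hd τ)).comp (twist hF hd' (RingEquiv.refl F)) with hf1
  have hf1a : ∀ x, f1 (e012 hF x) = φ x := by
    intro x
    show f (twist hF hd τ (twist hF hd' _ (embS hF _ x))) = _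
    rw [twist_embS, twist_embS, e3]
    show f (embS hF _ _) = f (embS hF _ (twist hF hc τ (twist hF hc' _ x)))
    rw [twist_congr hF (fun i => hd (Fin.castSucc i)) hc (funext fun i => by fin_cases i <;> rfl),
      twist_congr hF (fun i => hd' (Fin.castSucc i)) hc' (funext fun i => by fin_cases i <;> rfl)]
  have e123tw : ∀ {c : Fin 4 → F} (hcc : ∀ i, Forms.qEnd hF (c i) * c i = 1) (σ' : F ≃+* F) (y : Cfsg.SU 3 F q),
      twist hF hcc σ' (e123 hF y) = e123 hF (twist hF (c := c ∘ Fin.succ) (fun i => hcc i.succ) σ' y) :=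
    fun hcc σ' y => twist_embS hF (Fin.succ_injective 3) hcc σ' y
  have hψ' : Std hF U' U'' V' (f1.comp (e123 hF)) := by
    have h := (hf'.twist hF (c := ![μ, 1, 1, 1] ∘ Fin.succ) (fun i => hd i.succ) τ).twist hF
      (c := ![1, 1, μ', 1] ∘ Fin.succ) (fun i => hd' i.succ) (RingEquiv.refl F)
    convert h using 1
    refine MonoidHom.ext fun y => ?_
    show f (twist hF hd τ (twist hF hd' _ (e123 hF y))) = _
    rw [e123tw, e123tw]
    rfl
  have if2' : Function.Injective (f1.comp (e123 hF)) := by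
    intro a b e
    have e' : f (e123 hF (twist hF (c := ![μ, 1, 1, 1] ∘ Fin.succ) (fun i => hd i.succ) τ
        (twist hF (c := ![1, 1, μ', 1] ∘ Fin.succ) (fun i => hd' i.succ) (RingEquiv.refl F) a))) =
        f (e123 hF (twist hF (c := ![μ, 1, 1, 1] ∘ Fin.succ) (fun i => hd i.succ) τ
        (twist hF (c := ![1, 1, μ', 1] ∘ Fin.succ) (fun i => hd' i.succ) (RingEquiv.refl F) b))) := by
      rw [← e123tw hd, ← e123tw hd', ← e123tw hd, ← e123tw hd']
      exact e
    exact (twist_bijective hF _ _).1 ((twist_bijective hF _ _).1 (if2 e'))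
  have hag : ∀ x, φ' (e01 hF x) = f1.comp (e123 hF) (e01 hF x) := fun x => by
    rw [hcompat, ← hf1a, MonoidHom.comp_apply, e012_e12]
    rfl
  obtain ⟨ν, hν, h4a, h4b⟩ := fit_second hF hfix hφ' hψ' hag
  have hn : ∀ i, Forms.qEnd hF (![1, 1, 1, ν] i) * ![1, 1, 1, ν] i = 1 := by
    have h0 := hν 2
    intro i; fin_cases i <;> simp at h0 ⊢; exact h0
  refine ⟨f1.comp (twist hF hn (RingEquiv.refl F)), fun x => ?_, ?_⟩
  · show f1 (twist hF hn _ (embS hF _ x)) = _
    rw [embS_eq_one_twist hF (Fin.castSucc_injective 3) hn (fun k => by fin_cases k <;> rfl)]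
    exact hf1a x
  · have e4 : φ' = (f1.comp (e123 hF)).comp (twist hF hν (RingEquiv.refl F)) := by
      refine htight _ _ iφ' (if2'.comp (twist_bijective hF hν _).1) ?_ h4a h4b
      rw [range_comp_surj (f1.comp (e123 hF)) _ (twist_bijective hF hν _).2, hφ'.range_eq, hψ'.range_eq]
    intro x
    show f1 (twist hF hn _ (e123 hF x)) = _
    rw [e123tw, e4]
    show _ = f1 (e123 hF (twist hF hν _ x))
    rw [twist_congr hF (fun i => hn i.succ) hν (funext fun i => by fin_cases i <;> rfl)]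

include hF in
/-- The extension on a four-dimensional interval. -/
theorem isExt_four {N : ℕ} {P : ℕ → (Cfsg.SU 3 F q →* G)} {a : ℕ} (ha : a + 4 ≤ N) (f : Cfsg.SU 4 F q →* G)
    (h1 : ∀ x, f (e012 hF x) = P a x) (h2 : ∀ x, f (e123 hF x) = P (a + 1) x) :
    ∃ Φ, IsExt hF N P a 4 Φ := by
  classical
  have hinv : ∀ g, ∃ x, g ∈ blk hF N a 4 → embAt hF N 4 a x = g := fun g => by
    by_cases hg : g ∈ blk hF N a 4
    · obtain ⟨x, hx⟩ := exists_embAt hF ha hg
      exact ⟨x, fun _ => hx⟩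
    · exact ⟨1, fun h => absurd h hg⟩
  choose inv hinv using hinv
  have hI : ∀ x, inv (embAt hF N 4 a x) = x := fun x =>
    embAt_injective hF ha (hinv _ (embAt_mem hF ha x))
  refine ⟨fun g => f (inv g), fun x hx y hy => ?_, fun i hi hi' x => ?_⟩
  · show f (inv (x * y)) = f (inv x) * f (inv y)
    rw [← map_mul]
    congr 1
    apply embAt_injective hF ha
    rw [map_mul, hinv x hx, hinv y hy, hinv _ (mul_mem hx hy)]
  · show f (inv (embAt hF N 3 i x)) = P i x
    obtain rfl | rfl : i = a ∨ i = a + 1 := by omega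
    · rw [← h1, show embAt hF N 3 i x = embAt hF N 4 i (e012 hF x) by
        rw [embAt, dif_pos (show i + 3 ≤ N by omega), embAt, dif_pos ha, e012, embH_comp]
        exact embH_congr hF (funext fun k => Fin.ext (by simp [off])) _ _ x, hI]
    · rw [← h2, show embAt hF N 3 (a + 1) x = embAt hF N 4 a (e123 hF x) by
        rw [embAt, dif_pos (show a + 1 + 3 ≤ N by omega), embAt, dif_pos ha, e123, embH_comp]
        exact embH_congr hF (funext fun k => Fin.ext (by simp [off]; omega)) _ _ x, hI]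

end Cfsg.Agent.PhanAmalgam
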