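/-
Area PhanAmalgam: blocks, centre and diagonal involutions of `SU₄`.
-/
import Cfsg.Agent.Lib.PhanAmalgam.Fit

set_option autoImplicit false

open scoped Matrix

namespace Cfsg.Agent.PhanAmalgam

open Cfsg.Agent.ClassicalSimple

variable {F : Type*} [Field F] [Fintype F] {q : ℕ} (hF : Fintype.card F = q ^ 2)

theorem mem_range_embS {m N : ℕ} {f : Fin m → Fin N} (hf : Function.Injective f) (y : Cfsg.SU N F q) :
    y ∈ (embS hF hf).range ↔ ∀ j, j ∉ Set.range f → suEquiv hF y • (E j : Fin N → F) = E j := by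
  refine ⟨?_, fun h => ?_⟩
  · rintro ⟨x, rfl⟩ j hj
    exact embH_fix hF hf x hj
  · obtain ⟨x, hx⟩ := embH_surj hF hf h
    exact ⟨x, (suEquiv hF (n := N)).injective hx⟩

include hF in
theorem central_scalar {m : ℕ} (hm : 3 ≤ m) {z : Cfsg.SU m F q} (hz : z ∈ Subgroup.center (Cfsg.SU m F q)) :
    ∃ a : F, Forms.qEnd hF a * a = 1 ∧ a ^ m = 1 ∧ ∀ x : Fin m → F, suEquiv hF z • x = a • x := by
  have hz' : suEquiv hF z ∈ Subgroup.center (SUH (Forms.hermB hF m)) := by
    rw [← center_map_equiv (suEquiv hF)]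
    exact ⟨z, hz, rfl⟩
  obtain ⟨a, ha, hax⟩ :=
    (SUH_mem_center_iff (hermB_isUnitary hF) (by rw [Module.finrank_fin_fun]; exact hm) _).1 hz'
  refine ⟨a, ha, ?_, hax⟩
  have hM : z.1.1 = Matrix.diagonal (fun _ => a) := by
    ext i j
    have e := congrFun (hax (E j : Fin m → F)) i
    rw [suEquiv_smul, mulVec_single_one, Pi.smul_apply, E_apply] at e
    change z.1.1 i j = _ at e
    refine e.trans ?_
    rw [Matrix.diagonal_apply]
    by_cases hij : i = j <;> simp [hij]
  have hd := z.1.2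
  rw [hM, Matrix.det_diagonal, Finset.prod_const, Finset.card_univ, Fintype.card_fin] at hd
  exact hd

theorem central_fix {m : ℕ} (hm : 3 ≤ m) {z : Cfsg.SU m F q} (hz : z ∈ Subgroup.center (Cfsg.SU m F q))
    {v : Fin m → F} (hv : v ≠ 0) (hzv : suEquiv hF z • v = v) : z = 1 := by
  obtain ⟨a, -, -, hax⟩ := central_scalar hF hm hz
  rw [hax] at hzv
  have ha : a = 1 := smul_left_injective F hv (hzv.trans (one_smul F v).symm)
  refine (suEquiv hF (n := m)).injective (su_ext fun x => ?_)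
  rw [hax, ha, one_smul, map_one, one_smul]

/-- Two vertices of `Fin 4`. -/
noncomputable def pair4 (i j : Fin 4) (h : i ≠ j) : Cfsg.SU 2 F q →* Cfsg.SU 4 F q :=
  embS hF (f := ![i, j]) (fun a b e => by fin_cases a <;> fin_cases b <;> simp_all [Ne.symm h])

theorem pair4_fix {i j k : Fin 4} (h : i ≠ j) (x : Cfsg.SU 2 F q) (hi : k ≠ i) (hj : k ≠ j) :
    suEquiv hF (pair4 hF i j h x) • (E k : Fin 4 → F) = E k :=
  embH_fix hF _ x (by rintro ⟨l, hl⟩; fin_cases l <;> simp_all)

theorem mem_range_pair4 {i j : Fin 4} (h : i ≠ j) (y : Cfsg.SU 4 F q) :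
    y ∈ (pair4 hF i j h).range ↔ ∀ k, k ≠ i → k ≠ j → suEquiv hF y • (E k : Fin 4 → F) = E k := by
  refine (mem_range_embS hF _ y).trans ?_
  refine forall_congr' fun k => ⟨fun hk h1 h2 => hk ?_, fun hk hr => ?_⟩
  · rintro ⟨l, hl⟩; fin_cases l <;> simp_all
  · exact hk (fun e => hr ⟨0, by simp [e]⟩) (fun e => hr ⟨1, by simp [e]⟩)

theorem pair4_injective {i j : Fin 4} (h : i ≠ j) : Function.Injective (pair4 hF (q := q) i j h) := fun a b e =>
  embH_injective hF _ (congrArg (suEquiv hF) e)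

theorem pair4_commute {i j k l : Fin 4} (h : i ≠ j) (h' : k ≠ l) (hik : i ≠ k) (hil : i ≠ l) (hjk : j ≠ k)
    (hjl : j ≠ l) (a b : Cfsg.SU 2 F q) : Commute (pair4 hF i j h a) (pair4 hF k l h' b) := by
  set f := suEquiv hF (pair4 hF i j h a)
  set g := suEquiv hF (pair4 hF k l h' b)
  refine (suEquiv hF (n := 4)).injective ?_
  rw [map_mul, map_mul]
  refine su_ext fun v => ?_
  rw [mul_smul, mul_smul]
  have key : ∀ {i j k l : Fin 4} (h : i ≠ j) (h' : k ≠ l) (a b : Cfsg.SU 2 F q), i ≠ k → i ≠ l → j ≠ k → j ≠ l →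
      ∀ (v : Fin 4 → F) (n : Fin 4), (n = i ∨ n = j) →
        (suEquiv hF (pair4 hF i j h a) • suEquiv hF (pair4 hF k l h' b) • v) n =
          (suEquiv hF (pair4 hF k l h' b) • suEquiv hF (pair4 hF i j h a) • v) n := by
    intro i j k l h h' a b hik hil hjk hjl v n hn
    obtain ⟨m, rfl⟩ : ∃ m : Fin 2, (![i, j] : Fin 2 → Fin 4) m = n := by
      rcases hn with rfl | rfl
      exacts [⟨0, rfl⟩, ⟨1, rfl⟩]
    have out : ∀ m : Fin 2, (![i, j] : Fin 2 → Fin 4) m ∉ Set.range (![k, l] : Fin 2 → Fin 4) := by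
      rintro m ⟨m', hm⟩; fin_cases m <;> fin_cases m' <;> simp_all
    refine (embH_in hF _ a _ m).trans (Eq.trans ?_ (embH_out hF _ b _ (out m)).symm)
    refine Eq.trans ?_ (embH_in hF _ a v m).symm
    exact congrArg (fun w => (a.1.1 *ᵥ w) m) (funext fun p => embH_out hF _ b v (out p))
  funext n
  by_cases hn : n = i ∨ n = j
  · exact key h h' a b hik hil hjk hjl v n hn
  by_cases hn' : n = k ∨ n = l
  · exact (key h' h b a hik.symm hjk.symm hil.symm hjl.symm v n hn').symm
  · push Not at hn hn'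
    have oi : n ∉ Set.range (![i, j] : Fin 2 → Fin 4) := by rintro ⟨m, hm⟩; fin_cases m <;> simp_all
    have ok : n ∉ Set.range (![k, l] : Fin 2 → Fin 4) := by rintro ⟨m, hm⟩; fin_cases m <;> simp_all
    exact ((embH_out hF _ a _ oi).trans (embH_out hF _ b v ok)).trans
      ((embH_out hF _ b _ ok).trans (embH_out hF _ a v oi)).symm

theorem e012_e01 (x : Cfsg.SU 2 F q) : e012 hF (e01 hF x) = pair4 hF 0 1 (by decide) x := by
  refine (suEquiv hF (n := 4)).injective ((embH_comp hF _ _ x).trans ?_)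
  exact embH_congr hF (funext fun k => by fin_cases k <;> rfl) _ _ x

theorem e012_e12' (x : Cfsg.SU 2 F q) : e012 hF (e12 hF x) = pair4 hF 1 2 (by decide) x := by
  refine (suEquiv hF (n := 4)).injective ((embH_comp hF _ _ x).trans ?_)
  exact embH_congr hF (funext fun k => by fin_cases k <;> rfl) _ _ x

theorem e123_e01 (x : Cfsg.SU 2 F q) : e123 hF (e01 hF x) = pair4 hF 1 2 (by decide) x := by
  refine (suEquiv hF (n := 4)).injective ((embH_comp hF _ _ x).trans ?_)
  exact embH_congr hF (funext fun k => by fin_cases k <;> rfl) _ _ x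

theorem e123_e12 (x : Cfsg.SU 2 F q) : e123 hF (e12 hF x) = pair4 hF 2 3 (by decide) x := by
  refine (suEquiv hF (n := 4)).injective ((embH_comp hF _ _ x).trans ?_)
  exact embH_congr hF (funext fun k => by fin_cases k <;> rfl) _ _ x

variable {G : Type*} [Group G]

/-- The embedded `SU₃`s are mapped injectively when the kernel is central. -/
theorem inj_e012 {f : Cfsg.SU 4 F q →* G} (hf : f.ker ≤ Subgroup.center (Cfsg.SU 4 F q)) :
    Function.Injective (f.comp (e012 hF)) ∧ Function.Injective (f.comp (e123 hF)) := by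
  constructor <;> rw [injective_iff_map_eq_one] <;> intro x hx
  · refine embH_injective hF (Fin.castSucc_injective 3) ?_
    have := central_fix hF (by norm_num) (hf hx) (v := (E 3 : Fin 4 → F)) (by simp)
      (embH_fix hF _ x (by rintro ⟨l, hl⟩; fin_cases l <;> simp_all [Fin.ext_iff]))
    show suEquiv hF (e012 hF x) = suEquiv hF (embS hF _ 1)
    rw [this, map_one (embS hF (Fin.castSucc_injective 3))]
  · refine embH_injective hF (Fin.succ_injective 3) ?_
    have := central_fix hF (by norm_num) (hf hx) (v := (E 0 : Fin 4 → F)) (by simp)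
      (embH_fix hF _ x (by rintro ⟨l, hl⟩; exact Fin.succ_ne_zero l hl))
    show suEquiv hF (e123 hF x) = suEquiv hF (embS hF _ 1)
    rw [this, map_one (embS hF (Fin.succ_injective 3))]

theorem inj_pair4 {f : Cfsg.SU 4 F q →* G} (hf : f.ker ≤ Subgroup.center (Cfsg.SU 4 F q)) {i j : Fin 4} (h : i ≠ j) :
    Function.Injective (f.comp (pair4 hF i j h)) := by
  obtain ⟨k, hki, hkj⟩ : ∃ k : Fin 4, k ≠ i ∧ k ≠ j := by
    revert i j; decide
  rw [injective_iff_map_eq_one]
  intro x hx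
  refine pair4_injective hF h ?_
  rw [map_one]
  exact central_fix hF (by norm_num) (hf hx) (v := (E k : Fin 4 → F)) (by simp) (pair4_fix hF h x hki hkj)

/-- The standard pairs carried by a homomorphism of `SU₄`. -/
theorem std_of_blocks (hsup : (e01 hF).range ⊔ (e12 hF).range = ⊤) {f : Cfsg.SU 4 F q →* G}
    (hf : f.ker ≤ Subgroup.center (Cfsg.SU 4 F q)) {U U' U'' V V' : Subgroup G} (hV : U ⊔ U' = V)
    (hV' : U' ⊔ U'' = V') (h01 : (f.comp (pair4 hF 0 1 (by decide))).range = U)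
    (h12 : (f.comp (pair4 hF 1 2 (by decide))).range = U') (h23 : (f.comp (pair4 hF 2 3 (by decide))).range = U'') :
    Std hF U U' V (f.comp (e012 hF)) ∧ Std hF U' U'' V' (f.comp (e123 hF)) := by
  obtain ⟨i1, i2⟩ := inj_e012 hF hf
  have a1 : ((f.comp (e012 hF)).comp (e01 hF)).range = U := by
    rw [← h01]; congr 1; exact MonoidHom.ext fun x => congrArg f (e012_e01 hF x)
  have a2 : ((f.comp (e012 hF)).comp (e12 hF)).range = U' := by
    rw [← h12]; congr 1; exact MonoidHom.ext fun x => congrArg f (e012_e12' hF x)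
  have b1 : ((f.comp (e123 hF)).comp (e01 hF)).range = U' := by
    rw [← h12]; congr 1; exact MonoidHom.ext fun x => congrArg f (e123_e01 hF x)
  have b2 : ((f.comp (e123 hF)).comp (e12 hF)).range = U'' := by
    rw [← h23]; congr 1; exact MonoidHom.ext fun x => congrArg f (e123_e12 hF x)
  refine ⟨⟨?_, ?_, a1, a2⟩, ⟨?_, ?_, b1, b2⟩⟩
  · rw [(MonoidHom.ker_eq_bot_iff _).2 i1]; exact bot_le
  · rw [MonoidHom.range_eq_map, ← hsup, Subgroup.map_sup, ← MonoidHom.range_comp, ← MonoidHom.range_comp, a1, a2, hV]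
  · rw [(MonoidHom.ker_eq_bot_iff _).2 i2]; exact bot_le
  · rw [MonoidHom.range_eq_map, ← hsup, Subgroup.map_sup, ← MonoidHom.range_comp, ← MonoidHom.range_comp, b1, b2, hV']

end Cfsg.Agent.PhanAmalgam
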