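/-
Area PhanAmalgam: every subgroup of `SU₃(q)`, `q ≥ 4`, isomorphic to `SU₂(q)` is the stabiliser of a unit.
-/
import Cfsg.Agent.Lib.PhanAmalgam.Gen
import Cfsg.Agent.Lib.GL.Simple
import Cfsg.Agent.S0281

set_option autoImplicit false

open scoped Matrix MatrixGroups

namespace Cfsg.Agent.PhanAmalgam

open Cfsg.Agent.ClassicalSimple

variable {F : Type*} [Field F] [Fintype F] {q : ℕ} (hF : Fintype.card F = q ^ 2)

include hF in
theorem exists_sl2 : ∃ (K : Type) (_ : Field K) (_ : Fintype K), Fintype.card K = q ∧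
    Nonempty (Cfsg.SU 2 F q ≃* Matrix.SpecialLinearGroup (Fin 2) K) := by
  obtain ⟨p, k, hp, -, hk⟩ := Forms.exists_prime_pow_q hF
  haveI := Fact.mk hp
  have hk0 : k ≠ 0 := fun e => by
    have := Forms.one_lt_q hF
    rw [hk, e, pow_zero] at this
    exact lt_irrefl _ this
  haveI : Fintype (GaloisField p k) := Fintype.ofFinite _
  have hcard : Fintype.card (GaloisField p k) = q := by
    rw [← Nat.card_eq_fintype_card, GaloisField.card p k hk0, hk]
  exact ⟨GaloisField p k, inferInstance, inferInstance, hcard, S0281.result hF hcard⟩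

include hF in
theorem SU2_perfect (hq : 4 ≤ q) : commutator (Cfsg.SU 2 F q) = ⊤ := by
  obtain ⟨K, iK, iK', hK, ⟨e⟩⟩ := exists_sl2 hF
  have h := map_commutator_top e.symm
  rw [GL.SL_commutator_eq_top 2 le_rfl (fun _ => GL.exists_sq_ne_one_of_four_le_card
      (by rw [Nat.card_eq_fintype_card, hK]; exact hq)),
    Subgroup.map_top_of_surjective e.symm.toMonoidHom e.symm.surjective] at h
  exact h.symm

theorem exists_to_E (v : Fin 3 → F) (hv : Forms.hermB hF 3 v v = 1) (j : Fin 3) :
    ∃ g : SUH (Forms.hermB hF 3), g • v = E j := by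
  obtain ⟨k, hk⟩ : ∃ k : Fin 3, k ≠ j := exists_ne j
  obtain ⟨g, hg, -⟩ := exists_move (hermB_isUnitary hF) (⊤ : Submodule F (Fin 3 → F)) (w := v) (w' := E j) (d := E k)
    Submodule.mem_top Submodule.mem_top Submodule.mem_top hv (by simp [hE_E]) (by simp [hE_E]) (by simp [hE_E, hk])
  exact ⟨g, hg⟩

/-- A subgroup isomorphic to `SU₂` fixing a unit is its stabiliser. -/
theorem eq_stab {A : Subgroup (SUH (Forms.hermB hF 3))} (e : Cfsg.SU 2 F q ≃* A) {a : Fin 3 → F}
    (ha : Forms.hermB hF 3 a a = 1) (hA : ∀ g ∈ A, g • a = a) (g : SUH (Forms.hermB hF 3)) (hg : g • a = a) :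
    g ∈ A := by
  obtain ⟨k, hk⟩ := exists_to_E hF a ha 0
  have hconj : ∀ x : SUH (Forms.hermB hF 3), x • a = a → ∃ w, embH hF (Fin.succ_injective 2) w = k * x * k⁻¹ := by
    intro x hx
    refine embH_surj hF _ fun j hj => ?_
    have hj0 : j = 0 := by
      by_contra h0
      exact hj ⟨j.pred h0, Fin.succ_pred j h0⟩
    rw [hj0, ← hk, mul_smul, mul_smul, inv_smul_smul, hx]
  choose w hw using hconj
  have hinj : Function.Injective fun x : A => w x.1 (hA _ x.2) := fun x y exy => by
    have e1 := congrArg (embH hF (Fin.succ_injective 2)) exy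
    simp only [hw, mul_left_inj, mul_right_inj] at e1
    exact Subtype.ext e1
  obtain ⟨x, hx⟩ := ((Nat.bijective_iff_injective_and_card _).2
    ⟨hinj, (Nat.card_congr e.toEquiv).symm⟩).2 (w g hg)
  have e1 := congrArg (embH hF (Fin.succ_injective 2)) hx
  simp only [hw, mul_left_inj, mul_right_inj] at e1
  exact e1 ▸ x.2

theorem normalise {v : Fin 3 → F} (hv : Forms.hermB hF 3 v v ≠ 0) {A : Subgroup (SUH (Forms.hermB hF 3))}
    (hA : ∀ g ∈ A, g • v = v) : ∃ a, Forms.hermB hF 3 a a = 1 ∧ ∀ g ∈ A, g • a = a := by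
  obtain ⟨c, hc⟩ := exists_unit_smul (hermB_isUnitary hF) hv
  exact ⟨c • v, hc, fun g hg => by rw [su_scal, hA g hg]⟩

/-- A group equal to its commutator subgroup acts trivially on an invariant line. -/
theorem line_fixed {A : Subgroup (SUH (Forms.hermB hF 3))} (hperf : commutator A = ⊤) {v : Fin 3 → F} (hv : v ≠ 0)
    (hline : ∀ g ∈ A, ∃ c : F, g • v = c • v) : ∀ g ∈ A, g • v = v := by
  choose c hc using hline
  have hc0 : ∀ g hg, c g hg ≠ 0 := fun g hg e => hv (by
    have h1 := hc g hg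
    rw [e, zero_smul] at h1
    rw [← inv_smul_smul g v, h1]
    exact smul_zero _)
  let χ : A →* Fˣ := MonoidHom.mk' (fun g => Units.mk0 (c g.1 g.2) (hc0 _ _)) fun g g' => Units.ext (by
    refine smul_left_injective F hv ?_
    show c (g * g').1 (g * g').2 • v = (c g.1 g.2 * c g'.1 g'.2) • v
    rw [← hc, Subgroup.coe_mul, mul_smul g.1, hc g'.1 g'.2, su_scal, hc g.1 g.2, smul_smul, mul_comm])
  intro g hg
  have h1 : (⟨g, hg⟩ : A) ∈ χ.ker := Abelianization.commutator_subset_ker χ (hperf ▸ Subgroup.mem_top _)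
  have h2 : c g hg = 1 := congrArg Units.val (MonoidHom.mem_ker.1 h1)
  rw [hc g hg, h2, one_smul]

include hF in
theorem two_ne_zero_of (h2 : ringChar F ≠ 2) : (2 : F) ≠ 0 := Ring.two_ne_zero h2

theorem exists_fixed_odd (hq : 4 ≤ q) (h2 : ringChar F ≠ 2) {A : Subgroup (SUH (Forms.hermB hF 3))}
    (e : Cfsg.SU 2 F q ≃* A) : ∃ a, Forms.hermB hF 3 a a = 1 ∧ ∀ g ∈ A, g • a = a := by
  have h20 := two_ne_zero_of hF h2
  have hh := hermB_isUnitary hF (n := 3)
  have hperf : commutator A = ⊤ := by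
    have := map_commutator_top e
    rw [SU2_perfect hF hq, Subgroup.map_top_of_surjective e.toMonoidHom e.surjective] at this
    exact this.symm
  set m : Cfsg.SU 2 F q := mk2 hF (-1) 0 (by simp)
  have hm2 : m * m = 1 := su2_ext hF
    (by simp only [Subgroup.coe_mul, Matrix.SpecialLinearGroup.coe_mul]; simp [m, mk2, Matrix.mul_apply, Fin.sum_univ_two])
    (by simp only [Subgroup.coe_mul, Matrix.SpecialLinearGroup.coe_mul]; simp [m, mk2, Matrix.mul_apply, Fin.sum_univ_two])
  have hmc : ∀ x, m * x = x * m := fun x => by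
    obtain ⟨x1, x2, -⟩ := su2_shape hF x
    refine su2_ext hF ?_ ?_ <;> simp only [Subgroup.coe_mul, Matrix.SpecialLinearGroup.coe_mul] <;>
      simp [m, mk2, Matrix.mul_apply, Fin.sum_univ_two]
  have hm1 : m ≠ 1 := fun h1 => by
    have h1' : (-1 : F) = 1 := congrArg (fun x : Cfsg.SU 2 F q => x.1.1 0 0) h1
    exact h20 (by linear_combination -h1')
  set z : SUH (Forms.hermB hF 3) := (e m).1
  have hz : ∀ v : Fin 3 → F, z • z • v = v := fun v => by
    rw [← mul_smul, show z * z = ((e (m * m) : A) : SUH (Forms.hermB hF 3)) by rw [map_mul]; rfl, hm2, map_one, OneMemClass.coe_one,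
      one_smul]
  have hzc : ∀ g ∈ A, ∀ v : Fin 3 → F, g • z • v = z • g • v := fun g hg v => by
    obtain ⟨x, hx⟩ := e.surjective ⟨g, hg⟩
    have e1 : g * z = z * g := by
      have e2 : ((e (x * m) : A) : SUH (Forms.hermB hF 3)) = ((e (m * x) : A) : SUH (Forms.hermB hF 3)) := by rw [hmc]
      rw [map_mul, map_mul, hx] at e2
      exact e2
    rw [← mul_smul, e1, mul_smul]
  let Tz : (Fin 3 → F) →ₗ[F] (Fin 3 → F) :=
    { toFun := fun v => z • v, map_add' := fun a b => su_add z a b, map_smul' := fun a b => su_scal z a b }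
  set P := LinearMap.ker (Tz - LinearMap.id)
  set M := LinearMap.ker (Tz + LinearMap.id)
  have memP : ∀ v, v ∈ P ↔ z • v = v := fun v => by simp [P, Tz, sub_eq_zero]
  have memM : ∀ v, v ∈ M ↔ z • v = -v := fun v => by simp [M, Tz, add_eq_zero_iff_eq_neg]
  have hdisj : P ⊓ M = ⊥ := by
    refine (Submodule.eq_bot_iff _).2 fun v hv => ?_
    obtain ⟨h1, h2'⟩ := hv
    rw [SetLike.mem_coe, memP] at h1
    rw [SetLike.mem_coe, memM] at h2'
    rw [h1] at h2'
    have : (2 : F) • v = 0 := by rw [two_smul]; nth_rewrite 2 [h2']; exact add_neg_cancel v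
    exact (smul_eq_zero.1 this).resolve_left h20
  have hsup : P ⊔ M = ⊤ := by
    refine eq_top_iff.2 fun v _ => Submodule.mem_sup.2 ⟨(2⁻¹ : F) • (v + z • v), ?_, (2⁻¹ : F) • (v - z • v), ?_, ?_⟩
    · rw [memP, su_scal, su_add, hz, add_comm]
    · rw [memM, su_scal, su_sub, hz, ← smul_neg, neg_sub]
    · rw [← smul_add, add_add_sub_cancel, ← two_smul F v, smul_smul, inv_mul_cancel₀ h20, one_smul]
  have hdim : Module.finrank F P + Module.finrank F M = 3 := by
    have := Submodule.finrank_sup_add_finrank_inf_eq P M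
    rw [hsup, hdisj, finrank_top, finrank_bot, add_zero, Module.finrank_fin_fun] at this
    exact this.symm
  have hM0 : Module.finrank F M ≠ 0 := fun h0 => by
    rw [Submodule.finrank_eq_zero] at h0
    rw [h0, sup_bot_eq] at hsup
    refine hm1 (e.injective (Subtype.ext ?_))
    rw [map_one]
    show z = 1
    refine su_ext fun v => ?_
    rw [one_smul]; exact (memP v).1 (hsup ▸ Submodule.mem_top)
  have hP0 : Module.finrank F P ≠ 0 := fun h0 => by
    rw [Submodule.finrank_eq_zero] at h0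
    rw [h0, bot_sup_eq] at hsup
    have hneg : ((z : UH (Forms.hermB hF 3)) : (Fin 3 → F) ≃ₗ[F] (Fin 3 → F)).toLinearMap = (-1 : F) • LinearMap.id :=
      LinearMap.ext fun v => by
        rw [LinearMap.smul_apply, LinearMap.id_apply, neg_one_smul]
        exact (memM v).1 (hsup ▸ Submodule.mem_top)
    have hdet := (mem_SUH (g := (z : UH (Forms.hermB hF 3)))).1 z.2
    rw [hneg, LinearMap.det_smul, LinearMap.det_id, mul_one, Module.finrank_fin_fun] at hdet
    exact h20 (by linear_combination -hdet)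
  have fixline : ∀ W : Submodule F (Fin 3 → F), Module.finrank F W = 1 → (∀ g ∈ A, ∀ v ∈ W, g • v ∈ W) →
      ∀ g ∈ A, ∀ v ∈ W, g • v = v := by
    intro W hW hinv g hg v hv
    by_cases hv0 : v = 0
    · subst hv0; exact smul_zero g
    · refine line_fixed hF hperf hv0 (fun g' hg' => ?_) g hg
      obtain ⟨c, hc⟩ := exists_smul_eq_of_finrank_eq_one hW (x := (⟨v, hv⟩ : W))
        (fun e => hv0 (congrArg Subtype.val e)) ⟨g' • v, hinv g' hg' v hv⟩
      exact ⟨c, (congrArg Subtype.val hc).symm⟩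
  have invP : ∀ g ∈ A, ∀ v ∈ P, g • v ∈ P := fun g hg v hv => by
    rw [memP] at hv ⊢; rw [← hzc g hg, hv]
  have invM : ∀ g ∈ A, ∀ v ∈ M, g • v ∈ M := fun g hg v hv => by
    rw [memM] at hv ⊢; rw [← hzc g hg, hv, ← neg_one_smul F v, su_scal, neg_one_smul]
  have hM1 : Module.finrank F M ≠ 1 := fun h1 => by
    obtain ⟨v, hv, hv0⟩ := M.exists_mem_ne_zero_of_ne_bot (fun e => hM0 (by rw [e, finrank_bot]))
    have := fixline M h1 invM z (e m).2 v hv
    rw [(memM v).1 hv] at this
    have h3 : (2 : F) • v = 0 := by rw [two_smul]; nth_rewrite 2 [← this]; exact add_neg_cancel v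
    exact hv0 ((smul_eq_zero.1 h3).resolve_left h20)
  obtain ⟨v, hv, hv0⟩ := P.exists_mem_ne_zero_of_ne_bot (fun e => hP0 (by rw [e, finrank_bot]))
  have hfix : ∀ g ∈ A, g • v = v := fun g hg => fixline P (by omega) invP g hg v hv
  refine normalise hF (fun hvv => hv0 ?_) hfix
  refine hh.sep v fun y => ?_
  obtain ⟨a, ha, b, hb, rfl⟩ := Submodule.mem_sup.1 (show y ∈ P ⊔ M from hsup ▸ Submodule.mem_top)
  have hvb : (Forms.hermB hF 3) v b = 0 := by
    have e1 := su_form z v b
    rw [(memP v).1 hv, (memM b).1 hb, map_neg] at e1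
    have : (2 : F) * (Forms.hermB hF 3) v b = 0 := by linear_combination -e1
    exact (mul_eq_zero.1 this).resolve_left h20
  obtain ⟨c, hc⟩ := exists_smul_eq_of_finrank_eq_one (K := F) (by omega : Module.finrank F P = 1)
    (x := (⟨v, hv⟩ : P)) (fun e => hv0 (congrArg Subtype.val e)) ⟨a, ha⟩
  rw [map_add, hvb, add_zero, show a = c • v from (congrArg Subtype.val hc).symm, map_smul, hvv, smul_zero]

/-- Two orthogonal isotropic vectors of a three-dimensional space are dependent. -/
theorem iso_dep {u w : Fin 3 → F} (hu : u ≠ 0) (huu : Forms.hermB hF 3 u u = 0) (hww : Forms.hermB hF 3 w w = 0)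
    (huw : Forms.hermB hF 3 u w = 0) : ∃ c : F, c • u = w := by
  by_contra hc
  have hh := hermB_isUnitary hF (n := 3)
  have hli : LinearIndependent F ![u, w] := linearIndependent_fin2.2 ⟨fun h0 => hc ⟨0, by
    simp only [Matrix.cons_val_one, Matrix.cons_val_zero] at h0; rw [zero_smul, h0]⟩, fun a ha => by
    simp only [Matrix.cons_val_one, Matrix.cons_val_zero] at ha
    by_cases ha0 : a = 0
    · exact hu (by rw [← ha, ha0, zero_smul])
    · exact hc ⟨a⁻¹, by rw [← ha, smul_smul, inv_mul_cancel₀ ha0, one_smul]⟩⟩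
  let Φ : (Fin 3 → F) →ₗ[F] (Fin 2 → F) := LinearMap.pi fun i => Forms.hermB hF 3 (![u, w] i)
  have hker : Submodule.span F (Set.range ![u, w]) ≤ LinearMap.ker Φ := by
    rw [Submodule.span_le]
    rintro _ ⟨i, rfl⟩
    rw [SetLike.mem_coe, LinearMap.mem_ker]
    funext j
    fin_cases i <;> fin_cases j <;> simp [Φ, huu, hww, huw, hh.comm_zero huw]
  have hr : Function.Surjective Φ := by
    rw [← LinearMap.dualMap_injective_iff, injective_iff_map_eq_zero]
    intro f hf
    have hli' := Fintype.linearIndependent_iff.1 (linearIndependent_h hh hli) (fun i => f (Pi.single i 1)) ?_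
    · refine LinearMap.ext fun x => ?_
      rw [← Finset.univ_sum_single x, map_sum]
      refine Finset.sum_eq_zero fun i _ => ?_
      rw [show Pi.single i (x i) = x i • (Pi.single i (1 : F) : Fin 2 → F) by simp [← Pi.single_smul'],
        map_smul, hli' i, smul_zero]
    · refine LinearMap.ext fun x => ?_
      have e := LinearMap.congr_fun hf x
      rw [LinearMap.dualMap_apply, show Φ x = ∑ i, Forms.hermB hF 3 (![u, w] i) x • (Pi.single i 1 : Fin 2 → F) by
        funext j; simp [Φ, Pi.single_apply], map_sum] at e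
      simpa [mul_comm] using e
  have h1 := LinearMap.finrank_range_add_finrank_ker Φ
  rw [LinearMap.range_eq_top.2 hr, finrank_top, Module.finrank_fin_fun, Module.finrank_fin_fun] at h1
  have h2 := Submodule.finrank_mono hker
  rw [finrank_span_eq_card hli, Fintype.card_fin] at h2
  omega

theorem exists_perp_two (p1 p2 : Fin 3 → F) :
    ∃ v, v ≠ 0 ∧ Forms.hermB hF 3 p1 v = 0 ∧ Forms.hermB hF 3 p2 v = 0 := by
  let Φ : (Fin 3 → F) →ₗ[F] (Fin 2 → F) := LinearMap.pi fun i => Forms.hermB hF 3 (![p1, p2] i)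
  have hni : ¬ Function.Injective Φ := fun hi => by
    have := LinearMap.finrank_le_finrank_of_injective hi
    simp at this
  rw [injective_iff_map_eq_zero] at hni
  push Not at hni
  obtain ⟨v, hv, hv0⟩ := hni
  exact ⟨v, hv0, by simpa [Φ] using congrFun hv 0, by simpa [Φ] using congrFun hv 1⟩

/-- An involution in characteristic two is a transvection. -/
theorem involution_centre [CharP F 2] {x : SUH (Forms.hermB hF 3)} (hx : x * x = 1) (hx1 : x ≠ 1) :
    ∃ p : Fin 3 → F, p ≠ 0 ∧ Forms.hermB hF 3 p p = 0 ∧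
      (∀ v, ∃ c : F, x • v + v = c • p) ∧ ∀ v, Forms.hermB hF 3 p v = 0 → x • v = v := by
  have hh := hermB_isUnitary hF (n := 3)
  have h2 : ∀ v : Fin 3 → F, v + v = 0 := fun v => by
    funext i; exact CharTwo.add_self_eq_zero _
  have hN : ∀ v, x • (x • v + v) = x • v + v := fun v => by
    rw [su_add, ← mul_smul, hx, one_smul, add_comm]
  have hadj : ∀ v w, (Forms.hermB hF 3) (x • v + v) w = (Forms.hermB hF 3) v (x • w + w) := fun v w => by
    rw [map_add, LinearMap.add_apply, map_add]
    have e := su_form x v (x • w)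
    rw [← mul_smul, hx, one_smul] at e
    rw [e]
  have hiso : ∀ v w, (Forms.hermB hF 3) (x • v + v) (x • w + w) = 0 := fun v w => by
    rw [hadj, hN, h2, map_zero]
  obtain ⟨v0, hv0⟩ : ∃ v0 : Fin 3 → F, x • v0 + v0 ≠ 0 := by
    by_contra hc
    push Not at hc
    refine hx1 (su_ext fun v => ?_)
    rw [one_smul]
    exact add_right_cancel ((hc v).trans (h2 v).symm)
  set p := x • v0 + v0
  have hline : ∀ v, ∃ c : F, x • v + v = c • p := fun v => by
    obtain ⟨c, hc⟩ := iso_dep hF hv0 (hiso v0 v0) (hiso v v) (hiso v0 v)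
    exact ⟨c, hc.symm⟩
  refine ⟨p, hv0, hiso v0 v0, hline, fun v hv => ?_⟩
  have h0 : x • v + v = 0 := by
    refine hh.sep _ fun y => ?_
    obtain ⟨c, hc⟩ := hline y
    rw [hadj, hc, map_smul, hh.comm_zero hv, smul_zero]
  exact add_right_cancel (h0.trans (h2 v).symm)

theorem exists_fixed_even [hchar : CharP F 2] (hq : 4 ≤ q) {A : Subgroup (SUH (Forms.hermB hF 3))}
    (e : Cfsg.SU 2 F q ≃* A) : ∃ a, Forms.hermB hF 3 a a = 1 ∧ ∀ g ∈ A, g • a = a := by
  classical
  obtain ⟨K, iK, iK', hK, ⟨φ⟩⟩ := exists_sl2 hF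
  haveI : CharP K 2 := by
    obtain ⟨p, k, hp, hpF, hk⟩ := Forms.exists_prime_pow_q hF
    obtain rfl : p = 2 := CharP.eq F hpF hchar
    exact charP_of_card_eq_prime_pow (f := k) (hK.trans hk)
  have hh := hermB_isUnitary hF (n := 3)
  let ρ : Matrix.SpecialLinearGroup (Fin 2) K →* SUH (Forms.hermB hF 3) := A.subtype.comp (e.toMonoidHom.comp φ.symm.toMonoidHom)
  let T : Bool → K → SUH (Forms.hermB hF 3) := fun b c =>
    if b then ρ (.transvection (show (0 : Fin 2) ≠ 1 by decide) c)
    else ρ (.transvection (show (1 : Fin 2) ≠ 0 by decide) c)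
  have hTadd : ∀ b c c', T b c * T b c' = T b (c + c') := fun b c c' => by
    cases b <;>
    · simp only [T, if_true, if_false, Bool.false_eq_true, ← map_mul]
      exact congrArg ρ (Subtype.ext (Matrix.transvection_mul_transvection_same _ _ (by decide) c c'))
  have hT0 : ∀ b, T b 0 = 1 := fun b => by
    cases b <;> simp [T, Matrix.SpecialLinearGroup.transvection_coeff_zero]
  have hTinv : ∀ b c, T b c * T b c = 1 := fun b c => by rw [hTadd, CharTwo.add_self_eq_zero, hT0]
  have hρinj : Function.Injective ρ := A.subtype_injective.comp (e.injective.comp φ.symm.injective)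
  have hT1 : ∀ b, T b 1 ≠ 1 := fun b hb => by
    have h10 : (1 : K) = 0 := by
      cases b
      · have e1 := congrArg (fun s : Matrix.SpecialLinearGroup (Fin 2) K => s.1 1 0) (hρinj (hb.trans (map_one ρ).symm))
        simpa [Matrix.SpecialLinearGroup.transvection, Matrix.transvection] using e1
      · have e1 := congrArg (fun s : Matrix.SpecialLinearGroup (Fin 2) K => s.1 0 1) (hρinj (hb.trans (map_one ρ).symm))
        simpa [Matrix.SpecialLinearGroup.transvection, Matrix.transvection] using e1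
    exact one_ne_zero h10
  choose p hp0 hpp hpline hpfix using fun b => involution_centre hF (hTinv b 1) (hT1 b)
  -- commuting involutions share the centre
  have share : ∀ b c, (∀ v, ∃ a : F, T b c • v + v = a • p b) ∧ ∀ v, (Forms.hermB hF 3) (p b) v = 0 → T b c • v = v := by
    intro b c
    by_cases hc : T b c = 1
    · exact ⟨fun v => ⟨0, by rw [hc, one_smul, zero_smul]; funext i; exact CharTwo.add_self_eq_zero _⟩,
        fun v _ => by rw [hc, one_smul]⟩
    obtain ⟨r, hr0, hrr, hrline, hrfix⟩ := involution_centre hF (hTinv b c) hc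
    have hcomm : T b c * T b 1 = T b 1 * T b c := by rw [hTadd, hTadd, add_comm]
    have hpr : (Forms.hermB hF 3) (p b) r = 0 := by
      by_contra hne
      -- `T b 1` moves `r` along `p b`, and the image is fixed by `T b c`
      have hN : T b 1 • r + r ≠ 0 := fun h0 => by
        refine hne ?_
        obtain ⟨v0, hv0⟩ : ∃ v0 : Fin 3 → F, T b 1 • v0 + v0 ≠ 0 := by
          by_contra hh0
          push Not at hh0
          refine hT1 b (su_ext fun v => ?_)
          rw [one_smul]
          exact add_right_cancel ((hh0 v).trans (funext fun i => (CharTwo.add_self_eq_zero _).symm))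
        obtain ⟨a, ha⟩ := hpline b v0
        have ha0 : a ≠ 0 := fun e => hv0 (by rw [ha, e, zero_smul])
        have e1 : (Forms.hermB hF 3) (T b 1 • v0 + v0) r = 0 := by
          rw [map_add, LinearMap.add_apply]
          have e2 := su_form (T b 1) v0 (T b 1 • r)
          rw [← mul_smul, hTinv, one_smul] at e2
          rw [e2, ← map_add, h0, map_zero]
        rw [ha, map_smulₛₗ, LinearMap.smul_apply, smul_eq_mul] at e1
        exact (mul_eq_zero.1 e1).resolve_left ((map_ne_zero _).2 ha0)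
      obtain ⟨a, ha⟩ := hpline b r
      have ha0 : a ≠ 0 := fun e => hN (by rw [ha, e, zero_smul])
      obtain ⟨w, hw⟩ : ∃ w : Fin 3 → F, T b c • w + w ≠ 0 := by
        by_contra hh0
        push Not at hh0
        refine hc (su_ext fun v => ?_)
        rw [one_smul]
        exact add_right_cancel ((hh0 v).trans (funext fun i => (CharTwo.add_self_eq_zero _).symm))
      obtain ⟨a', ha'⟩ := hrline w
      have ha'0 : a' ≠ 0 := fun e => hw (by rw [ha', e, zero_smul])
      have e3 : T b 1 • (T b c • w + w) + (T b c • w + w) = T b c • (T b 1 • w + w) + (T b 1 • w + w) := by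
        rw [su_add, su_add, ← mul_smul, ← mul_smul, hcomm]; abel
      obtain ⟨a'', ha''⟩ := hrline (T b 1 • w + w)
      rw [ha', ha'', su_scal, ← smul_add, ha, smul_smul] at e3
      have e4 : p b = ((a' * a)⁻¹ * a'') • r := by
        rw [← smul_smul, ← e3, smul_smul, inv_mul_cancel₀ (mul_ne_zero ha'0 ha0), one_smul]
      exact hne (by rw [e4, map_smulₛₗ, LinearMap.smul_apply, hrr, smul_zero])
    obtain ⟨a, ha⟩ := iso_dep hF (hp0 b) (hpp b) hrr hpr
    refine ⟨fun v => ?_, fun v hv => hrfix v (by rw [← ha, map_smulₛₗ, LinearMap.smul_apply, hv, smul_zero])⟩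
    obtain ⟨c', hc'⟩ := hrline v
    exact ⟨c' * a, by rw [hc', ← ha, smul_smul]⟩
  obtain ⟨v, hv0, hv1, hv2⟩ := exists_perp_two hF (p true) (p false)
  have gen : ∀ S : Subgroup (SUH (Forms.hermB hF 3)), (∀ b c, T b c ∈ S) → ∀ g ∈ A, g ∈ S := by
    intro S hS g hg
    have key : ∀ s, ρ s ∈ S := by
      intro s
      refine GL.SL_induction (fun s => ρ s ∈ S) (by rw [map_one]; exact one_mem S) (fun i j hij c => ?_)
        (fun a b ha hb => by rw [map_mul]; exact mul_mem ha hb) s
      fin_cases i <;> fin_cases j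
      exacts [absurd rfl hij, hS true c, hS false c, absurd rfl hij]
    obtain ⟨x, hx⟩ := e.surjective ⟨g, hg⟩
    have := key (φ x)
    have hval : ρ (φ x) = g := by simp [ρ, hx]
    rwa [hval] at this
  have hfix : ∀ g ∈ A, g • v = v :=
    fun g hg => gen (fix (Forms.hermB hF 3) {v}) (fun b c => fun w hw => by
      rw [Set.mem_singleton_iff] at hw; subst hw
      cases b
      exacts [(share false c).2 _ hv2, (share true c).2 _ hv1]) g hg v rfl
  refine normalise hF (fun hvv => ?_) hfix
  -- otherwise all the centres coincide and `A` is abelian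
  have hdep : ∀ b, ∃ c : F, c • v = p b := fun b =>
    iso_dep hF hv0 hvv (hpp b) (hh.comm_zero (by cases b; exacts [hv2, hv1]))
  have hcent : ∀ b b', ∃ c : F, c • p b = p b' := fun b b' => by
    obtain ⟨c, hc⟩ := hdep b
    obtain ⟨c', hc'⟩ := hdep b'
    have hc0 : c ≠ 0 := fun e => hp0 b (by rw [← hc, e, zero_smul])
    exact ⟨c' * c⁻¹, by rw [← hc, smul_smul, inv_mul_cancel_right₀ hc0, hc']⟩
  have hTT : ∀ b c b' c', T b c * T b' c' = T b' c' * T b c := fun b c b' c' => by
    refine su_ext fun w => ?_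
    have hk : ∀ b₁ c₁ b₂, T b₁ c₁ • p b₂ = p b₂ := fun b₁ c₁ b₂ => by
      obtain ⟨d, hd⟩ := hcent b₁ b₂
      exact (share b₁ c₁).2 _ (by rw [← hd, map_smul, hpp, smul_zero])
    obtain ⟨a, ha⟩ := (share b c).1 w
    obtain ⟨a', ha'⟩ := (share b' c').1 w
    have h2 : ∀ v : Fin 3 → F, v + v = 0 := fun v => funext fun i => CharTwo.add_self_eq_zero _
    have e1 : T b c • w = w + a • p b := by rw [← ha, add_left_comm, h2, add_zero]
    have e2 : T b' c' • w = w + a' • p b' := by rw [← ha', add_left_comm, h2, add_zero]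
    rw [mul_smul, mul_smul, e1, e2, su_add, su_add, su_scal, su_scal, hk, hk, e1, e2]
    abel
  have hab : ∀ g ∈ A, ∀ g' ∈ A, g * g' = g' * g := by
    have h1 : ∀ b c, ∀ g ∈ A, g * T b c = T b c * g := fun b c g hg =>
      (Subgroup.mem_centralizer_iff.1 (gen (Subgroup.centralizer {T b c}) (fun b' c' => by
        rw [Subgroup.mem_centralizer_iff]; rintro _ rfl; exact hTT b c b' c') g hg) _ rfl).symm
    intro g hg g' hg'
    exact (Subgroup.mem_centralizer_iff.1
      (gen (Subgroup.centralizer {g}) (fun b c => by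
        rw [Subgroup.mem_centralizer_iff]; rintro _ rfl; exact h1 b c _ hg) g' hg') g rfl)
  have hperf := SU2_perfect hF hq
  have hbot : commutator (Cfsg.SU 2 F q) = ⊥ := by
    rw [commutator_eq_bot_iff_center_eq_top, eq_top_iff]
    intro x _
    rw [Subgroup.mem_center_iff]
    intro y
    refine e.injective (Subtype.ext ?_)
    rw [map_mul, map_mul]
    exact hab _ (e y).2 _ (e x).2
  rw [hbot] at hperf
  have hx : mk2 hF 0 1 (by simp) ∈ (⊥ : Subgroup (Cfsg.SU 2 F q)) := hperf ▸ Subgroup.mem_top _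
  have := congrArg (fun x : Cfsg.SU 2 F q => x.1.1 0 1) (Subgroup.mem_bot.1 hx)
  simp [mk2] at this

/-- A subgroup of `SU₃(q)`, `q ≥ 4`, isomorphic to `SU₂(q)` fixes a unit, and is its stabiliser. -/
theorem exists_stab (hq : 4 ≤ q) {A : Subgroup (SUH (Forms.hermB hF 3))} (e : Cfsg.SU 2 F q ≃* A) :
    ∃ a, Forms.hermB hF 3 a a = 1 ∧ ∀ g, g ∈ A ↔ g • a = a := by
  obtain ⟨a, ha, hA⟩ : ∃ a, Forms.hermB hF 3 a a = 1 ∧ ∀ g ∈ A, g • a = a := by
    by_cases h2 : ringChar F = 2
    · haveI := ringChar.of_eq h2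
      exact exists_fixed_even hF hq e
    · exact exists_fixed_odd hF hq h2 e
  exact ⟨a, ha, fun g => ⟨hA g, eq_stab hF e ha hA g⟩⟩

end Cfsg.Agent.PhanAmalgam
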