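/-
Area PhanAmalgam: lemmas common to the four-dimensional base cases over the two smallest fields.
-/
import Cfsg.Agent.Lib.PhanAmalgam.Four
import Cfsg.Agent.Lib.PhanAmalgam.SubTwo

set_option autoImplicit false

open scoped Matrix

namespace Cfsg.Agent.PhanAmalgam

open Cfsg.Agent.ClassicalSimple

variable {F : Type*} [Field F] [Fintype F] {q : ℕ} (hF : Fintype.card F = q ^ 2)

/-- The negative of the identity of `SU₂`. -/
noncomputable def negOne : Cfsg.SU 2 F q := mk2 hF (-1) 0 (by simp)

/-- The signed transposition of `SU₂`. -/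
noncomputable def wswap : Cfsg.SU 2 F q := mk2 hF 0 1 (by simp)

theorem su_all_fix {N : ℕ} {g : SUH (Forms.hermB hF N)} (hg : ∀ i, g • (E i : Fin N → F) = E i) : g = 1 :=
  su_ext fun v => by
    funext i
    rw [one_smul, ← hE_left hF i (g • v), ← hg i, su_form, hE_left]

include hF in
theorem central_of_scalar {N : ℕ} {z : SUH (Forms.hermB hF N)} {a : F} (hz : ∀ v : Fin N → F, z • v = a • v) :
    z ∈ Subgroup.center (SUH (Forms.hermB hF N)) :=
  Subgroup.mem_center_iff.2 fun g => su_ext fun v => by rw [mul_smul, mul_smul, hz, hz, su_scal]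

/-- A linear map is scalar when it is scalar on the standard basis. -/
theorem smul_scalar_of_E {N : ℕ} {z : SUH (Forms.hermB hF N)} {a : F}
    (hz : ∀ i, z • (E i : Fin N → F) = a • E i) (v : Fin N → F) : z • v = a • v := by
  have e : v = ∑ i, v i • (E i : Fin N → F) := by
    funext j
    simp [Pi.single_apply]
  have hsum : ∀ s : Finset (Fin N), z • (∑ i ∈ s, v i • (E i : Fin N → F)) = a • ∑ i ∈ s, v i • (E i : Fin N → F) := by
    intro s
    classical
    induction s using Finset.induction_on with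
    | empty => simp only [Finset.sum_empty, smul_zero]
    | insert i s hi ih => rw [Finset.sum_insert hi, su_add, ih, su_scal, hz, smul_add, smul_comm]
  rw [e]; exact hsum _

include hF in
/-- The kernel of a non-trivial homomorphism of `SU₄` is central. -/
theorem ker_le_center {G : Type*} [Group G] {f : Cfsg.SU 4 F q →* G} {y : G} (hy : y ∈ f.range) (hy1 : y ≠ 1) :
    f.ker ≤ Subgroup.center (Cfsg.SU 4 F q) := by
  refine (SU_normal_eq_top_or_le_center hF (by norm_num) (by simp) f.ker).resolve_left fun h => ?_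
  obtain ⟨x, rfl⟩ := hy
  exact hy1 (MonoidHom.mem_ker.1 (h ▸ Subgroup.mem_top x))

include hF in
theorem pair4_eq_one {i j k l : Fin 4} (h : i ≠ j) (h' : k ≠ l) (hik : i ≠ k) (hil : i ≠ l) (hjk : j ≠ k) (hjl : j ≠ l)
    {a c : Cfsg.SU 2 F q} (e : pair4 hF i j h a * pair4 hF k l h' c = 1) : a = 1 ∧ c = 1 := by
  have ha : pair4 hF i j h a = 1 := by
    refine (suEquiv hF (n := 4)).injective ?_
    rw [map_one]
    refine su_all_fix hF fun n => ?_
    by_cases hn : n = i ∨ n = j
    · rw [mul_eq_one_iff_eq_inv.1 e, map_inv, inv_smul_eq_iff]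
      refine (pair4_fix hF h' c ?_ ?_).symm <;> rcases hn with rfl | rfl <;> assumption
    · push Not at hn
      exact pair4_fix hF h a hn.1 hn.2
  refine ⟨pair4_injective hF h (ha.trans (map_one _).symm), pair4_injective hF h' ?_⟩
  rw [ha, one_mul] at e
  rw [e, map_one]

theorem pair4_col {i j : Fin 4} (h : i ≠ j) (x : Cfsg.SU 2 F q) :
    suEquiv hF (pair4 hF i j h x) • (E i : Fin 4 → F) = x.1.1 0 0 • E i + x.1.1 1 0 • E j := by
  funext n
  have hf : Function.Injective (![i, j] : Fin 2 → Fin 4) :=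
    fun a b e => by fin_cases a <;> fin_cases b <;> simp_all [Ne.symm h]
  by_cases hn : n = i ∨ n = j
  · rcases hn with rfl | rfl
    · refine (col_embS hF hf x 0 0).trans ?_
      simp [h]
    · refine (col_embS hF hf x 1 0).trans ?_
      simp [Ne.symm h]
  · push Not at hn
    have hr : n ∉ Set.range (![i, j] : Fin 2 → Fin 4) := by rintro ⟨m, hm⟩; fin_cases m <;> simp_all
    refine (embH_out hF hf x _ hr).trans ?_
    simp [E_apply, hn.1, hn.2]

theorem pair4_col' {i j : Fin 4} (h : i ≠ j) (x : Cfsg.SU 2 F q) :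
    suEquiv hF (pair4 hF i j h x) • (E j : Fin 4 → F) = x.1.1 0 1 • E i + x.1.1 1 1 • E j := by
  funext n
  have hf : Function.Injective (![i, j] : Fin 2 → Fin 4) :=
    fun a b e => by fin_cases a <;> fin_cases b <;> simp_all [Ne.symm h]
  by_cases hn : n = i ∨ n = j
  · rcases hn with rfl | rfl
    · refine (col_embS hF hf x 0 1).trans ?_
      simp [h]
    · refine (col_embS hF hf x 1 1).trans ?_
      simp [Ne.symm h]
  · push Not at hn
    have hr : n ∉ Set.range (![i, j] : Fin 2 → Fin 4) := by rintro ⟨m, hm⟩; fin_cases m <;> simp_all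
    refine (embH_out hF hf x _ hr).trans ?_
    simp [E_apply, hn.1, hn.2]

/-- A unit of a coordinate plane is moved to the first basis vector inside that plane. -/
theorem exists_pair4_move {i j : Fin 4} (h : i ≠ j) {u : Fin 4 → F} (hu : Forms.hermB hF 4 u u = 1)
    (hout : ∀ k, k ≠ i → k ≠ j → u k = 0) :
    ∃ a : Cfsg.SU 2 F q, suEquiv hF (pair4 hF i j h a) • u = E i := by
  set X : Set (Fin 4 → F) := (E : Fin 4 → Fin 4 → F) '' {k | k ≠ i ∧ k ≠ j}
  have mem : ∀ v : Fin 4 → F, (∀ k, k ≠ i → k ≠ j → v k = 0) → v ∈ orth (Forms.hermB hF 4) X := by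
    rintro v hv _ ⟨k, ⟨h1, h2⟩, rfl⟩
    rw [hE_left, hv k h1 h2]
  obtain ⟨g, hg, hgc⟩ := exists_move (hermB_isUnitary hF) (orth (Forms.hermB hF 4) X) (w := u) (w' := E i) (d := E j)
    (mem u hout) (mem _ fun k h1 _ => by rw [E_apply, if_neg h1]) (mem _ fun k _ h2 => by rw [E_apply, if_neg h2]) hu
    (by simp [hE_E]) (by simp [hE_E]) (by simp [hE_E, Ne.symm h])
  obtain ⟨y, rfl⟩ := (suEquiv hF (n := 4)).surjective g
  obtain ⟨a, rfl⟩ := (mem_range_pair4 hF h y).2 fun k h1 h2 => hgc _ fun x hx => hx _ ⟨k, ⟨h1, h2⟩, rfl⟩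
  exact ⟨a, hg⟩

variable {G : Type*} [Group G]

/-- A composite with a conjugation. -/
theorem range_comp_conj (f : Cfsg.SU 4 F q →* G) (k : Cfsg.SU 4 F q) :
    (f.comp (MulAut.conj k).toMonoidHom).range = f.range :=
  range_comp_surj f _ (MulAut.conj k).surjective

theorem ker_comp_conj {f : Cfsg.SU 4 F q →* G} (hf : f.ker ≤ Subgroup.center (Cfsg.SU 4 F q)) (k : Cfsg.SU 4 F q) :
    (f.comp (MulAut.conj k).toMonoidHom).ker ≤ Subgroup.center (Cfsg.SU 4 F q) := by
  intro x hx
  rw [MonoidHom.mem_ker, MonoidHom.comp_apply] at hx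
  have hc : k * x * k⁻¹ ∈ Subgroup.center (Cfsg.SU 4 F q) := hf hx
  have e : x = k * x * k⁻¹ := by
    have := Subgroup.mem_center_iff.1 hc k⁻¹
    calc x = k⁻¹ * (k * x * k⁻¹) * k := by group
      _ = _ := by rw [this, inv_mul_cancel_right]
  rw [e]; exact hc

/-- Equality of images of `SU₂` from an inclusion. -/
theorem range_eq_of_le {U : Subgroup G} {a b : Cfsg.SU 2 F q →* G} (ha : Function.Injective a)
    (hb : b.range = U) (hle : a.range ≤ U) : a.range = U := by
  haveI : Finite U := hb ▸ Finite.of_surjective b.rangeRestrict b.rangeRestrict_surjective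
  refine Subgroup.eq_of_le_of_card_ge hle ?_
  rw [← hb]
  calc Nat.card b.range ≤ Nat.card (Cfsg.SU 2 F q) :=
        Nat.card_le_card_of_surjective _ b.rangeRestrict_surjective
    _ = Nat.card a.range := Nat.card_congr (MonoidHom.ofInjective ha).toEquiv

theorem eq_range_of_le {U : Subgroup G} {a b : Cfsg.SU 2 F q →* G} (ha : Function.Injective a)
    (hU : a.range = U) (hle : U ≤ b.range) : b.range = U := by
  haveI : Finite b.range := Finite.of_surjective b.rangeRestrict b.rangeRestrict_surjective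
  refine (Subgroup.eq_of_le_of_card_ge hle ?_).symm
  rw [← hU]
  calc Nat.card b.range ≤ Nat.card (Cfsg.SU 2 F q) :=
        Nat.card_le_card_of_surjective _ b.rangeRestrict_surjective
    _ = Nat.card a.range := Nat.card_congr (MonoidHom.ofInjective ha).toEquiv

section

variable {hF}
variable {U U' V : Subgroup G} {φ : Cfsg.SU 3 F q →* G} (h : Std hF U U' V φ)
include h

theorem Std.not_le : ¬ U ≤ U' := fun hle => by
  have hd := h.diag_of_normalise (x := wswap hF) fun y hy =>
    U'.mul_mem (U'.mul_mem (hle (h.mem_left _)) hy) (U'.inv_mem (hle (h.mem_left _)))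
  rw [wswap, mk2_b] at hd
  exact one_ne_zero hd

theorem Std.not_ge : ¬ U' ≤ U := fun hle =>
  h.not_le ((range_eq_of_le h.inj12 h.r01 (by rw [h.r12]; exact hle)).symm.trans h.r12).le

theorem Std.range_le_of_left : U ≤ V := fun y hy => by
  rw [← h.r01] at hy
  obtain ⟨x, rfl⟩ := hy
  rw [← h.range_eq]; exact ⟨_, rfl⟩

theorem Std.range_le_of_right : U' ≤ V := fun y hy => by
  rw [← h.r12] at hy
  obtain ⟨x, rfl⟩ := hy
  rw [← h.range_eq]; exact ⟨_, rfl⟩

end

end Cfsg.Agent.PhanAmalgam
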