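/-
Area PhanAmalgam: the inductive step in dimension at least five, for every field.
-/
import Cfsg.Agent.Lib.PhanAmalgam.Glue

set_option autoImplicit false

namespace Cfsg.Agent.PhanAmalgam

open Cfsg.Agent.ClassicalSimple

variable {F V H : Type*} [Field F] [AddCommGroup V] [Module F V] {σ : F →+* F} [Group H]

namespace Data

variable {h : V →ₛₗ[σ] V →ₗ[F] F} (D : Data h H) [Finite F] [FiniteDimensional F V]

/-- The elements supported on `a`, `b`, `c`. -/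
def fixPerp3 (h : V →ₛₗ[σ] V →ₗ[F] F) (C : Set V) (a b c : V) : Subgroup (SUH h) :=
  fix h (C ∪ {x | x ∈ orth h C ∧ h a x = 0 ∧ h b x = 0 ∧ h c x = 0})

/-- A fifth unit and the third commutation condition. -/
structure Extra (e2 : V) : Prop where
  h2 : D.Unit₁ e2
  oe2 : h D.e e2 = 0
  o12 : h D.e1 e2 = 0
  o2z : h e2 D.z = 0
  five : ∀ p1 p2 p3 p4 : V, ∃ x ∈ orth h D.C, x ≠ 0 ∧ h p1 x = 0 ∧ h p2 x = 0 ∧ h p3 x = 0 ∧ h p4 x = 0
  comm3 : ∀ g ∈ fixPerp3 h D.C D.e D.e1 e2, ∀ k ∈ fix h (D.C ∪ {D.e, D.e1, e2}), Commute (D.L g) (D.R k)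

omit [Finite F] [FiniteDimensional F V] in
include D in
theorem resolve_smul {a : F} {x u : V} (ha : a ≠ 0) (e : h (a • x) u = 0) : h x u = 0 := by
  rw [map_smulₛₗ, LinearMap.smul_apply, smul_eq_mul] at e
  exact (mul_eq_zero.1 e).resolve_left fun e' => ha (by rw [← D.hh.invol a, e', map_zero])

include D in
theorem exists_unit_iso_perp {p s : V} (hp : D.Unit₀ p) (hs : s ∈ orth h D.C) (hps : h p s = 0) :
    ∃ u, D.Unit₁ u ∧ h p u = 0 ∧ h s u = 0 := by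
  by_cases hs0 : s = 0
  · obtain ⟨u, hu, h1, -, -⟩ := D.exists_unit_perp hp D.unit₀_zero D.unit₀_zero (by simp) (by simp) (by simp)
    exact ⟨u, hu, h1, by simp [hs0]⟩
  by_cases hss : h s s = 0
  · obtain ⟨x, hx, hsx⟩ := D.nd s hs hs0
    set t := (h s x)⁻¹ • x - h p ((h s x)⁻¹ • x) • p with ht
    have htW : t ∈ orth h D.C := sub_mem (Submodule.smul_mem _ _ hx) (Submodule.smul_mem _ _ (D.unit₀_mem hp))
    have hpt : h p t = 0 := D.proj_eq hp _
    have hst : h s t = 1 := by simp [ht, D.sw hps, inv_mul_cancel₀ hsx]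
    let Ds := orth h (D.C ∪ {p})
    have mem : ∀ u, u ∈ orth h D.C → h p u = 0 → u ∈ Ds := fun u a b => by
      rintro w (hw | rfl)
      exacts [a w hw, b]
    obtain ⟨f, hfD, hff, hsf, -⟩ := D.exists_level_iso Ds (mem s hs hps) (mem t htW hpt) hss hst 1 one_ne_zero
    have hf : D.Unit₁ f := ⟨fun c hc => hfD c (Or.inl hc), hff⟩
    have hpf : h p f = 0 := hfD p (Or.inr rfl)
    have hfs : h f s = 1 := by rw [D.hh.swap s f, hsf, map_one]
    obtain ⟨c, hc, hcu⟩ := D.exists_normalise (x := s - f) (sub_mem hs hf.1)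
      (by simp [hss, hsf, hfs, hff])
    obtain ⟨u, hu, h1, h2, h3⟩ := D.exists_unit_perp hp (Or.inr hf) (Or.inr hcu) hpf (by simp [hps, hpf])
      (by simp [hfs, hff])
    have h4 := D.resolve_smul hc h3
    refine ⟨u, hu, h1, ?_⟩
    simpa [h2] using h4
  · obtain ⟨c, hc, hcu⟩ := D.exists_normalise hs hss
    obtain ⟨u, hu, h1, h2, -⟩ :=
      D.exists_unit_perp hp (Or.inr hcu) D.unit₀_zero (by simp [hps]) (by simp) (by simp)
    exact ⟨u, hu, h1, D.resolve_smul hc h2⟩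

/-- A subgroup containing the stabiliser of `e` and `x` and the elements supported on `e`, `e1` contains the
stabiliser of `x`, without restriction on the field. -/
theorem gen_of {x : V} (hx : D.Unit₀ x) (hxe : h D.e x = 0) (hx1 : h D.e1 x = 0)
    (hA : ∀ s ∈ orth h D.C, h D.e s = 0 → h x s = 0 → ∃ f, D.Unit₁ f ∧ h D.e f = 0 ∧ h x f = 0 ∧ h s f = 0)
    (T : Subgroup (SUH h)) (hK : fix h (D.C ∪ {D.e, x}) ≤ T) (hP : fixPerp h D.C D.e D.e1 ≤ T) :
    fix h (D.C ∪ {x}) ≤ T := by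
  have hxm := D.unit₀_mem hx
  obtain ⟨d, hd, hd1, hd2, hd3⟩ :=
    D.exists_unit_perp (Or.inr D.unit_e) hx (Or.inr D.unit_e1) hxe D.oe1 (D.sw hx1)
  have move : ∀ t, D.Unit₁ t → h D.e t = 0 → h x t = 0 → ∃ k ∈ fix h (D.C ∪ {D.e, x}), k • t = D.e1 :=
    fun t ht h1 h2 => D.exists_move_unit {D.e, x} (by rintro w (rfl | rfl); exacts [D.he, hxm]) ht D.unit_e1 hd
      (by rintro w (rfl | rfl); exacts [h1, h2]) (by rintro w (rfl | rfl); exacts [D.oe1, D.sw hx1])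
      (by rintro w (rfl | rfl); exacts [hd1, hd2]) (D.sw hd3)
  have plane : ∀ t, D.Unit₁ t → (∀ w ∈ orth h D.C, h D.e w = 0 → h D.e1 w = 0 → h w t = 0) →
      ∃ g ∈ fixPerp h D.C D.e D.e1, g • t = D.e :=
    fun t ht h1 => D.exists_move_unit {w | w ∈ orth h D.C ∧ h D.e w = 0 ∧ h D.e1 w = 0} (fun w hw => hw.1) ht
      D.unit_e D.unit_e1 (fun w hw => h1 w hw.1 hw.2.1 hw.2.2) (fun w hw => D.sw hw.2.1) (fun w hw => D.sw hw.2.2)
      (D.sw D.oe1)
  have gx : ∀ g ∈ fixPerp h D.C D.e D.e1, g • x = x := fun g hg => hg x (Or.inr ⟨hxm, hxe, hx1⟩)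
  have kx : ∀ k ∈ fix h (D.C ∪ {D.e, x}), k • x = x ∧ k • D.e = D.e ∧ D.FixC k := fun k hk =>
    ⟨(D.mem_fix_two.1 hk).2.2, (D.mem_fix_two.1 hk).2.1, (D.mem_fix_two.1 hk).1⟩
  have step : ∀ u, D.Unit₁ u → h x u = 0 → (u - h D.e u • D.e = 0 ∨ σ (h D.e u) * h D.e u ≠ 1) →
      ∃ t ∈ T, D.FixC t ∧ t • x = x ∧ t • u = D.e := by
    intro u hu hxu hcase
    set a := h D.e u
    set s := u - a • D.e with hs
    rcases hcase with h0 | hne
    · have hua : u = a • D.e := sub_eq_zero.1 h0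
      obtain ⟨g, hg, hge⟩ := plane u hu fun w _ h1 _ => by rw [hua]; simp [D.sw h1]
      exact ⟨g, hP hg, fun c hc => hg c (Or.inl hc), gx g hg, hge⟩
    · have hsW : s ∈ orth h D.C := sub_mem hu.1 (Submodule.smul_mem _ _ D.he)
      obtain ⟨c, hc, hcu⟩ := D.exists_normalise hsW
        (by rw [hs, D.norm_sub D.nee hu.2]; exact sub_ne_zero.2 (Ne.symm hne))
      obtain ⟨k, hk, hks⟩ := move _ hcu (by simp [hs, a, D.nee]) (by simp [hs, hxu, D.sw hxe])
      obtain ⟨hkx, hke, hkC⟩ := kx k hk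
      have hku : k • u = a • D.e + c⁻¹ • D.e1 := by
        rw [← hks, su_scal, smul_smul, inv_mul_cancel₀ hc, one_smul, hs, su_sub, su_scal, hke]
        abel
      obtain ⟨g, hg, hge⟩ := plane (k • u) (D.smul_unit hkC hu) fun w _ h1 h2 => by
        rw [hku]; simp [D.sw h1, D.sw h2]
      exact ⟨g * k, mul_mem (hP hg) (hK hk), fun w hw => by rw [mul_smul, hkC w hw, hg w (Or.inl hw)],
        by rw [mul_smul, hkx, gx g hg], by rw [mul_smul, hge]⟩
  intro g hg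
  obtain ⟨hgC, hgx⟩ := D.mem_fix_one.1 hg
  set u := g • D.e with hu'
  have hu : D.Unit₁ u := D.smul_unit hgC D.unit_e
  have hxu : h x u = 0 := by rw [hu', ← hgx, su_form]; exact D.sw hxe
  set s := u - h D.e u • D.e with hs
  have hsW : s ∈ orth h D.C := sub_mem hu.1 (Submodule.smul_mem _ _ D.he)
  obtain ⟨f, hf, hef, hxf, hsf⟩ := hA s hsW (by simp [hs, D.nee]) (by simp [hs, hxu, D.sw hxe])
  obtain ⟨k, hk, hkf⟩ := move f hf hef hxf
  obtain ⟨hkx, hke, hkC⟩ := kx k hk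
  obtain ⟨g1, hg1, hge⟩ := plane D.e1 D.unit_e1 fun w _ _ h2 => D.sw h2
  have hgC1 : D.FixC g1 := fun c hc => hg1 c (Or.inl hc)
  have hb : h D.e (g1 • k • u) = 0 := by
    rw [← hge, su_form, ← hkf, su_form, show u = h D.e u • D.e + s by rw [hs]; abel, map_add, map_smul,
      D.sw hef, smul_zero, zero_add, D.sw hsf]
  obtain ⟨t, ht, htC, htx, hte⟩ := step (g1 • k • u) (D.smul_unit hgC1 (D.smul_unit hkC hu))
    (by rw [← gx g1 hg1, su_form, ← hkx, su_form]; exact hxu) (Or.inr (by rw [hb]; simp))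
  have hm : t * g1 * k * g ∈ T := hK (D.mem_fix_two.2
    ⟨fun c hc => by rw [mul_smul, mul_smul, mul_smul, hgC c hc, hkC c hc, hgC1 c hc, htC c hc],
      by rw [mul_smul, mul_smul, mul_smul, ← hu', hte],
      by rw [mul_smul, mul_smul, mul_smul, hgx, hkx, gx g1 hg1, htx]⟩)
  have := mul_mem (inv_mem (mul_mem (mul_mem ht (hP hg1)) (hK hk))) hm
  rwa [inv_mul_cancel_left] at this

/-- Generation of the stabiliser of `C`, in dimension at least four and for every field. -/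
theorem gen_all' (T : Subgroup (SUH h)) (hK : fix h (D.C ∪ {D.e}) ≤ T) (hP : fixPerp h D.C D.e D.e1 ≤ T) :
    fix h D.C ≤ T := fun g hg =>
  D.gen_of D.unit₀_zero (map_zero _) (map_zero _)
    (fun s hs h1 _ => by
      obtain ⟨f, hf, h2, h3⟩ := D.exists_unit_iso_perp (Or.inr D.unit_e) hs h1
      exact ⟨f, hf, h2, by simp, h3⟩) T
    (fun k hk => hK (D.mem_fix_one.2 ⟨(D.mem_fix_two.1 hk).1, (D.mem_fix_two.1 hk).2.1⟩)) hP
    (D.mem_fix_one.2 ⟨hg, smul_zero g⟩)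

variable {D} {e2 : V} (X : D.Extra e2)
include X

/-- A unit orthogonal to four given pairwise orthogonal vectors, each zero or a unit. -/
theorem Extra.exists_unit_perp4 {p1 p2 p3 p4 : V} (h1 : D.Unit₀ p1) (h2 : D.Unit₀ p2) (h3 : D.Unit₀ p3)
    (h4 : D.Unit₀ p4) (h12 : h p1 p2 = 0) (h13 : h p1 p3 = 0) (h14 : h p1 p4 = 0) (h23 : h p2 p3 = 0)
    (h24 : h p2 p4 = 0) (h34 : h p3 p4 = 0) :
    ∃ u, D.Unit₁ u ∧ h p1 u = 0 ∧ h p2 u = 0 ∧ h p3 u = 0 ∧ h p4 u = 0 := by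
  obtain ⟨x, hx, hx0, hx1, hx2, hx3, hx4⟩ := X.five p1 p2 p3 p4
  obtain ⟨t, ht, hxt⟩ := D.nd x hx hx0
  set t' := t - h p1 t • p1 - h p2 t • p2 - h p3 t • p3 - h p4 t • p4 with ht'
  let Dsub : Submodule F V := orth h (D.C ∪ {p1, p2, p3, p4})
  have mem : ∀ v, v ∈ orth h D.C → h p1 v = 0 → h p2 v = 0 → h p3 v = 0 → h p4 v = 0 → v ∈ Dsub :=
    fun v a b c d e => by
      rintro w (hw | rfl | rfl | rfl | rfl)
      exacts [a w hw, b, c, d, e]
  have htm : t' ∈ orth h D.C := sub_mem (sub_mem (sub_mem (sub_mem ht (Submodule.smul_mem _ _ (D.unit₀_mem h1)))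
    (Submodule.smul_mem _ _ (D.unit₀_mem h2))) (Submodule.smul_mem _ _ (D.unit₀_mem h3)))
    (Submodule.smul_mem _ _ (D.unit₀_mem h4))
  have e1 : h p1 t' = 0 := by
    rcases h1 with rfl | h1
    · simp
    · simp [ht', h1.2, h12, h13, h14]
  have e2 : h p2 t' = 0 := by
    rcases h2 with rfl | h2
    · simp
    · simp [ht', h2.2, D.sw h12, h23, h24]
  have e3 : h p3 t' = 0 := by
    rcases h3 with rfl | h3
    · simp
    · simp [ht', h3.2, D.sw h13, D.sw h23, h34]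
  have e4 : h p4 t' = 0 := by
    rcases h4 with rfl | h4
    · simp
    · simp [ht', h4.2, D.sw h14, D.sw h24, D.sw h34]
  have hne : h x t' ≠ 0 := by simpa [ht', D.sw hx1, D.sw hx2, D.sw hx3, D.sw hx4] using hxt
  obtain ⟨u, hu, huu⟩ :=
    exists_unit_of_pair D.hh Dsub (mem x hx hx1 hx2 hx3 hx4) (mem t' htm e1 e2 e3 e4) hne
  exact ⟨u, ⟨fun c hc => hu c (Or.inl hc), huu⟩, hu _ (Or.inr (Or.inl rfl)), hu _ (Or.inr (Or.inr (Or.inl rfl))),
    hu _ (Or.inr (Or.inr (Or.inr (Or.inl rfl)))), hu _ (Or.inr (Or.inr (Or.inr (Or.inr rfl))))⟩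

/-- A unit orthogonal to two orthogonal units and to a third vector orthogonal to them. -/
theorem Extra.exists_unit_perp_vec {p1 p2 s : V} (h1 : D.Unit₀ p1) (h2 : D.Unit₀ p2) (h12 : h p1 p2 = 0)
    (hs : s ∈ orth h D.C) (hs1 : h p1 s = 0) (hs2 : h p2 s = 0) :
    ∃ u, D.Unit₁ u ∧ h p1 u = 0 ∧ h p2 u = 0 ∧ h s u = 0 := by
  by_cases hs0 : s = 0
  · obtain ⟨u, hu, e1, e2, -⟩ := D.exists_unit_perp h1 h2 D.unit₀_zero h12 (by simp) (by simp)
    exact ⟨u, hu, e1, e2, by simp [hs0]⟩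
  by_cases hss : h s s = 0
  · obtain ⟨x, hx, hsx⟩ := D.nd s hs hs0
    set t0 := (h s x)⁻¹ • x with ht0
    set t := t0 - h p1 t0 • p1 - h p2 t0 • p2 with ht
    have htW : t ∈ orth h D.C := sub_mem (sub_mem (Submodule.smul_mem _ _ hx)
      (Submodule.smul_mem _ _ (D.unit₀_mem h1))) (Submodule.smul_mem _ _ (D.unit₀_mem h2))
    have et1 : h p1 t = 0 := by rw [ht, map_sub, D.proj_eq h1, map_smul, h12, smul_zero, sub_zero]
    have et2 : h p2 t = 0 := by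
      rw [ht, show t0 - h p1 t0 • p1 - h p2 t0 • p2 = (t0 - h p2 t0 • p2) - h p1 t0 • p1 by abel, map_sub,
        D.proj_eq h2, map_smul, D.sw h12, smul_zero, sub_zero]
    have est : h s t = 1 := by simp [ht, ht0, D.sw hs1, D.sw hs2, inv_mul_cancel₀ hsx]
    let Ds := orth h (D.C ∪ {p1, p2})
    have mem : ∀ u, u ∈ orth h D.C → h p1 u = 0 → h p2 u = 0 → u ∈ Ds := fun u a b c => by
      rintro w (hw | rfl | rfl)
      exacts [a w hw, b, c]
    obtain ⟨f, hfD, hff, hsf, -⟩ :=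
      D.exists_level_iso Ds (mem s hs hs1 hs2) (mem t htW et1 et2) hss est 1 one_ne_zero
    have hf : D.Unit₁ f := ⟨fun c hc => hfD c (Or.inl hc), hff⟩
    have hf1 : h p1 f = 0 := hfD _ (Or.inr (Or.inl rfl))
    have hf2 : h p2 f = 0 := hfD _ (Or.inr (Or.inr rfl))
    have hfs : h f s = 1 := by rw [D.hh.swap s f, hsf, map_one]
    obtain ⟨c, hc, hcu⟩ := D.exists_normalise (x := s - f) (sub_mem hs hf.1) (by simp [hss, hsf, hfs, hff])
    obtain ⟨u, hu, e1, e2, e3, e4⟩ := X.exists_unit_perp4 h1 h2 (Or.inr hf) (Or.inr hcu) h12 hf1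
      (by simp [hs1, hf1]) hf2 (by simp [hs2, hf2]) (by simp [hfs, hff])
    refine ⟨u, hu, e1, e2, ?_⟩
    simpa [e3] using D.resolve_smul hc e4
  · obtain ⟨c, hc, hcu⟩ := D.exists_normalise hs hss
    obtain ⟨u, hu, e1, e2, e3⟩ :=
      D.exists_unit_perp h1 h2 (Or.inr hcu) h12 (by simp [hs1]) (by simp [hs2])
    exact ⟨u, hu, e1, e2, D.resolve_smul hc e3⟩

omit [Finite F] [FiniteDimensional F V] in
/-- Elements supported on three units commute with the elements fixing them. -/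
theorem Extra.commute3 {g k : SUH h} (hg : g ∈ fixPerp3 h D.C D.e D.e1 e2)
    (hk : k ∈ fix h (D.C ∪ {D.e, D.e1, e2})) : Commute g k := by
  have hkC : D.FixC k := fun c hc => hk c (Or.inl hc)
  have hgC : D.FixC g := fun c hc => hg c (Or.inl hc)
  have hke : k • D.e = D.e := hk _ (Or.inr (Or.inl rfl))
  have hk1 : k • D.e1 = D.e1 := hk _ (Or.inr (Or.inr (Or.inl rfl)))
  have hk2 : k • e2 = e2 := hk _ (Or.inr (Or.inr (Or.inr rfl)))
  have hcomb : ∀ v ∈ orth h D.C, (∀ x ∈ orth h D.C, h D.e x = 0 → h D.e1 x = 0 → h e2 x = 0 → h x v = 0) →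
      k • v = v := fun v hv hx => by
    set r := v - h D.e v • D.e - h D.e1 v • D.e1 - h e2 v • e2 with hr
    have hrm : r ∈ orth h D.C := sub_mem (sub_mem (sub_mem hv (Submodule.smul_mem _ _ D.he))
      (Submodule.smul_mem _ _ D.he1)) (Submodule.smul_mem _ _ X.h2.1)
    have r0 : h D.e r = 0 := by simp [hr, D.nee, D.oe1, X.oe2]
    have r1 : h D.e1 r = 0 := by simp [hr, D.ne11, D.sw D.oe1, X.o12]
    have r2 : h e2 r = 0 := by simp [hr, X.h2.2, D.sw X.oe2, D.sw X.o12]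
    have hr0 : r = 0 := by
      by_contra h0
      obtain ⟨t, ht, hne⟩ := D.nd r hrm h0
      set t' := t - h D.e t • D.e - h D.e1 t • D.e1 - h e2 t • e2 with ht'
      have htm : t' ∈ orth h D.C := sub_mem (sub_mem (sub_mem ht (Submodule.smul_mem _ _ D.he))
        (Submodule.smul_mem _ _ D.he1)) (Submodule.smul_mem _ _ X.h2.1)
      have t0 : h D.e t' = 0 := by simp [ht', D.nee, D.oe1, X.oe2]
      have t1 : h D.e1 t' = 0 := by simp [ht', D.ne11, D.sw D.oe1, X.o12]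
      have t2 : h e2 t' = 0 := by simp [ht', X.h2.2, D.sw X.oe2, D.sw X.o12]
      have e : h t' r = 0 := by
        simp [hr, hx t' htm t0 t1 t2, D.sw t0, D.sw t1, D.sw t2]
      exact hne (by simpa [ht', D.sw r0, D.sw r1, D.sw r2] using D.sw e)
    rw [show v = h D.e v • D.e + h D.e1 v • D.e1 + h e2 v • e2 by
      rw [← sub_eq_zero, ← sub_sub, ← sub_sub]; exact hr0, su_add, su_add, su_scal, su_scal, su_scal, hke, hk1, hk2]
  have hgk : ∀ v ∈ orth h D.C, h D.e v = 0 → h D.e1 v = 0 → h e2 v = 0 → g • v = v :=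
    fun v a b c d => hg v (Or.inr ⟨a, b, c, d⟩)
  have hgcomb : ∀ s ∈ orth h D.C, (∀ x ∈ orth h D.C, h D.e x = 0 → h D.e1 x = 0 → h e2 x = 0 → h x s = 0) →
      k • g • s = g • s := fun s hs hx => hcomb _ (D.smul_orth hgC hs) fun x a b c d => by
    rw [← hgk x a b c d, su_form]; exact hx x a b c d
  refine inv_mul_eq_one.1 (D.span ((g * k)⁻¹ * (k * g)) (fun c hc => ?_) fun v hv => ?_) |> Eq.trans ?_ |> Eq.symm
      |> Eq.symm
  · rfl
  · rw [mul_smul, inv_smul_eq_iff, mul_smul, mul_smul, hgC c hc, hkC c hc, hgC c hc]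
  rw [mul_smul, inv_smul_eq_iff]
  set r := v - h D.e v • D.e - h D.e1 v • D.e1 - h e2 v • e2 with hr
  have hrm : r ∈ orth h D.C := sub_mem (sub_mem (sub_mem hv (Submodule.smul_mem _ _ D.he))
    (Submodule.smul_mem _ _ D.he1)) (Submodule.smul_mem _ _ X.h2.1)
  have r0 : h D.e r = 0 := by simp [hr, D.nee, D.oe1, X.oe2]
  have r1 : h D.e1 r = 0 := by simp [hr, D.ne11, D.sw D.oe1, X.o12]
  have r2 : h e2 r = 0 := by simp [hr, X.h2.2, D.sw X.oe2, D.sw X.o12]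
  have hgr := hgk r hrm r0 r1 r2
  have hgkr : g • k • r = k • r := hgk _ (D.smul_orth hkC hrm) (by rw [← hke, su_form]; exact r0)
    (by rw [← hk1, su_form]; exact r1) (by rw [← hk2, su_form]; exact r2)
  have ge := hgcomb D.e D.he fun x _ a _ _ => D.sw a
  have g1 := hgcomb D.e1 D.he1 fun x _ _ b _ => D.sw b
  have g2 := hgcomb e2 X.h2.1 fun x _ _ _ c => D.sw c
  rw [show v = h D.e v • D.e + h D.e1 v • D.e1 + h e2 v • e2 + r by rw [hr]; abel, mul_smul, mul_smul]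
  simp only [su_add, su_scal, hke, hk1, hk2, ge, g1, g2, hgr, hgkr]

/-- The image of an element supported on three units is the same in the stabilisers of units orthogonal to them. -/
theorem Extra.Lw_three {w : V} (hw : D.W1 w) (hw1 : h D.e1 w = 0) (hw2 : h e2 w = 0) {g : SUH h}
    (hg : g ∈ fixPerp3 h D.C D.e D.e1 e2) : D.Lw w g = D.L g := by
  obtain ⟨d, hd, d0, d1, d2, d3⟩ := X.exists_unit_perp4 (Or.inr D.unit_e) (Or.inr D.unit_e1) (Or.inr X.h2)
    (Or.inr hw.1) D.oe1 X.oe2 hw.2 X.o12 hw1 hw2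
  obtain ⟨k, hk, hkz⟩ := D.exists_move_unit {D.e, D.e1, e2}
    (by rintro x (rfl | rfl | rfl); exacts [D.he, D.he1, X.h2.1]) D.unit_z hw.1 hd
    (by rintro x (rfl | rfl | rfl); exacts [D.oez, D.o1z, X.o2z])
    (by rintro x (rfl | rfl | rfl); exacts [hw.2, hw1, hw2])
    (by rintro x (rfl | rfl | rfl); exacts [d0, d1, d2]) (D.sw d3)
  have hke : k ∈ fix h (D.C ∪ {D.e}) :=
    D.mem_fix_one.2 ⟨fun c hc => hk c (Or.inl hc), hk _ (Or.inr (Or.inl rfl))⟩
  have hgw : g ∈ fix h (D.C ∪ {w}) :=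
    D.mem_fix_one.2 ⟨fun c hc => hg c (Or.inl hc), hg w (Or.inr ⟨hw.1.1, hw.2, hw1, hw2⟩)⟩
  have hcomm : k⁻¹ * g * k = g := by
    rw [mul_assoc, (X.commute3 hg hk).eq, inv_mul_cancel_left]
  rw [D.Lw_eq hke hkz hw hgw, hcomm, ← (X.comm3 g hg k hk).eq]
  group

theorem Extra.val_conn5 {v w w' : V} (hv : D.Unit₁ v) (hw : D.W0 v w) (hw' : D.W0 v w') :
    D.val w v = D.val w' v := by
  set a := h D.e v
  set r := v - a • D.e with hr
  have hdec : v = a • D.e + r := by rw [hr]; abel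
  have hrW : r ∈ orth h D.C := sub_mem hv.1 (Submodule.smul_mem _ _ D.he)
  have her : h D.e r = 0 := by simp [hr, a, D.nee]
  have hwr : h w r = 0 := by simp [hr, hw.2, D.sw hw.1.2]
  have hwr' : h w' r = 0 := by simp [hr, hw'.2, D.sw hw'.1.2]
  set μ := h w w'
  set w'' := w' - μ • w with hw''
  have hw''W : w'' ∈ orth h D.C := sub_mem hw'.1.1.1 (Submodule.smul_mem _ _ hw.1.1.1)
  have hew'' : h D.e w'' = 0 := by simp [hw'', hw'.1.2, hw.1.2]
  have hww'' : h w w'' = 0 := by simp [hw'', μ, hw.1.1.2]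
  have hr'' : h w'' r = 0 := by simp [hw'', hwr, hwr']
  by_cases hgen : r = 0 ∨ h r r ≠ 0
  · obtain ⟨t, ht, het, hwt, hwt', c, hrt⟩ :
        ∃ t, D.Unit₁ t ∧ h D.e t = 0 ∧ h w t = 0 ∧ h w' t = 0 ∧ ∃ c : F, r = c • t := by
      rcases hgen with h0 | hrr
      · obtain ⟨t, ht, e1, e2, e3⟩ :=
          X.exists_unit_perp_vec (Or.inr D.unit_e) (Or.inr hw.1.1) hw.1.2 hw''W hew'' hww''
        refine ⟨t, ht, e1, e2, ?_, 0, by rw [h0, zero_smul]⟩
        simpa [hw'', e2] using e3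
      · obtain ⟨c, hc, hcu⟩ := D.exists_normalise hrW hrr
        exact ⟨c • r, hcu, by simp [her], by simp [hwr], by simp [hwr'], c⁻¹,
          by rw [smul_smul, inv_mul_cancel₀ hc, one_smul]⟩
    obtain ⟨d, hd, hd1, hd2, -⟩ :=
      D.exists_unit_perp (Or.inr D.unit_e) (Or.inr D.unit_e1) D.unit₀_zero D.oe1 (by simp) (by simp)
    obtain ⟨k, hk, hkt⟩ := D.exists_move_unit {D.e} (by simp [D.he]) ht D.unit_e1 hd (by simp [het])
      (by simp [D.oe1]) (by simp [hd1]) (D.sw hd2)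
    obtain ⟨hkC, hke⟩ := D.mem_fix_one.1 hk
    have hkv : k • v = a • D.e + c • D.e1 := by rw [hdec, hrt, su_add, su_scal, su_scal, hke, hkt]
    obtain ⟨g, hg, hge⟩ := D.exists_move_unit {x | x ∈ orth h D.C ∧ h D.e x = 0 ∧ h D.e1 x = 0} (fun x hx => hx.1)
      (D.smul_unit hkC hv) D.unit_e D.unit_e1 (fun x hx => by rw [hkv]; simp [D.sw hx.2.1, D.sw hx.2.2])
      (fun x hx => D.sw hx.2.1) (fun x hx => D.sw hx.2.2) (D.sw D.oe1)
    have key : ∀ u, D.W0 v u → h u t = 0 →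
        ((D.L g, g) : H × SUH h) • D.liftR k • D.val u v = QuotientGroup.mk 1 := by
      intro u hu hut
      rw [D.val_R hk hv hu]
      have h1 : h D.e1 (k • u) = 0 := by rw [← hkt, su_form]; exact D.sw hut
      obtain ⟨e, hp', -⟩ := D.val_first hg (D.smul_unit hkC hv) (D.W0_smul hk hu) h1
      rw [hge] at hp'
      rw [e, hge, D.val_e hp']
    have e1 := (key w hw hwt).trans (key w' hw' hwt').symm
    exact MulAction.injective _ (MulAction.injective _ e1)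
  push Not at hgen
  obtain ⟨hr0, hrr⟩ := hgen
  by_cases hdep : ∃ δ : F, w'' = δ • r
  · obtain ⟨δ, hδ⟩ := hdep
    obtain ⟨u, hu, heu, hwu, hru⟩ := X.exists_unit_perp_vec (Or.inr D.unit_e) (Or.inr hw.1.1) hw.1.2 hrW her hwr
    have huW : D.W0 v u := ⟨⟨hu, heu⟩, by rw [hdec]; simp [D.sw heu, D.sw hru]⟩
    have hwu' : h w' u = 0 := by
      rw [show w' = w'' + μ • w by rw [hw'']; abel, hδ]
      simp [hru, hwu]
    rw [D.val_adj hv hw huW (by rw [hwu]; simp), D.val_adj hv huW hw' (by rw [D.sw hwu']; simp)]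
  -- a common frame
  push Not at hdep
  obtain ⟨x1, hx1, hrx1⟩ := D.nd r hrW hr0
  obtain ⟨x2, hx2, hrx2, hwx2⟩ : ∃ x2 ∈ orth h D.C, h r x2 = 0 ∧ h w'' x2 ≠ 0 := by
    by_contra hc
    push Not at hc
    set c := h w'' x1 / h r x1
    set y := w'' - σ c • r with hy
    refine hdep (σ c) (sub_eq_zero.1 ?_)
    by_contra hy0
    obtain ⟨x, hx, hne⟩ := D.nd y (sub_mem hw''W (Submodule.smul_mem _ _ hrW)) hy0
    have e := hc (x - (h r x / h r x1) • x1) (sub_mem hx (Submodule.smul_mem _ _ hx1))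
      (by simp [hrx1])
    refine hne ?_
    simp only [map_sub, map_smul, smul_eq_mul] at e
    simp only [hy, map_sub, map_smulₛₗ, LinearMap.sub_apply, LinearMap.smul_apply, smul_eq_mul, RingHom.id_apply,
      D.hh.invol, c]
    field_simp at e ⊢
    linear_combination e
  set x := (h r x1)⁻¹ • (x1 - (h w'' x1 / h w'' x2) • x2) with hx
  have hxW : x ∈ orth h D.C := Submodule.smul_mem _ _ (sub_mem hx1 (Submodule.smul_mem _ _ hx2))
  have hrx : h r x = 1 := by simp [hx, hrx2, inv_mul_cancel₀ hrx1]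
  have hwx : h w'' x = 0 := by simp [hx, hwx2]
  set t := x - h D.e x • D.e - h w x • w with ht
  have htW : t ∈ orth h D.C :=
    sub_mem (sub_mem hxW (Submodule.smul_mem _ _ D.he)) (Submodule.smul_mem _ _ hw.1.1.1)
  have hrt : h r t = 1 := by simp [ht, hrx, D.sw her, D.sw hwr]
  have het : h D.e t = 0 := by simp [ht, D.nee, hw.1.2]
  have hwt : h w t = 0 := by simp [ht, D.sw hw.1.2, hw.1.1.2]
  have hw''t : h w'' t = 0 := by simp [ht, hwx, D.sw hew'', D.sw hww'']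
  let Ds := orth h (D.C ∪ {D.e, w, w''})
  have hDs : ∀ u, u ∈ orth h D.C → h D.e u = 0 → h w u = 0 → h w'' u = 0 → u ∈ Ds := fun u a b c d => by
    rintro y (hy | rfl | rfl | rfl)
    exacts [a y hy, b, c, d]
  obtain ⟨f1, hf1D, hf1n, hrf1, -⟩ :=
    D.exists_level_iso Ds (hDs r hrW her hwr hr'') (hDs t htW het hwt hw''t) hrr hrt 1 one_ne_zero
  have hf1 : D.Unit₁ f1 := ⟨fun y hy => hf1D y (Or.inl hy), hf1n⟩
  have hef1 : h D.e f1 = 0 := hf1D _ (Or.inr (Or.inl rfl))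
  have hwf1 : h w f1 = 0 := hf1D _ (Or.inr (Or.inr (Or.inl rfl)))
  have hwf1' : h w' f1 = 0 := by
    have e : h w'' f1 = 0 := hf1D _ (Or.inr (Or.inr (Or.inr rfl)))
    simpa [hw'', hwf1] using e
  have hf1r : h f1 r = 1 := by rw [D.hh.swap r f1, hrf1, map_one]
  obtain ⟨c, hc, hf2⟩ := D.exists_normalise (x := r - f1) (sub_mem hrW hf1.1) (by simp [hrr, hrf1, hf1r, hf1n])
  set f2 := c • (r - f1) with hf2'
  have hf12 : h f1 f2 = 0 := by simp [hf2', hf1r, hf1n]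
  have hef2 : h D.e f2 = 0 := by simp [hf2', her, hef1]
  have hwf2 : h w f2 = 0 := by simp [hf2', hwr, hwf1]
  have hwf2' : h w' f2 = 0 := by simp [hf2', hwr', hwf1']
  -- move the frame to `e1`, `e2`
  obtain ⟨d, hd, hd1, hd2, -⟩ :=
    D.exists_unit_perp (Or.inr D.unit_e) (Or.inr D.unit_e1) D.unit₀_zero D.oe1 (by simp) (by simp)
  obtain ⟨k1, hk1, hk1f⟩ := D.exists_move_unit {D.e} (by simp [D.he]) hf1 D.unit_e1 hd (by simp [hef1])
    (by simp [D.oe1]) (by simp [hd1]) (D.sw hd2)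
  obtain ⟨hk1C, hk1e⟩ := D.mem_fix_one.1 hk1
  obtain ⟨d', hd', hd1', hd2', hd3'⟩ :=
    D.exists_unit_perp (Or.inr D.unit_e) (Or.inr D.unit_e1) (Or.inr X.h2) D.oe1 X.oe2 X.o12
  obtain ⟨k2, hk2, hk2f⟩ := D.exists_move_unit {D.e, D.e1} (by rintro y (rfl | rfl); exacts [D.he, D.he1])
    (D.smul_unit hk1C hf2) X.h2 hd'
    (by rintro y (rfl | rfl)
        · rw [← hk1e, su_form]; exact hef2
        · rw [← hk1f, su_form]; exact hf12)
    (by rintro y (rfl | rfl); exacts [X.oe2, X.o12]) (by rintro y (rfl | rfl); exacts [hd1', hd2']) (D.sw hd3')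
  obtain ⟨hk2C, hk2e, hk2e1⟩ := D.mem_fix_two.1 hk2
  set k := k2 * k1
  have hk : k ∈ fix h (D.C ∪ {D.e}) := mul_mem (D.mem_fix_one.2 ⟨hk2C, hk2e⟩) hk1
  obtain ⟨hkC, hke⟩ := D.mem_fix_one.1 hk
  have hkf1 : k • f1 = D.e1 := by rw [mul_smul, hk1f, hk2e1]
  have hkf2 : k • f2 = e2 := by rw [mul_smul, hk2f]
  have hkv : k • v = a • D.e + (D.e1 + c⁻¹ • e2) := by
    rw [show v = a • D.e + (f1 + c⁻¹ • f2) by
        rw [hf2', smul_smul, inv_mul_cancel₀ hc, one_smul, hdec]; abel,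
      su_add, su_add, su_scal, su_scal, hke, hkf1, hkf2]
  obtain ⟨g, hg, hge⟩ := D.exists_move_unit {x | x ∈ orth h D.C ∧ h D.e x = 0 ∧ h D.e1 x = 0 ∧ h e2 x = 0}
    (fun x hx => hx.1) (D.smul_unit hkC hv) D.unit_e D.unit_e1
    (fun x hx => by rw [hkv]; simp [D.sw hx.2.1, D.sw hx.2.2.1, D.sw hx.2.2.2])
    (fun x hx => D.sw hx.2.1) (fun x hx => D.sw hx.2.2.1) (D.sw D.oe1)
  have hgC : D.FixC g := fun y hy => hg y (Or.inl hy)
  have key : ∀ u, D.W0 v u → h u f1 = 0 → h u f2 = 0 →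
      ((D.L g, g) : H × SUH h) • D.liftR k • D.val u v = QuotientGroup.mk 1 := by
    intro u hu hu1 hu2
    rw [D.val_R hk hv hu]
    have hku := D.W0_smul hk hu
    have h1 : h D.e1 (k • u) = 0 := by rw [← hkf1, su_form]; exact D.sw hu1
    have h2 : h e2 (k • u) = 0 := by rw [← hkf2, su_form]; exact D.sw hu2
    have hgp : g • (k • u) = k • u := hg _ (Or.inr ⟨hku.1.1.1, hku.1.2, h1, h2⟩)
    rw [← X.Lw_three hku.1 h1 h2 hg]
    refine (D.val_W (D.mem_fix_one.2 ⟨hgC, hgp⟩) (D.smul_unit hkC hv) hku).trans ?_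
    have h0 : D.W0 (g • k • v) (k • u) := ⟨hku.1, by rw [← hgp, su_form]; exact hku.2⟩
    rw [hge] at h0 ⊢
    exact D.val_e h0
  have e1 := (key w hw hwf1 hwf2).trans (key w' hw' hwf1' hwf2').symm
  exact MulAction.injective _ (MulAction.injective _ e1)

theorem Extra.exists_W0' {v : V} (hv : D.Unit₁ v) : ∃ w, D.W0 v w := by
  set r := v - h D.e v • D.e with hr
  obtain ⟨u, hu, h1, h2⟩ := D.exists_unit_iso_perp (Or.inr D.unit_e)
    (sub_mem hv.1 (Submodule.smul_mem _ _ D.he) : r ∈ orth h D.C) (by simp [hr, D.nee])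
  refine ⟨u, ⟨hu, h1⟩, ?_⟩
  rw [show v = h D.e v • D.e + r by rw [hr]; abel]
  simp [D.sw h1, (D.sw h2 : h u r = 0)]

theorem Extra.conn5 : D.Conn := ⟨fun hv => X.exists_W0' hv, fun hv hw hw' => X.val_conn5 hv hw hw'⟩

theorem Extra.fixPerp_good5 {g : SUH h} (hg : g ∈ fixPerp h D.C D.e D.e1) :
    ((D.L g, g) : H × SUH h) ∈ D.Good := by
  refine ⟨fun c hc => hg c (Or.inl hc), fun v hv => ?_⟩
  set s := v - h D.e v • D.e - h D.e1 v • D.e1 with hs
  obtain ⟨p, hp, hep, h1p, hsp⟩ := X.exists_unit_perp_vec (Or.inr D.unit_e) (Or.inr D.unit_e1) D.oe1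
    (sub_mem (sub_mem hv.1 (Submodule.smul_mem _ _ D.he)) (Submodule.smul_mem _ _ D.he1) : s ∈ orth h D.C)
    (by simp [hs, D.nee, D.oe1]) (by simp [hs, D.ne11, D.sw D.oe1])
  refine D.fixPerp_good_of X.conn5 hg hv (p := p) ⟨⟨hp, hep⟩, ?_⟩ h1p
  rw [show v = h D.e v • D.e + h D.e1 v • D.e1 + s by rw [hs]; abel]
  simp [D.sw hep, D.sw h1p, (D.sw hsp : h p s = 0)]

/-- The step in dimension at least five. -/
theorem Extra.exists_ext5 :
    ∃ Φ : SUH h → H, (∀ a ∈ fix h D.C, ∀ b ∈ fix h D.C, Φ (a * b) = Φ a * Φ b) ∧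
      (∀ g ∈ fix h (D.C ∪ {D.e}), Φ g = D.R g) ∧ ∀ g ∈ fix h (D.C ∪ {D.z}), Φ g = D.L g :=
  D.exists_ext_of X.conn5 (fun _ hg => X.fixPerp_good5 hg)
    (fun T hK hP => D.gen_of (Or.inr D.unit_z) D.oez D.o1z
      (fun s hs h1 h2 => X.exists_unit_perp_vec (Or.inr D.unit_e) (Or.inr D.unit_z) D.oez hs h1 h2) T hK hP)
    D.gen_all'

end Data

end Cfsg.Agent.PhanAmalgam
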