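/-
Area PhanAmalgam: the data of the step on an interval of coordinates.
-/
import Cfsg.Agent.Lib.PhanAmalgam.Driver
import Cfsg.Agent.Lib.PhanAmalgam.Five

set_option autoImplicit false

open scoped Matrix

namespace Cfsg.Agent.PhanAmalgam

open Cfsg.Agent.ClassicalSimple

variable {F : Type*} [Field F] [Fintype F] {q : ℕ} (hF : Fintype.card F = q ^ 2)
variable {G : Type*} [Group G] {N : ℕ}

omit [Fintype F] in
theorem in_interval {a m : ℕ} {j : Fin N} (h : ¬ ((j : ℕ) < a ∨ a + m ≤ (j : ℕ))) : a ≤ (j : ℕ) ∧ (j : ℕ) < a + m := by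
  omega

theorem mem_orth_outside {a m : ℕ} {j : Fin N} (h1 : a ≤ (j : ℕ)) (h2 : (j : ℕ) < a + m) :
    (E j : Fin N → F) ∈ orth (Forms.hermB hF N) (outside F N a m) := by
  rintro _ ⟨i, hi, rfl⟩
  rw [hE_E, if_neg]
  rintro rfl
  simp only [Set.mem_setOf_eq] at hi
  omega

theorem fix_ins_one {a m : ℕ} (j : Fin N) (a' m' : ℕ)
    (hij : ∀ i : Fin N, ((i : ℕ) < a' ∨ a' + m' ≤ (i : ℕ)) ↔ ((i : ℕ) < a ∨ a + m ≤ (i : ℕ) ∨ i = j)) :
    fix (Forms.hermB hF N) (outside F N a m ∪ {(E j : Fin N → F)}) = blk hF N a' m' := by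
  ext g
  rw [mem_blk]
  refine ⟨fun hg i hi => ?_, fun hg => ?_⟩
  · rcases (hij i).1 hi with h1 | h1 | rfl
    exacts [hg _ (Or.inl ⟨i, Or.inl h1, rfl⟩), hg _ (Or.inl ⟨i, Or.inr h1, rfl⟩), hg _ (Or.inr rfl)]
  · rintro x (⟨i, hi, rfl⟩ | rfl)
    · exact hg i ((hij i).2 (hi.elim Or.inl fun h1 => Or.inr (Or.inl h1)))
    · exact hg j ((hij j).2 (Or.inr (Or.inr rfl)))

theorem fix_ins_two {a m : ℕ} (j j' : Fin N) (a' m' : ℕ)
    (hij : ∀ i : Fin N, ((i : ℕ) < a' ∨ a' + m' ≤ (i : ℕ)) →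
      ((i : ℕ) < a ∨ a + m ≤ (i : ℕ) ∨ i = j ∨ i = j')) :
    fix (Forms.hermB hF N) (outside F N a m ∪ {(E j : Fin N → F), E j'}) ≤ blk hF N a' m' := by
  intro g hg
  rw [mem_blk]
  intro i hi
  rcases hij i hi with h1 | h1 | rfl | rfl
  exacts [hg _ (Or.inl ⟨i, Or.inl h1, rfl⟩), hg _ (Or.inl ⟨i, Or.inr h1, rfl⟩), hg _ (Or.inr (Or.inl rfl)),
    hg _ (Or.inr (Or.inr rfl))]

theorem fix_ins_three {a m : ℕ} (j j' j'' : Fin N) (a' m' : ℕ)
    (hij : ∀ i : Fin N, ((i : ℕ) < a' ∨ a' + m' ≤ (i : ℕ)) →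
      ((i : ℕ) < a ∨ a + m ≤ (i : ℕ) ∨ i = j ∨ i = j' ∨ i = j'')) :
    fix (Forms.hermB hF N) (outside F N a m ∪ {(E j : Fin N → F), E j', E j''}) ≤ blk hF N a' m' := by
  intro g hg
  rw [mem_blk]
  intro i hi
  rcases hij i hi with h1 | h1 | rfl | rfl | rfl
  exacts [hg _ (Or.inl ⟨i, Or.inl h1, rfl⟩), hg _ (Or.inl ⟨i, Or.inr h1, rfl⟩), hg _ (Or.inr (Or.inl rfl)),
    hg _ (Or.inr (Or.inr (Or.inl rfl))), hg _ (Or.inr (Or.inr (Or.inr rfl)))]

theorem perp_le {a m : ℕ} (j j' : Fin N) (a' : ℕ)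
    (hij : ∀ i : Fin N, ((i : ℕ) < a' ∨ a' + 2 ≤ (i : ℕ)) → i ≠ j ∧ i ≠ j') :
    fixPerp (Forms.hermB hF N) (outside F N a m) (E j) (E j') ≤ blk hF N a' 2 := by
  intro g hg
  rw [mem_blk]
  intro i hi
  obtain ⟨h1, h2⟩ := hij i hi
  by_cases hio : (i : ℕ) < a ∨ a + m ≤ (i : ℕ)
  · exact hg _ (Or.inl ⟨i, hio, rfl⟩)
  · obtain ⟨h3, h4⟩ := in_interval hio
    exact hg _ (Or.inr ⟨mem_orth_outside hF h3 h4, by rw [hE_E, if_neg h1.symm], by rw [hE_E, if_neg h2.symm]⟩)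

theorem perp3_le {a m : ℕ} (j j' j'' : Fin N) (a' : ℕ)
    (hij : ∀ i : Fin N, ((i : ℕ) < a' ∨ a' + 3 ≤ (i : ℕ)) → i ≠ j ∧ i ≠ j' ∧ i ≠ j'') :
    Data.fixPerp3 (Forms.hermB hF N) (outside F N a m) (E j) (E j') (E j'') ≤ blk hF N a' 3 := by
  intro g hg
  rw [mem_blk]
  intro i hi
  obtain ⟨h1, h2, h3⟩ := hij i hi
  by_cases hio : (i : ℕ) < a ∨ a + m ≤ (i : ℕ)
  · exact hg _ (Or.inl ⟨i, hio, rfl⟩)
  · obtain ⟨h4, h5⟩ := in_interval hio
    exact hg _ (Or.inr ⟨mem_orth_outside hF h4 h5, by rw [hE_E, if_neg h1.symm], by rw [hE_E, if_neg h2.symm],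
      by rw [hE_E, if_neg h3.symm]⟩)

/-- The data of the step on the interval of length `k + 1` at `a`. -/
noncomputable def blockData {a k : ℕ} (hk : 3 ≤ k) (ha : a + (k + 1) ≤ N)
    (ΦL ΦR : SUH (Forms.hermB hF N) → G)
    (hL : ∀ x ∈ blk hF N a k, ∀ y ∈ blk hF N a k, ΦL (x * y) = ΦL x * ΦL y)
    (hR : ∀ x ∈ blk hF N (a + 1) k, ∀ y ∈ blk hF N (a + 1) k, ΦR (x * y) = ΦR x * ΦR y)
    (hag : ∀ g ∈ blk hF N (a + 1) (k - 1), ΦR g = ΦL g)
    (hc1 : ∀ g ∈ blk hF N a 2, ∀ g' ∈ blk hF N (a + 2) (k - 1), Commute (ΦL g) (ΦR g'))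
    (hc2 : ∀ g ∈ blk hF N (a + k - 1) 2, ∀ g' ∈ blk hF N a (k - 1), Commute (ΦR g) (ΦL g')) :
    Data (Forms.hermB hF N) G where
  hh := hermB_isUnitary hF
  C := outside F N a (k + 1)
  e := E ⟨a, by omega⟩
  e1 := E ⟨a + 1, by omega⟩
  y := E ⟨a + k - 1, by omega⟩
  z := E ⟨a + k, by omega⟩
  he := mem_orth_outside hF (by simp) (by simp)
  he1 := mem_orth_outside hF (by simp) (by simp; omega)
  hy := mem_orth_outside hF (by simp; omega) (by simp; omega)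
  hz := mem_orth_outside hF (by simp) (by simp)
  nee := by rw [hE_E, if_pos rfl]
  ne11 := by rw [hE_E, if_pos rfl]
  nyy := by rw [hE_E, if_pos rfl]
  nzz := by rw [hE_E, if_pos rfl]
  oe1 := by rw [hE_E, if_neg (by simp [Fin.ext_iff])]
  oey := by rw [hE_E, if_neg (by simp [Fin.ext_iff]; omega)]
  oez := by rw [hE_E, if_neg (by simp [Fin.ext_iff]; omega)]
  o1y := by rw [hE_E, if_neg (by simp [Fin.ext_iff]; omega)]
  o1z := by rw [hE_E, if_neg (by simp [Fin.ext_iff]; omega)]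
  oyz := by rw [hE_E, if_neg (by simp [Fin.ext_iff]; omega)]
  nd v hv hv0 := by
    obtain ⟨i, hi⟩ := Function.ne_iff.1 hv0
    have h1 : ¬ ((i : ℕ) < a ∨ a + (k + 1) ≤ (i : ℕ)) := fun hio => hi (by
      have e := hv _ ⟨i, hio, rfl⟩
      rwa [hE_left] at e)
    obtain ⟨h2, h3⟩ := in_interval h1
    refine ⟨E i, mem_orth_outside hF h2 h3, fun e => hi ?_⟩
    have e' := (hermB_isUnitary hF).comm_zero e
    rwa [hE_left] at e'
  span g hgC hgW := by
    refine su_ext fun v => ?_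
    have hall : ∀ i : Fin N, g • (E i : Fin N → F) = E i := fun i => by
      by_cases hio : (i : ℕ) < a ∨ a + (k + 1) ≤ (i : ℕ)
      · exact hgC _ ⟨i, hio, rfl⟩
      · obtain ⟨h2, h3⟩ := in_interval hio
        exact hgW _ (mem_orth_outside hF h2 h3)
    funext i
    rw [one_smul, ← hE_left hF i (g • v), ← hall i, su_form, hE_left]
  R := ΦR
  L := ΦL
  R_mul := by
    rw [fix_ins_one hF _ (a + 1) k fun i => by simp only [Fin.ext_iff]; omega]
    exact hR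
  L_mul := by
    rw [fix_ins_one hF _ a k fun i => by simp only [Fin.ext_iff]; omega]
    exact hL
  agree g hg := hag g (fix_ins_two hF _ _ (a + 1) (k - 1) (fun i hi => by simp only [Fin.ext_iff]; omega) hg)
  comm1 g hg g' hg' := hc1 g (perp_le hF _ _ a (fun i hi => by simp only [ne_eq, Fin.ext_iff]; omega) hg) g'
    (fix_ins_two hF _ _ (a + 2) (k - 1) (fun i hi => by simp only [Fin.ext_iff]; omega) hg')
  comm2 g hg g' hg' :=
    hc2 g (perp_le hF _ _ (a + k - 1) (fun i hi => by simp only [ne_eq, Fin.ext_iff]; omega) hg) g'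
      (fix_ins_two hF _ _ a (k - 1) (fun i hi => by simp only [Fin.ext_iff]; omega) hg')

include hF in
/-- In dimension at least four the maps on an interval are determined by the three-dimensional blocks. -/
theorem rigid_succ {a k : ℕ} (hk : 3 ≤ k) (ha : a + (k + 1) ≤ N) (hrig : Rigid hF G N (a + 1) k) :
    Rigid hF G N a (k + 1) := by
  intro Φ Φ' hΦ hΦ' hagree g hg
  let D := blockData (G := G) hF hk ha (fun _ => 1) (fun _ => 1) (by simp) (by simp) (by simp) (by simp) (by simp)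
  refine D.ext_unique_of Φ Φ' hΦ hΦ' D.gen_all' (fun u hu => ?_) (fun u hu => ?_) g hg
  · exact hrig Φ Φ'
      (fun x hx y hy => hΦ x (blk_mono hF (by omega) (by omega) hx) y (blk_mono hF (by omega) (by omega) hy))
      (fun x hx y hy => hΦ' x (blk_mono hF (by omega) (by omega) hx) y (blk_mono hF (by omega) (by omega) hy))
      (fun i hi hi' x => hagree i (by omega) (by omega) x) u
      ((fix_ins_one hF _ (a + 1) k fun i => by simp only [Fin.ext_iff]; omega).le hu)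
  · obtain ⟨x, rfl⟩ := exists_embAt hF (m := 3) (i := a) (by omega)
      (blk_mono hF le_rfl (by omega)
        (perp_le hF (⟨a, by omega⟩ : Fin N) ⟨a + 1, by omega⟩ a
          (fun i hi => by simp only [ne_eq, Fin.ext_iff]; omega) hu))
    exact hagree a le_rfl (by omega) x

theorem rigid_three {a : ℕ} (ha : a + 3 ≤ N) : Rigid hF G N a 3 := fun Φ Φ' _ _ hagree g hg => by
  obtain ⟨x, rfl⟩ := exists_embAt hF ha hg
  exact hagree a le_rfl le_rfl x

theorem rigid_all : ∀ m a, 3 ≤ m → a + m ≤ N → Rigid hF G N a m := by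
  intro m
  induction m with
  | zero => intro a h3; omega
  | succ k ih =>
    intro a h3 ha
    by_cases hk : k = 2
    · subst hk; exact rigid_three hF ha
    · exact rigid_succ hF (by omega) ha (ih (a + 1) (by omega) (by omega))

end Cfsg.Agent.PhanAmalgam
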