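/-
Area PhanAmalgam: induction over intervals starting from the four-dimensional blocks, for every field.
-/
import Cfsg.Agent.Lib.PhanAmalgam.BlockData

set_option autoImplicit false

open scoped Matrix

namespace Cfsg.Agent.PhanAmalgam

open Cfsg.Agent.ClassicalSimple

variable {F : Type*} [Field F] [Fintype F] {q : ℕ} (hF : Fintype.card F = q ^ 2)
variable {G : Type*} [Group G] {N : ℕ}

/-- The additional commutation relations between the three-dimensional blocks. -/
structure Far (N : ℕ) (U : ℕ → Subgroup G) (P : ℕ → (Cfsg.SU 3 F q →* G)) : Prop where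
  UP : ∀ i j, j + 3 ≤ N → i + 2 ≤ N → (i + 2 ≤ j ∨ j + 3 ≤ i) → ∀ y ∈ U i, ∀ x, y * P j x = P j x * y
  PP : ∀ i j, j + 3 ≤ N → i + 3 ≤ j → ∀ w x, P i w * P j x = P j x * P i w

section

variable {hF}
variable {U : ℕ → Subgroup G} {P : ℕ → (Cfsg.SU 3 F q →* G)} (hC : Chain hF N U P) (hfar : Far N U P)

theorem commute_blk {a m : ℕ} (hm : a + m ≤ N) (h3 : 3 ≤ m) {a' m' : ℕ} (h1 : a' ≤ a) (h2 : a + m ≤ a' + m')
    {Φ : SUH (Forms.hermB hF N) → G} (hΦ : IsExt hF N P a' m' Φ) {y : G}
    (hy : ∀ i, a ≤ i → i + 3 ≤ a + m → ∀ x, y * P i x = P i x * y) :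
    ∀ g ∈ blk hF N a m, y * Φ g = Φ g * y := by
  intro g hg
  have hle := blk_mono hF (N := N) h1 h2
  have e := rigid_all hF m a h3 hm (fun g => y * Φ g * y⁻¹) Φ
    (fun u hu v hv => by rw [hΦ.1 u (hle hu) v (hle hv)]; group)
    (fun u hu v hv => hΦ.1 u (hle hu) v (hle hv))
    (fun i hi hi' x => by rw [hΦ.2 i (by omega) (by omega), hy i hi hi' x, mul_inv_cancel_right]) g hg
  conv_rhs => rw [← e]
  rw [inv_mul_cancel_right]

include hC hfar in
theorem exists_ext_small (hbase : ∀ a, a + 4 ≤ N → ∃ Φ, IsExt hF N P a 4 Φ) :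
    ∀ m, 4 ≤ m → ∀ a, a + m ≤ N → ∃ Φ, IsExt hF N P a m Φ := by
  intro m
  induction m with
  | zero => intro h; omega
  | succ k ih =>
    intro h4 a ha
    by_cases hk3 : k = 3
    · subst hk3; exact hbase a ha
    have hk : 4 ≤ k := by omega
    obtain ⟨ΦL, hL⟩ := ih hk a (by omega)
    obtain ⟨ΦR, hR⟩ := ih hk (a + 1) (by omega)
    let D := blockData hF (by omega : 3 ≤ k) ha ΦL ΦR hL.1 hR.1
      (fun g hg => by
        refine rigid_all hF (k - 1) (a + 1) (by omega) (by omega) ΦR ΦL
          (fun u hu v hv => hR.1 u (blk_mono hF le_rfl (by omega) hu) v (blk_mono hF le_rfl (by omega) hv))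
          (fun u hu v hv => hL.1 u (blk_mono hF (by omega) (by omega) hu) v
            (blk_mono hF (by omega) (by omega) hv))
          (fun i hi hi' x => by rw [hR.2 i hi (by omega), hL.2 i (by omega) (by omega)]) g hg)
      (fun g hg g' hg' => by
        obtain ⟨x, rfl⟩ := exists_embAt hF (m := 2) (i := a) (by omega) hg
        rw [← embAt_e01 hF (i := a) (by omega), hL.2 a le_rfl (by omega)]
        exact commute_blk (by omega) (by omega) (by omega) (by omega) hR
          (fun i hi hi' w => hfar.UP a i (by omega) (by omega) (Or.inl (by omega)) _ (hC.r01 a (by omega) x) w) g' hg')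
      (fun g hg g' hg' => by
        obtain ⟨x, rfl⟩ := exists_embAt hF (m := 2) (i := a + k - 1) (by omega) hg
        obtain ⟨j, hj⟩ : ∃ j, a + k - 1 = j + 1 := ⟨a + k - 2, by omega⟩
        rw [hj, ← embAt_e12 hF (i := j) (by omega), hR.2 j (by omega) (by omega)]
        exact commute_blk (by omega) (by omega) (by omega) (by omega) hL
          (fun i hi hi' w =>
            hfar.UP (j + 1) i (by omega) (by omega) (Or.inr (by omega)) _ (hC.r12 j (by omega) x) w) g' hg')
    have X : D.Extra (E ⟨a + 2, by omega⟩ : Fin N → F) := by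
      refine ⟨⟨mem_orth_outside hF (by simp) (by simp; omega), by rw [hE_E, if_pos rfl]⟩, ?_, ?_, ?_, ?_, ?_⟩
      · show Forms.hermB hF N (E ⟨a, by omega⟩) (E ⟨a + 2, by omega⟩) = 0
        rw [hE_E, if_neg (by simp [Fin.ext_iff])]
      · show Forms.hermB hF N (E ⟨a + 1, by omega⟩) (E ⟨a + 2, by omega⟩) = 0
        rw [hE_E, if_neg (by simp [Fin.ext_iff])]
      · show Forms.hermB hF N (E ⟨a + 2, by omega⟩) (E ⟨a + k, by omega⟩) = 0
        rw [hE_E, if_neg (by simp [Fin.ext_iff]; omega)]
      · intro p1 p2 p3 p4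
        have hf := off_injective (N := N) (m := 5) a (by omega)
        let comb : (Fin 5 → F) →ₗ[F] (Fin N → F) := Function.ExtendByZero.linearMap F (off a (by omega))
        let Φ : (Fin 5 → F) →ₗ[F] (Fin 4 → F) :=
          LinearMap.pi fun i => (Forms.hermB hF N (![p1, p2, p3, p4] i)).comp comb
        have hni : ¬ Function.Injective Φ := fun hi => by
          have := LinearMap.finrank_le_finrank_of_injective hi
          simp at this
        rw [injective_iff_map_eq_zero] at hni
        push Not at hni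
        obtain ⟨c, hc, hc0⟩ := hni
        refine ⟨comb c, ?_, fun h0 => hc0 ?_, by simpa [Φ] using congrFun hc 0, by simpa [Φ] using congrFun hc 1,
          by simpa [Φ] using congrFun hc 2, by simpa [Φ] using congrFun hc 3⟩
        · rintro _ ⟨i, hi, rfl⟩
          rw [hE_left]
          refine Function.extend_apply' c (0 : Fin N → F) i ?_
          rintro ⟨l, rfl⟩
          simp only [Set.mem_setOf_eq, off] at hi
          omega
        · funext l
          have e := congrFun h0 (off a (by omega) l)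
          rwa [show comb c (off a _ l) = c l from hf.extend_apply c (0 : Fin N → F) l] at e
      · intro g hg g' hg'
        obtain ⟨x, rfl⟩ := exists_embAt hF (m := 3) (i := a) (by omega)
          (perp3_le hF _ _ _ a (fun i hi => by simp only [ne_eq, Fin.ext_iff]; omega) hg)
        have hg'' := fix_ins_three hF (⟨a, by omega⟩ : Fin N) ⟨a + 1, by omega⟩ ⟨a + 2, by omega⟩ (a + 3) (k - 2)
          (fun i hi => by simp only [Fin.ext_iff]; omega) hg'
        show ΦL (embAt hF N 3 a x) * ΦR g' = ΦR g' * ΦL (embAt hF N 3 a x)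
        rw [hL.2 a le_rfl (by omega)]
        by_cases hk4 : k = 4
        · subst hk4
          obtain ⟨w, rfl⟩ := exists_embAt hF (m := 2) (i := a + 2 + 1) (by omega) hg''
          rw [← embAt_e12 hF (i := a + 2) (by omega), hR.2 (a + 2) (by omega) (by omega)]
          exact (hfar.UP (a + 2 + 1) a (by omega) (by omega) (Or.inr (by omega)) _
            (hC.r12 (a + 2) (by omega) w) x).symm
        · exact commute_blk (by omega) (by omega) (by omega) (by omega) hR
            (fun i hi hi' w => hfar.PP a i (by omega) (by omega) x w) g' hg''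
    obtain ⟨Φ, h1, h2, h3⟩ := X.exists_ext5
    refine ⟨Φ, fun x hx y hy => h1 x hx y hy, fun i hi hi' x => ?_⟩
    by_cases hia : i = a
    · subst hia
      rw [h3 _ ((fix_ins_one hF _ i k fun j => by simp only [Fin.ext_iff]; omega).ge
        (blk_mono hF le_rfl (by omega) (embAt_mem hF (by omega) x)))]
      exact hL.2 i le_rfl (by omega) x
    · rw [h2 _ ((fix_ins_one hF _ (a + 1) k fun j => by simp only [Fin.ext_iff]; omega).ge
        (blk_mono hF (by omega) (by omega) (embAt_mem hF (by omega) x)))]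
      exact hR.2 i (by omega) (by omega) x

end

include hF in
/-- Recognition from a chain with four-dimensional blocks. -/
theorem exists_hom_small (hN : 4 ≤ N) {U : ℕ → Subgroup G} {P : ℕ → (Cfsg.SU 3 F q →* G)}
    (hC : Chain hF N U P) (hfar : Far N U P) (hbase : ∀ a, a + 4 ≤ N → ∃ Φ, IsExt hF N P a 4 Φ) :
    ∃ f : Cfsg.SU N F q →* G, ∀ i, i + 3 ≤ N → (P i).range ≤ f.range := by
  obtain ⟨Φ, hΦ⟩ := exists_ext_small hC hfar hbase N hN 0 (by omega)
  have hall : ∀ g, g ∈ blk hF N 0 N := fun g => (mem_blk hF).2 fun j hj => by omega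
  let f : Cfsg.SU N F q →* G :=
    MonoidHom.mk' (fun x => Φ (suEquiv hF x)) fun a b => by rw [map_mul]; exact hΦ.1 _ (hall _) _ (hall _)
  refine ⟨f, fun i hi => ?_⟩
  rintro _ ⟨x, rfl⟩
  refine ⟨(suEquiv hF (n := N)).symm (embAt hF N 3 i x), ?_⟩
  show Φ (suEquiv hF ((suEquiv hF (n := N)).symm (embAt hF N 3 i x))) = P i x
  rw [MulEquiv.apply_symm_apply]
  exact hΦ.2 i (by omega) (by omega) x

end Cfsg.Agent.PhanAmalgam
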