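/-
Area PhanAmalgam: the four-dimensional base over the field with nine elements.
-/
import Cfsg.Agent.Lib.PhanAmalgam.Base

set_option autoImplicit false

open scoped Matrix

namespace Cfsg.Agent.PhanAmalgam

open Cfsg.Agent.ClassicalSimple

variable {F : Type*} [Field F] [Fintype F] (hF : Fintype.card F = 3 ^ 2)

include hF in
theorem charP_three : CharP F 3 := by
  obtain ⟨p, k, hp, hpF, hk⟩ := Forms.exists_prime_pow_q hF
  rcases k with _ | k
  · simp at hk
  have : p = 3 := (Nat.prime_dvd_prime_iff_eq hp Nat.prime_three).1 (hk ▸ dvd_pow_self p (Nat.succ_ne_zero k))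
  exact this ▸ hpF

include hF in
theorem three_eq_zero : (3 : F) = 0 := by
  haveI := charP_three hF
  exact CharP.cast_eq_zero F 3

include hF in
theorem two_ne_zero_three : (2 : F) ≠ 0 := fun h => one_ne_zero (α := F) (by linear_combination three_eq_zero hF - h)

theorem fix_prime_three (τ : F ≃+* F) (x : F) (hx : Forms.qEnd hF x = x) : τ x = x := by
  rw [Forms.qEnd_apply] at hx
  have h : x * ((x - 1) * (x + 1)) = 0 := by linear_combination hx
  rcases mul_eq_zero.1 h with h | h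
  · rw [h, map_zero]
  rcases mul_eq_zero.1 h with h | h
  · rw [sub_eq_zero.1 h, map_one]
  · rw [eq_neg_of_add_eq_zero_left h, map_neg, map_one]

include hF in
theorem su2_cube_gen : Subgroup.closure {x : Cfsg.SU 2 F 3 | x ^ 3 = 1} = ⊤ := by
  obtain ⟨K, iK, iK', hK, ⟨e⟩⟩ := exists_sl2 hF
  haveI : Fact (Nat.Prime 3) := ⟨Nat.prime_three⟩
  haveI : CharP K 3 := charP_of_card_eq_prime_pow (f := 1) (by rw [hK, pow_one])
  rw [eq_top_iff]
  intro x _
  rw [← e.symm_apply_apply x]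
  refine GL.SL_induction (fun s => e.symm s ∈ Subgroup.closure {x : Cfsg.SU 2 F 3 | x ^ 3 = 1})
    (by rw [map_one]; exact one_mem _) (fun i j hij c => Subgroup.subset_closure ?_)
    (fun a b ha hb => by rw [map_mul]; exact mul_mem ha hb) (e x)
  show e.symm _ ^ 3 = 1
  rw [← map_pow, pow_succ, pow_two, MulEquiv.map_eq_one_iff]
  refine Subtype.ext ?_
  rw [Matrix.SpecialLinearGroup.coe_mul, Matrix.SpecialLinearGroup.coe_mul]
  show Matrix.transvection i j c * Matrix.transvection i j c * Matrix.transvection i j c = 1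
  rw [Matrix.transvection_mul_transvection_same _ _ hij, Matrix.transvection_mul_transvection_same _ _ hij,
    show c + c + c = (3 : K) * c by ring, show (3 : K) = 0 from CharP.cast_eq_zero K 3, zero_mul,
    Matrix.transvection_zero]

include hF in
theorem su2_map_le {G : Type*} [Group G] {ψ : Cfsg.SU 2 F 3 →* G} {M : Subgroup G}
    (h : ∀ a, a ^ 3 = 1 → ψ a ∈ M) : ψ.range ≤ M := by
  rintro _ ⟨x, rfl⟩
  have hle : Subgroup.closure {a : Cfsg.SU 2 F 3 | a ^ 3 = 1} ≤ M.comap ψ := (Subgroup.closure_le _).2 h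
  rw [su2_cube_gen hF] at hle
  exact hle (Subgroup.mem_top x)

include hF in
/-- An element of cube one commuting with two non-commuting elements of `SU₂` is trivial. -/
theorem su2_cube_centralise {a b c : Cfsg.SU 2 F 3} (hab : a * b ≠ b * a) (hc : c ^ 3 = 1) (ha : c * a = a * c)
    (hb : c * b = b * c) : c = 1 := by
  have ent : ∀ {u v : Cfsg.SU 2 F 3}, u * v = v * u →
      u.1.1 0 1 * v.1.1 1 0 = v.1.1 0 1 * u.1.1 1 0 ∧
      v.1.1 0 1 * (u.1.1 0 0 - u.1.1 1 1) = u.1.1 0 1 * (v.1.1 0 0 - v.1.1 1 1) ∧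
      v.1.1 1 0 * (u.1.1 0 0 - u.1.1 1 1) = u.1.1 1 0 * (v.1.1 0 0 - v.1.1 1 1) := by
    intro u v e
    have h : ∀ i j, (u.1.1 * v.1.1) i j = (v.1.1 * u.1.1) i j := fun i j =>
      congrArg (fun x : Cfsg.SU 2 F 3 => x.1.1 i j) e
    have h00 := h 0 0
    have h01 := h 0 1
    have h10 := h 1 0
    simp only [Matrix.mul_apply, Fin.sum_univ_two] at h00 h01 h10
    exact ⟨by linear_combination h00, by linear_combination h01, by linear_combination -h10⟩
  obtain ⟨a1, a2, a3⟩ := ent ha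
  obtain ⟨b1, b2, b3⟩ := ent hb
  set xc := c.1.1 0 0 - c.1.1 1 1
  set yc := c.1.1 0 1
  set zc := c.1.1 1 0
  set xa := a.1.1 0 0 - a.1.1 1 1 with hxa
  set xb := b.1.1 0 0 - b.1.1 1 1 with hxb
  by_contra hc1
  refine hab ?_
  -- the three determinants vanish once `c` is not scalar
  have key : a.1.1 0 1 * b.1.1 1 0 = b.1.1 0 1 * a.1.1 1 0 ∧
      b.1.1 0 1 * xa = a.1.1 0 1 * xb ∧ b.1.1 1 0 * xa = a.1.1 1 0 * xb := by
    by_cases hy : yc = 0
    · by_cases hx : xc = 0
      · by_cases hz : zc = 0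
        · refine absurd (su2_ext hF ?_ hy) hc1
          have hd := c.1.2
          rw [Matrix.det_fin_two, ← sub_eq_zero.1 hx, show c.1.1 0 1 = 0 from hy, zero_mul, sub_zero] at hd
          have h3 : c.1.1 0 0 ^ 3 = 1 := by
            have e : (c ^ 3).1.1 0 0 = 1 := by rw [hc]; rfl
            simp only [pow_succ, pow_zero, one_mul, Subgroup.coe_mul, Matrix.SpecialLinearGroup.coe_mul,
              Matrix.mul_apply, Fin.sum_univ_two] at e
            rw [show c.1.1 0 1 = 0 from hy, show c.1.1 1 0 = 0 from hz] at e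
            linear_combination e
          show c.1.1 0 0 = 1
          linear_combination h3 - c.1.1 0 0 * hd
        · have ya : a.1.1 0 1 = 0 := by
            refine (mul_eq_zero.1 (show a.1.1 0 1 * zc = 0 from ?_)).resolve_right hz
            linear_combination -a1 + a.1.1 1 0 * hy
          have yb : b.1.1 0 1 = 0 := by
            refine (mul_eq_zero.1 (show b.1.1 0 1 * zc = 0 from ?_)).resolve_right hz
            linear_combination -b1 + b.1.1 1 0 * hy
          refine ⟨by rw [ya, yb]; ring, by rw [ya, yb]; ring, mul_left_cancel₀ hz ?_⟩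
          linear_combination -b.1.1 1 0 * a3 + a.1.1 1 0 * b3
      · have ya : a.1.1 0 1 = 0 := by
          refine (mul_eq_zero.1 (show a.1.1 0 1 * xc = 0 from ?_)).resolve_right hx
          linear_combination a2 + xa * hy
        have yb : b.1.1 0 1 = 0 := by
          refine (mul_eq_zero.1 (show b.1.1 0 1 * xc = 0 from ?_)).resolve_right hx
          linear_combination b2 + xb * hy
        refine ⟨by rw [ya, yb]; ring, by rw [ya, yb]; ring, mul_left_cancel₀ hx ?_⟩
        linear_combination xa * b3 - xb * a3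
    · have k1 : a.1.1 0 1 * b.1.1 1 0 = b.1.1 0 1 * a.1.1 1 0 :=
        mul_left_cancel₀ hy (by linear_combination a.1.1 0 1 * b1 - b.1.1 0 1 * a1)
      refine ⟨k1, mul_left_cancel₀ hy ?_, mul_left_cancel₀ hy ?_⟩
      · linear_combination a.1.1 0 1 * b2 - b.1.1 0 1 * a2
      · linear_combination a.1.1 1 0 * b2 - b.1.1 1 0 * a2 + xc * k1
  obtain ⟨k1, k2, k3⟩ := key
  refine su2_ext hF ?_ ?_ <;> simp only [Subgroup.coe_mul, Matrix.SpecialLinearGroup.coe_mul, Matrix.mul_apply,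
    Fin.sum_univ_two]
  · linear_combination k1
  · linear_combination k2

include hF in
theorem exists_su2_noncomm : ∃ a b : Cfsg.SU 2 F 3, a ^ 3 = 1 ∧ b ^ 3 = 1 ∧ a * b ≠ b * a := by
  by_contra hc
  push Not at hc
  obtain ⟨t, ht0, ht⟩ := exists_torus hF
  have h1 : ∀ a : Cfsg.SU 2 F 3, a ^ 3 = 1 → ∀ y, a * y = y * a := fun a ha y => by
    have := su2_map_le hF (ψ := MonoidHom.id _) (M := Subgroup.centralizer {a}) (fun b hb => by
      rw [Subgroup.mem_centralizer_iff]; rintro _ rfl; exact hc _ b ha hb) ⟨y, rfl⟩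
    exact Subgroup.mem_centralizer_iff.1 this a rfl
  have h2 := su2_map_le hF (ψ := MonoidHom.id _) (M := Subgroup.centralizer {t}) (fun a ha => by
    rw [Subgroup.mem_centralizer_iff]; rintro _ rfl; exact (h1 a ha _).symm) ⟨wswap hF, rfl⟩
  have e := congrArg (fun x : Cfsg.SU 2 F 3 => x.1.1 0 1) (Subgroup.mem_centralizer_iff.1 h2 t rfl)
  obtain ⟨t1, -, -⟩ := su2_shape hF t
  simp only [Subgroup.coe_mul, Matrix.SpecialLinearGroup.coe_mul] at e
  simp [Matrix.mul_apply, Fin.sum_univ_two, wswap, mk2, ht0, t1] at e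
  exact ht e

/-- The shape of the chosen involution. -/
def IsD (g : SUH (Forms.hermB hF 4)) : Prop :=
  g • (E 0 : Fin 4 → F) = E 0 ∧ g • (E 1 : Fin 4 → F) = E 1 ∧ g • (E 2 : Fin 4 → F) = -E 2 ∧
    g • (E 3 : Fin 4 → F) = -E 3

variable {hF}

theorem coord_fix {g : SUH (Forms.hermB hF 4)} {i : Fin 4} (h : g • (E i : Fin 4 → F) = E i) (v : Fin 4 → F) :
    (g • v) i = v i := by
  rw [← hE_left hF i (g • v), ← h, su_form, hE_left]

theorem coord_neg {g : SUH (Forms.hermB hF 4)} {i : Fin 4} (h : g • (E i : Fin 4 → F) = -E i) (v : Fin 4 → F) :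
    (g • v) i = -v i := by
  have e := su_form g (E i : Fin 4 → F) v
  rw [h, map_neg, LinearMap.neg_apply, hE_left, hE_left] at e
  linear_combination -e

theorem eq_zero_of_neg {a : F} (hF : Fintype.card F = 3 ^ 2) (h : a = -a) : a = 0 := by
  have h2 : (2 : F) * a = 0 := by linear_combination h
  exact (mul_eq_zero.1 h2).resolve_left (two_ne_zero_three hF)

/-- An eigen unit of an involution in an invariant subspace. -/
theorem eigen_unit (W : Submodule F (Fin 4 → F)) {g : SUH (Forms.hermB hF 4)} (hg : ∀ v : Fin 4 → F, g • g • v = v)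
    (hW : ∀ v ∈ W, g • v ∈ W) {ε : F} (hε : ε = 1 ∨ ε = -1) {v y : Fin 4 → F} (hv : v ∈ W) (hgv : g • v = ε • v)
    (hy : y ∈ W) (hvy : Forms.hermB hF 4 v y ≠ 0) :
    ∃ u ∈ W, Forms.hermB hF 4 u u = 1 ∧ g • u = ε • u := by
  have hε2 : ε * ε = 1 := by rcases hε with rfl | rfl <;> ring
  have hσ : Forms.qEnd hF ε = ε := by rcases hε with rfl | rfl <;> simp
  let D : Submodule F (Fin 4 → F) :=
    { carrier := {w | w ∈ W ∧ g • w = ε • w}
      zero_mem' := ⟨W.zero_mem, (smul_zero g).trans (smul_zero ε).symm⟩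
      add_mem' := fun {a b} ha hb => ⟨W.add_mem ha.1 hb.1, by rw [su_add, ha.2, hb.2, smul_add]⟩
      smul_mem' := fun c w hw => ⟨W.smul_mem c hw.1, by rw [su_scal, hw.2, smul_comm]⟩ }
  have hy' : y + ε • (g • y) ∈ D := ⟨W.add_mem hy (W.smul_mem _ (hW y hy)), by
    rw [su_add, su_scal, hg, smul_add, smul_smul, hε2, one_smul, add_comm]⟩
  have e := su_form g v y
  rw [hgv, LinearMap.map_smulₛₗ, LinearMap.smul_apply, smul_eq_mul, hσ] at e
  have hne : Forms.hermB hF 4 v (y + ε • (g • y)) ≠ 0 := by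
    rw [map_add, map_smul, smul_eq_mul, e]
    intro h0
    exact hvy ((mul_eq_zero.1 (show (2 : F) * Forms.hermB hF 4 v y = 0 by linear_combination h0)).resolve_left
      (two_ne_zero_three hF))
  obtain ⟨u, ⟨hu, hgu⟩, huu⟩ := exists_unit_of_pair (hermB_isUnitary hF) D (x := v) ⟨hv, hgv⟩ hy' hne
  exact ⟨u, hu, huu, hgu⟩

theorem det_two_blocks {x : Cfsg.SU 4 F 3} {g : SUH (Forms.hermB hF 4)} (e : g = suEquiv hF x) (i j : Fin 4) :
    x.1.1 i j = (g • (E j : Fin 4 → F)) i := by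
  subst e
  rw [suEquiv_smul, mulVec_single_one]

/-- A diagonal element has product one. -/
theorem prod_diag {x : Cfsg.SU 4 F 3} {c : Fin 4 → F} (h : ∀ j, suEquiv hF x • (E j : Fin 4 → F) = c j • E j) :
    c 0 * c 1 * c 2 * c 3 = 1 := by
  have hM : x.1.1 = Matrix.diagonal c := by
    ext i j
    rw [det_two_blocks (hF := hF) rfl i j, h j, Matrix.diagonal_apply]
    by_cases hij : i = j <;> simp [hij]
  have hd := x.1.2
  rw [hM, Matrix.det_diagonal, Fin.prod_univ_four] at hd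
  exact hd

/-- A non-central involution is conjugate to the standard one. -/
theorem exists_diag {T : Cfsg.SU 4 F 3} (hT : T * T = 1) (hnc : T ∉ Subgroup.center (Cfsg.SU 4 F 3)) :
    ∃ k : Cfsg.SU 4 F 3, IsD hF (suEquiv hF (k * T * k⁻¹)) := by
  have hh := hermB_isUnitary hF (n := 4)
  set g := suEquiv hF T with hgdef
  have hg : ∀ v : Fin 4 → F, g • g • v = v := fun v => by
    rw [← mul_smul, hgdef, ← map_mul, hT, map_one, one_smul]
  have hne : ∀ ε : F, ∃ v : Fin 4 → F, g • v ≠ ε • v := fun ε => by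
    by_contra hc
    push Not at hc
    refine hnc (Subgroup.mem_center_iff.2 fun y => (suEquiv hF (n := 4)).injective ?_)
    rw [map_mul, map_mul]
    exact Subgroup.mem_center_iff.1 (central_of_scalar hF hc) _
  have pair : ∀ v : Fin 4 → F, v ≠ 0 → ∃ y, Forms.hermB hF 4 v y ≠ 0 := fun v hv => by
    by_contra hc
    push Not at hc
    exact hv (hh.sep v hc)
  -- a positive unit
  obtain ⟨v0, hv0⟩ := hne (-1)
  have hv0' : g • v0 + v0 ≠ 0 := fun h => hv0 (by rw [neg_one_smul]; exact eq_neg_of_add_eq_zero_left h)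
  obtain ⟨y0, hy0⟩ := pair _ hv0'
  obtain ⟨u0, -, hu0, hgu0⟩ := eigen_unit (⊤ : Submodule F (Fin 4 → F)) hg (fun _ _ => Submodule.mem_top)
    (Or.inl rfl) Submodule.mem_top (show g • (g • v0 + v0) = (1 : F) • (g • v0 + v0) by
      rw [su_add, hg, one_smul, add_comm]) Submodule.mem_top hy0
  rw [one_smul] at hgu0
  -- a negative unit
  obtain ⟨v3, hv3⟩ := hne 1
  rw [one_smul] at hv3
  have hv3' : g • v3 - v3 ≠ 0 := sub_ne_zero.2 hv3
  obtain ⟨y3, hy3⟩ := pair _ hv3'
  obtain ⟨u3, -, hu3, hgu3⟩ := eigen_unit (⊤ : Submodule F (Fin 4 → F)) hg (fun _ _ => Submodule.mem_top)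
    (Or.inr rfl) Submodule.mem_top (show g • (g • v3 - v3) = (-1 : F) • (g • v3 - v3) by
      rw [su_sub, hg, neg_one_smul, neg_sub]) Submodule.mem_top hy3
  rw [neg_one_smul] at hgu3
  have horth : Forms.hermB hF 4 u0 u3 = 0 := by
    have e := su_form g u0 u3
    rw [hgu0, hgu3, map_neg] at e
    exact eq_zero_of_neg hF e.symm
  obtain ⟨k1, hk1, -⟩ := exists_move hh (⊤ : Submodule F (Fin 4 → F)) (w := u0) (w' := E 0) (d := E 1)
    Submodule.mem_top Submodule.mem_top Submodule.mem_top hu0 (by simp [hE_E]) (by simp [hE_E]) (by simp [hE_E])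
  obtain ⟨k2, hk2, hk2c⟩ := exists_move hh (orth (Forms.hermB hF 4) {(E 0 : Fin 4 → F)}) (w := k1 • u3) (w' := E 3)
    (d := E 2)
    (fun c hc => by rw [Set.mem_singleton_iff] at hc; rw [hc, ← hk1, su_form]; exact horth)
    (fun c hc => by rw [Set.mem_singleton_iff] at hc; subst hc; simp [hE_E])
    (fun c hc => by rw [Set.mem_singleton_iff] at hc; subst hc; simp [hE_E])
    (by rw [su_form]; exact hu3) (by simp [hE_E]) (by simp [hE_E]) (by simp [hE_E])
  set k12 := k2 * k1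
  set g2 := k12 * g * k12⁻¹ with hg2
  have hg2' : ∀ v : Fin 4 → F, g2 • g2 • v = v := fun v => by
    simp only [hg2, mul_smul, inv_smul_smul]
    rw [hg, smul_inv_smul]
  have h0 : k12 • u0 = E 0 := by rw [mul_smul, hk1]; exact hk2c _ fun x hx => hx _ rfl
  have h3 : k12 • u3 = E 3 := by rw [mul_smul, hk2]
  have g0 : g2 • (E 0 : Fin 4 → F) = E 0 := by
    rw [← h0, hg2, mul_smul, mul_smul, inv_smul_smul, hgu0]
  have g3 : g2 • (E 3 : Fin 4 → F) = -E 3 := by
    rw [← h3, hg2, mul_smul, mul_smul, inv_smul_smul, hgu3, ← neg_one_smul F, su_scal, neg_one_smul]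
  let W : Submodule F (Fin 4 → F) :=
    { carrier := {v | v 0 = 0 ∧ v 3 = 0}
      zero_mem' := ⟨rfl, rfl⟩
      add_mem' := fun {a b} ha hb => by simp [ha.1, ha.2, hb.1, hb.2]
      smul_mem' := fun c w hw => by simp [hw.1, hw.2] }
  have hW : ∀ v ∈ W, g2 • v ∈ W := fun v hv =>
    ⟨by rw [coord_fix g0, hv.1], by rw [coord_neg g3, hv.2, neg_zero]⟩
  have hE1 : (E 1 : Fin 4 → F) ∈ W := ⟨by simp [E_apply], by simp [E_apply]⟩
  have hE2 : (E 2 : Fin 4 → F) ∈ W := ⟨by simp [E_apply], by simp [E_apply]⟩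
  obtain ⟨X2, hX2⟩ := (suEquiv hF (n := 4)).surjective g2
  obtain ⟨v1, hv1W, hv1⟩ : ∃ v1 ∈ W, g2 • v1 + v1 ≠ 0 := by
    by_contra hc
    push Not at hc
    have := prod_diag (hF := hF) (x := X2) (c := ![1, -1, -1, -1]) fun j => by
      rw [hX2]
      fin_cases j
      exacts [g0.trans (one_smul F _).symm, (eq_neg_of_add_eq_zero_left (hc _ hE1)).trans (neg_one_smul F _).symm,
        (eq_neg_of_add_eq_zero_left (hc _ hE2)).trans (neg_one_smul F _).symm, g3.trans (neg_one_smul F _).symm]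
    simp at this
    exact two_ne_zero_three hF (by linear_combination -this)
  have hv1' : g2 • v1 + v1 ∈ W := W.add_mem (hW _ hv1W) hv1W
  obtain ⟨y1, hy1W, hy1⟩ : ∃ y1 ∈ W, Forms.hermB hF 4 (g2 • v1 + v1) y1 ≠ 0 := by
    by_contra hc
    push Not at hc
    refine hv1 ?_
    have e1 : (g2 • v1 + v1) 1 = 0 := by
      rw [← hE_left hF (1 : Fin 4) (g2 • v1 + v1)]; exact hh.comm_zero (hc _ hE1)
    have e2 : (g2 • v1 + v1) 2 = 0 := by
      rw [← hE_left hF (2 : Fin 4) (g2 • v1 + v1)]; exact hh.comm_zero (hc _ hE2)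
    funext i
    fin_cases i
    exacts [hv1'.1, e1, e2, hv1'.2]
  obtain ⟨u1, hu1W, hu1, hgu1⟩ := eigen_unit W hg2' hW (Or.inl rfl) hv1'
    (show g2 • (g2 • v1 + v1) = (1 : F) • (g2 • v1 + v1) by rw [su_add, hg2', one_smul, add_comm]) hy1W hy1
  rw [one_smul] at hgu1
  obtain ⟨a, ha⟩ := exists_pair4_move hF (show (1 : Fin 4) ≠ 2 by decide) hu1 fun k h1 h2 => by
    fin_cases k
    exacts [hu1W.1, absurd rfl h1, absurd rfl h2, hu1W.2]
  set k3 := suEquiv hF (pair4 hF 1 2 (by decide) a)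
  set g' := k3 * g2 * k3⁻¹ with hg'
  have f0 : g' • (E 0 : Fin 4 → F) = E 0 := by
    have e : k3 • (E 0 : Fin 4 → F) = E 0 := pair4_fix hF _ a (by decide) (by decide)
    conv_lhs => rw [← e, hg', mul_smul, mul_smul, inv_smul_smul, g0, e]
  have f3 : g' • (E 3 : Fin 4 → F) = -E 3 := by
    have e : k3 • (E 3 : Fin 4 → F) = E 3 := pair4_fix hF _ a (by decide) (by decide)
    conv_lhs => rw [← e, hg', mul_smul, mul_smul, inv_smul_smul, g3, ← neg_one_smul F, su_scal, e, neg_one_smul]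
  have f1 : g' • (E 1 : Fin 4 → F) = E 1 := by
    conv_lhs => rw [← ha, hg', mul_smul, mul_smul, inv_smul_smul, hgu1, ha]
  obtain ⟨k, hk⟩ := (suEquiv hF (n := 4)).surjective (k3 * k12)
  have hfin : suEquiv hF (k * T * k⁻¹) = g' := by
    rw [map_mul, map_mul, map_inv, hk, hg', hg2, ← hgdef]; group
  have f2 : g' • (E 2 : Fin 4 → F) = (g' • (E 2 : Fin 4 → F)) 2 • E 2 := by
    funext i
    fin_cases i
    · simp [coord_fix f0, E_apply]
    · simp [coord_fix f1, E_apply]
    · simp [E_apply]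
    · simp [coord_neg f3, E_apply]
  have hp := prod_diag (hF := hF) (x := k * T * k⁻¹) (c := ![1, 1, (g' • (E 2 : Fin 4 → F)) 2, -1]) fun j => by
    rw [hfin]
    fin_cases j
    exacts [f0.trans (one_smul F _).symm, f1.trans (one_smul F _).symm, f2, f3.trans (neg_one_smul F _).symm]
  simp at hp
  refine ⟨k, ?_⟩
  rw [hfin]
  refine ⟨f0, f1, ?_, f3⟩
  rw [f2, show (g' • (E 2 : Fin 4 → F)) 2 = -1 by linear_combination -hp, neg_one_smul]

/-- An element of cube one commuting with the standard involution. -/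
theorem block_decomp {D x : Cfsg.SU 4 F 3} (hD : IsD hF (suEquiv hF D)) (hx : x ^ 3 = 1) (hc : D * x = x * D) :
    ∃ a c : Cfsg.SU 2 F 3, a ^ 3 = 1 ∧ c ^ 3 = 1 ∧
      x = pair4 hF 0 1 (by decide) a * pair4 hF 2 3 (by decide) c := by
  obtain ⟨d0, d1, d2, d3⟩ := hD
  have hcs : ∀ v : Fin 4 → F, suEquiv hF D • suEquiv hF x • v = suEquiv hF x • suEquiv hF D • v := fun v => by
    rw [← mul_smul, ← mul_smul, ← map_mul, ← map_mul, hc]
  have z0 : ∀ j, suEquiv hF D • (E j : Fin 4 → F) = E j → ∀ i, suEquiv hF D • (E i : Fin 4 → F) = -E i →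
      (suEquiv hF x • (E j : Fin 4 → F)) i = 0 := by
    intro j hj i hi
    refine eq_zero_of_neg hF ?_
    conv_lhs => rw [← hj, ← hcs, coord_neg hi]
  -- the determinant of the upper block
  let δ : Cfsg.SU 4 F 3 → F := fun y => y.1.1 0 0 * y.1.1 1 1 - y.1.1 0 1 * y.1.1 1 0
  have hmul : ∀ y w : Cfsg.SU 4 F 3, w.1.1 2 0 = 0 → w.1.1 3 0 = 0 → w.1.1 2 1 = 0 → w.1.1 3 1 = 0 →
      δ (y * w) = δ y * δ w := by
    intro y w w1 w2 w3 w4
    simp only [δ, Subgroup.coe_mul, Matrix.SpecialLinearGroup.coe_mul, Matrix.mul_apply, Fin.sum_univ_four, w1, w2,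
      w3, w4]
    ring
  have x20 : x.1.1 2 0 = 0 := (det_two_blocks (hF := hF) rfl 2 0).trans (z0 0 d0 2 d2)
  have x30 : x.1.1 3 0 = 0 := (det_two_blocks (hF := hF) rfl 3 0).trans (z0 0 d0 3 d3)
  have x21 : x.1.1 2 1 = 0 := (det_two_blocks (hF := hF) rfl 2 1).trans (z0 1 d1 2 d2)
  have x31 : x.1.1 3 1 = 0 := (det_two_blocks (hF := hF) rfl 3 1).trans (z0 1 d1 3 d3)
  have hδ : δ x = 1 := by
    have h3 : δ x ^ 3 = 1 := by
      have e : δ (x * x * x) = δ x * δ x * δ x := by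
        rw [hmul _ _ x20 x30 x21 x31, hmul _ _ x20 x30 x21 x31]
      rw [show x * x * x = 1 by rw [← hx, pow_succ, pow_two]] at e
      rw [pow_succ, pow_two, ← e]
      simp [δ]
    have h0 : (δ x - 1) ^ 3 = 0 := by linear_combination h3 - (δ x ^ 2 - δ x) * three_eq_zero hF
    exact sub_eq_zero.1 ((pow_eq_zero_iff (by norm_num)).1 h0)
  obtain ⟨m, hm⟩ := exists_pair4_move hF (show (0 : Fin 4) ≠ 1 by decide)
    (u := suEquiv hF x • (E 0 : Fin 4 → F)) (by rw [su_form]; simp [hE_E]) fun k h1 h2 => by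
      fin_cases k
      exacts [absurd rfl h1, absurd rfl h2, z0 0 d0 2 d2, z0 0 d0 3 d3]
  set M := pair4 hF 0 1 (by decide) m
  set y := M * x with hy
  have y0 : suEquiv hF y • (E 0 : Fin 4 → F) = E 0 := by rw [hy, map_mul, mul_smul]; exact hm
  have hMd : δ M = 1 := by
    have e0 := pair4_col hF (show (0 : Fin 4) ≠ 1 by decide) m
    have e1 := pair4_col' hF (show (0 : Fin 4) ≠ 1 by decide) m
    simp only [δ]
    rw [det_two_blocks (hF := hF) rfl 0 0, det_two_blocks (hF := hF) rfl 1 0, det_two_blocks (hF := hF) rfl 0 1,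
      det_two_blocks (hF := hF) rfl 1 1, e0, e1]
    have hd := m.1.2
    rw [Matrix.det_fin_two] at hd
    simp [E_apply]
    linear_combination hd
  have hδy : δ y = 1 := by rw [hy, hmul _ _ x20 x30 x21 x31, hMd, hδ, one_mul]
  set v := suEquiv hF y • (E 1 : Fin 4 → F) with hv
  have v0 : v 0 = 0 := by rw [hv, coord_fix y0]; simp [E_apply]
  have v23 : ∀ k : Fin 4, k ≠ 0 → k ≠ 1 → v k = (suEquiv hF x • (E 1 : Fin 4 → F)) k := fun k h1 h2 => by
    rw [hv, hy, map_mul, mul_smul]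
    exact coord_fix (pair4_fix hF (show (0 : Fin 4) ≠ 1 by decide) m h1 h2) _
  have v1 : v 1 = 1 := by
    have e00 : y.1.1 0 0 = 1 := by rw [det_two_blocks (hF := hF) rfl 0 0, y0]; simp [E_apply]
    have e01 : y.1.1 0 1 = 0 := (det_two_blocks (hF := hF) rfl 0 1).trans v0
    simp only [δ, e00, e01, one_mul, zero_mul, sub_zero] at hδy
    exact (det_two_blocks (hF := hF) rfl 1 1).symm.trans hδy
  have y1 : v = E 1 := by
    funext i
    fin_cases i
    exacts [v0.trans (by simp [E_apply]), v1.trans (by simp [E_apply]),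
      ((v23 2 (by decide) (by decide)).trans (z0 1 d1 2 d2)).trans (by simp [E_apply]),
      ((v23 3 (by decide) (by decide)).trans (z0 1 d1 3 d3)).trans (by simp [E_apply])]
  obtain ⟨c, hc'⟩ := (mem_range_pair4 hF (show (2 : Fin 4) ≠ 3 by decide) y).2 fun k h1 h2 => by
    fin_cases k
    exacts [y0, y1, absurd rfl h1, absurd rfl h2]
  have hxe : x = pair4 hF 0 1 (by decide) m⁻¹ * pair4 hF 2 3 (by decide) c := by
    rw [map_inv, hc', hy, inv_mul_cancel_left]
  have hcube := hx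
  rw [hxe, (pair4_commute hF _ _ (by decide) (by decide) (by decide) (by decide) _ _).mul_pow, ← map_pow,
    ← map_pow] at hcube
  obtain ⟨h1, h2⟩ := pair4_eq_one hF _ _ (by decide) (by decide) (by decide) (by decide) hcube
  exact ⟨_, c, h1, h2, hxe⟩

end Cfsg.Agent.PhanAmalgam
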