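/-
Area PhanAmalgam: a homomorphic image of `SU₄(3)` containing two standard pairs is compatible with them.
-/
import Cfsg.Agent.Lib.PhanAmalgam.Three

set_option autoImplicit false

open scoped Matrix

namespace Cfsg.Agent.PhanAmalgam

open Cfsg.Agent.ClassicalSimple

variable {F : Type*} [Field F] [Fintype F] (hF : Fintype.card F = 3 ^ 2) {G : Type*} [Group G]

include hF in
theorem center_three_eq_one {z : Cfsg.SU 3 F 3} (hz : z ∈ Subgroup.center (Cfsg.SU 3 F 3)) : z = 1 := by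
  obtain ⟨a, -, ha, hax⟩ := central_scalar hF le_rfl hz
  have ha1 : a = 1 := by
    have h0 : (a - 1) ^ 3 = 0 := by linear_combination ha - (a ^ 2 - a) * three_eq_zero hF
    exact sub_eq_zero.1 ((pow_eq_zero_iff (by norm_num)).1 h0)
  refine central_fix hF le_rfl hz (v := (E 0 : Fin 3 → F)) (by simp) ?_
  rw [hax, ha1, one_smul]

include hF in
theorem std_injective_three {U U' V : Subgroup G} {φ : Cfsg.SU 3 F 3 →* G} (h : Std hF U U' V φ) :
    Function.Injective φ :=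
  (injective_iff_map_eq_one φ).2 fun _ hx => center_three_eq_one hF (h.ker_le hx)

include hF in
theorem std_sup_three {U U' V : Subgroup G} {φ : Cfsg.SU 3 F 3 →* G} (h : Std hF U U' V φ) : U ⊔ U' = V := by
  rw [← h.range_eq, MonoidHom.range_eq_map, ← sup_blocks hF le_rfl, Subgroup.map_sup, ← MonoidHom.range_comp,
    ← MonoidHom.range_comp, h.r01, h.r12]

include hF in
theorem center_four_pow {z : Cfsg.SU 4 F 3} (hz : z ∈ Subgroup.center (Cfsg.SU 4 F 3)) : z ^ 4 = 1 := by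
  obtain ⟨a, -, ha, hax⟩ := central_scalar hF (by norm_num) hz
  refine (suEquiv hF (n := 4)).injective (su_ext fun v => ?_)
  rw [map_pow, map_one, one_smul, pow_succ, pow_succ, pow_succ, pow_one, mul_smul, mul_smul, mul_smul, hax, hax, hax,
    hax, smul_smul, smul_smul, smul_smul, show a * a * a * a = a ^ 4 by ring, ha, one_smul]

section

variable {f : Cfsg.SU 4 F 3 →* G} (hf : f.ker ≤ Subgroup.center (Cfsg.SU 4 F 3))
include hF hf

theorem cube_unique {x y : Cfsg.SU 4 F 3} (hx : x ^ 3 = 1) (hy : y ^ 3 = 1) (e : f x = f y) : x = y := by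
  set k := x⁻¹ * y with hk
  have hkc : k ∈ Subgroup.center (Cfsg.SU 4 F 3) :=
    hf (by rw [MonoidHom.mem_ker, hk, map_mul, map_inv, e, inv_mul_cancel])
  have h3 : k ^ 3 = 1 := by
    have e1 : y = x * k := by rw [hk, mul_inv_cancel_left]
    have hcomm : Commute x k := Subgroup.mem_center_iff.1 hkc x
    rw [e1, hcomm.mul_pow, hx, one_mul] at hy
    exact hy
  have h4 := center_four_pow hF hkc
  rw [pow_succ, h3, one_mul] at h4
  rw [← mul_one x, ← h4, hk, mul_inv_cancel_left]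

theorem cube_exists {y : G} (hy : y ∈ f.range) (hy3 : y ^ 3 = 1) : ∃ x, x ^ 3 = 1 ∧ f x = y := by
  obtain ⟨x, rfl⟩ := hy
  have hk : x ^ 3 ∈ f.ker := by rw [MonoidHom.mem_ker, map_pow, hy3]
  refine ⟨x * x ^ 3, ?_, by rw [map_mul, MonoidHom.mem_ker.1 hk, mul_one]⟩
  rw [(Commute.self_pow x 3).mul_pow, ← pow_succ' (x ^ 3) 3]
  exact center_four_pow hF (hf hk)

theorem cube_commute {x y : Cfsg.SU 4 F 3} (hy : y ^ 3 = 1) (e : f x * f y = f y * f x) : x * y = y * x := by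
  have h := cube_unique hF hf (x := x * y * x⁻¹) (by rw [conj_pow, hy, mul_one, mul_inv_cancel]) hy
    (by rw [map_mul, map_mul, map_inv, e, mul_inv_cancel_right])
  exact mul_inv_eq_iff_eq_mul.1 h

/-- The involution over the central element of the first subgroup. -/
theorem exists_lift_involution {U U' V : Subgroup G} {φ : Cfsg.SU 3 F 3 →* G} (hφ : Std hF U U' V φ)
    (hV : V ≤ f.range) :
    ∃ T : Cfsg.SU 4 F 3, T * T = 1 ∧ f T = φ (e01 hF (negOne hF)) ∧ T ∉ Subgroup.center (Cfsg.SU 4 F 3) := by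
  have hin : ∀ x, φ x ∈ f.range := fun x => hV (hφ.range_eq ▸ ⟨x, rfl⟩)
  obtain ⟨i, hi⟩ : IsSquare (-1 : F) := FiniteField.isSquare_neg_one_iff.2 (by rw [hF]; decide)
  have hσi : Forms.qEnd hF i = -i := by rw [Forms.qEnd_apply]; linear_combination -i * hi
  set w := wswap (q := 3) hF
  set w' : Cfsg.SU 2 F 3 := mk2 hF i 0 (by rw [hσi, map_zero]; linear_combination hi)
  have hneg : Forms.qEnd hF (1 : F) = 1 := map_one _
  have hww : w * w = negOne hF := by
    refine su2_ext hF ?_ ?_ <;> simp only [Subgroup.coe_mul, Matrix.SpecialLinearGroup.coe_mul] <;>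
      simp [w, wswap, negOne, mk2, Matrix.mul_apply, Fin.sum_univ_two]
  have hrel : w * w' * w = w' := by
    refine su2_ext hF ?_ ?_ <;> simp only [Subgroup.coe_mul, Matrix.SpecialLinearGroup.coe_mul] <;>
      simp [w, w', wswap, mk2, Matrix.mul_apply, Fin.sum_univ_two, hσi]
  have hm : ∀ x, negOne hF * x = x * negOne hF := fun x => by
    obtain ⟨x1, x2, -⟩ := su2_shape hF x
    refine su2_ext hF ?_ ?_ <;> simp only [Subgroup.coe_mul, Matrix.SpecialLinearGroup.coe_mul] <;>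
      simp [negOne, mk2, Matrix.mul_apply, Fin.sum_univ_two]
  obtain ⟨Y, hY⟩ := hin (e01 hF w)
  obtain ⟨Y', hY'⟩ := hin (e01 hF w')
  set z1 := Y * Y' * Y * Y'⁻¹ with hz1
  have hz1k : f z1 = 1 := by
    rw [hz1, map_mul, map_mul, map_mul, map_inv, hY, hY', ← map_mul, ← map_mul, ← map_mul, ← map_mul, hrel,
      mul_inv_cancel]
  have hz : z1 ∈ Subgroup.center (Cfsg.SU 4 F 3) := hf hz1k
  have hz' := Subgroup.mem_center_iff.1 hz
  -- `Y * Y` commutes with the lifts of the first subgroup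
  have hYY : f (Y * Y) = φ (e01 hF (negOne hF)) := by rw [map_mul, hY, ← map_mul, ← map_mul, hww]
  have hcl : ∀ x : Cfsg.SU 4 F 3, f x ∈ U → x * (Y * Y) = Y * Y * x := by
    have hU : (φ.comp (e01 hF)).range ≤ (Subgroup.centralizer {Y * Y}).map f := by
      refine su2_map_le hF fun a ha => ?_
      obtain ⟨x, hx, hxa⟩ := cube_exists hF hf (hin (e01 hF a)) (by rw [← map_pow, ← map_pow, ha, map_one, map_one])
      refine ⟨x, ?_, hxa⟩
      show x ∈ Subgroup.centralizer {Y * Y}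
      rw [Subgroup.mem_centralizer_iff]
      rintro _ rfl
      refine cube_commute hF hf hx ?_
      rw [hYY, hxa, ← map_mul, ← map_mul, ← map_mul, ← map_mul, hm]
    intro x hx
    rw [← hφ.r01] at hx
    obtain ⟨w0, hw0, e⟩ := hU hx
    have hk : w0⁻¹ * x ∈ Subgroup.center (Cfsg.SU 4 F 3) :=
      hf (by rw [MonoidHom.mem_ker, map_mul, map_inv, e, inv_mul_cancel])
    have h1 : Y * Y * w0 = w0 * (Y * Y) := Subgroup.mem_centralizer_iff.1 hw0 _ rfl
    have h2 := Subgroup.mem_center_iff.1 hk (Y * Y)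
    calc x * (Y * Y) = w0 * ((w0⁻¹ * x) * (Y * Y)) := by group
      _ = w0 * ((Y * Y) * (w0⁻¹ * x)) := by rw [h2]
      _ = (w0 * (Y * Y)) * (w0⁻¹ * x) := by group
      _ = (Y * Y * w0) * (w0⁻¹ * x) := by rw [h1]
      _ = Y * Y * x := by group
  have hfix : Y' * (Y * Y) * Y'⁻¹ = Y * Y := by
    rw [hcl Y' (by rw [hY']; exact hφ.mem_left w'), mul_inv_cancel_right]
  have h4 : Y * Y * (Y * Y) = z1 * z1 := by
    have e1 : Y' * Y * Y'⁻¹ = Y⁻¹ * z1 := by rw [hz1]; group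
    have e2 : Y * Y = Y⁻¹ * z1 * (Y⁻¹ * z1) := by
      calc Y * Y = Y' * (Y * Y) * Y'⁻¹ := hfix.symm
        _ = (Y' * Y * Y'⁻¹) * (Y' * Y * Y'⁻¹) := by group
        _ = _ := by rw [e1]
    calc Y * Y * (Y * Y) = Y * Y * (Y⁻¹ * z1 * (Y⁻¹ * z1)) := by rw [← e2]
      _ = Y * (z1 * Y⁻¹) * z1 := by group
      _ = Y * (Y⁻¹ * z1) * z1 := by rw [← hz' Y⁻¹]
      _ = z1 * z1 := by rw [mul_inv_cancel_left]
  refine ⟨Y * Y * z1⁻¹, ?_, by rw [map_mul, map_inv, hz1k, inv_one, mul_one, hYY], fun hT => ?_⟩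
  · have hc : z1⁻¹ * (Y * Y) = Y * Y * z1⁻¹ :=
      (Subgroup.mem_center_iff.1 (Subgroup.inv_mem _ hz) (Y * Y)).symm
    calc Y * Y * z1⁻¹ * (Y * Y * z1⁻¹) = Y * Y * (z1⁻¹ * (Y * Y)) * z1⁻¹ := by group
      _ = (Y * Y * (Y * Y)) * z1⁻¹ * z1⁻¹ := by rw [hc]; group
      _ = 1 := by rw [h4]; group
  · have hfT : f (Y * Y * z1⁻¹) = φ (e01 hF (negOne hF)) := by rw [map_mul, map_inv, hz1k, inv_one, mul_one, hYY]
    have hcent : e01 hF (negOne hF) ∈ Subgroup.center (Cfsg.SU 3 F 3) := by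
      refine Subgroup.mem_center_iff.2 fun y => std_injective_three hF hφ ?_
      obtain ⟨Z, hZ⟩ := hin y
      rw [map_mul, map_mul, ← hfT, ← hZ, ← map_mul, ← map_mul, Subgroup.mem_center_iff.1 hT Z]
    have e := center_three_eq_one hF hcent
    rw [← map_one (e01 hF)] at e
    have e' : negOne (q := 3) hF = 1 := embH_injective hF (Fin.castSucc_injective 2) (congrArg (suEquiv hF) e)
    have e'' : (-1 : F) = 1 := congrArg (fun x : Cfsg.SU 2 F 3 => x.1.1 0 0) e'
    exact two_ne_zero_three hF (by linear_combination -e'')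

end

include hF in
/-- The outer subgroups in the position of the two factors. -/
theorem exists_outer {U U' U'' V : Subgroup G} {φ : Cfsg.SU 3 F 3 →* G} (hφ : Std hF U U' V φ)
    {ψ : Cfsg.SU 2 F 3 →* G} (hψ : Function.Injective ψ) (hψr : ψ.range = U'') (hc : ∀ a ∈ U, ∀ b ∈ U'', a * b = b * a)
    {f : Cfsg.SU 4 F 3 →* G} (hf : f.ker ≤ Subgroup.center (Cfsg.SU 4 F 3)) (hV : V ≤ f.range) (hU'' : U'' ≤ f.range) :
    ∃ f' : Cfsg.SU 4 F 3 →* G, f'.ker ≤ Subgroup.center (Cfsg.SU 4 F 3) ∧ f'.range = f.range ∧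
      (f'.comp (pair4 hF 0 1 (by decide))).range = U ∧ (f'.comp (pair4 hF 2 3 (by decide))).range = U'' := by
  set ψ0 := φ.comp (e01 hF) with hψ0
  have hψ0r : ψ0.range = U := hφ.r01
  have hψ0i : Function.Injective ψ0 := hφ.inj01
  set p01 := pair4 hF (0 : Fin 4) 1 (by decide)
  set p23 := pair4 hF (2 : Fin 4) 3 (by decide)
  -- it suffices to reach inclusions
  suffices h : ∃ f' : Cfsg.SU 4 F 3 →* G, f'.ker ≤ Subgroup.center (Cfsg.SU 4 F 3) ∧ f'.range = f.range ∧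
      U ≤ (f'.comp p01).range ∧ U'' ≤ (f'.comp p23).range by
    obtain ⟨f', h1, h2, h3, h4⟩ := h
    exact ⟨f', h1, h2, eq_range_of_le hψ0i hψ0r h3, eq_range_of_le hψ hψr h4⟩
  obtain ⟨T, hT, hfT, hTc⟩ := exists_lift_involution hF hf hφ hV
  obtain ⟨k, hk⟩ := exists_diag (hF := hF) hT hTc
  set fk := f.comp (MulAut.conj k⁻¹).toMonoidHom with hfk
  have hfkc := ker_comp_conj hf k⁻¹
  have hfkr : fk.range = f.range := range_comp_conj f k⁻¹
  have hfD : fk (k * T * k⁻¹) = φ (e01 hF (negOne hF)) := by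
    rw [← hfT]
    show f (k⁻¹ * (k * T * k⁻¹) * k⁻¹⁻¹) = f T
    congr 1
    group
  have hmU : φ (e01 hF (negOne hF)) ∈ U := hφ.mem_left _
  have hm : ∀ y, y ∈ U ∨ y ∈ U'' → φ (e01 hF (negOne hF)) * y = y * φ (e01 hF (negOne hF)) := by
    rintro y (hy | hy)
    · rw [← hψ0r] at hy
      obtain ⟨a, rfl⟩ := hy
      show φ _ * φ (e01 hF a) = φ (e01 hF a) * φ _
      rw [← map_mul, ← map_mul, ← map_mul, ← map_mul]
      congr 2
      obtain ⟨a1, a2, -⟩ := su2_shape hF a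
      refine su2_ext hF ?_ ?_ <;> simp only [Subgroup.coe_mul, Matrix.SpecialLinearGroup.coe_mul] <;>
        simp [negOne, mk2, Matrix.mul_apply, Fin.sum_univ_two]
    · exact hc _ hmU _ hy
  have decomp : ∀ x : Cfsg.SU 4 F 3, x ^ 3 = 1 → (fk x ∈ U ∨ fk x ∈ U'') →
      ∃ a c : Cfsg.SU 2 F 3, a ^ 3 = 1 ∧ c ^ 3 = 1 ∧ x = p01 a * p23 c := fun x hx hxU =>
    block_decomp hk hx (cube_commute hF hfkc hx (by rw [hfD]; exact hm _ hxU))
  have hcm : ∀ a c a' c' : Cfsg.SU 2 F 3, p01 a * p23 c * (p01 a' * p23 c') = p01 (a * a') * p23 (c * c') := by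
    intro a c a' c'
    have e : p23 c * p01 a' = p01 a' * p23 c :=
      (pair4_commute hF _ _ (by decide) (by decide) (by decide) (by decide) a' c).eq.symm
    calc _ = p01 a * (p23 c * p01 a') * p23 c' := by group
      _ = _ := by rw [e, map_mul, map_mul]; group
  have split : ∀ a c a' c' : Cfsg.SU 2 F 3, p01 a * p23 c * (p01 a' * p23 c') = p01 a' * p23 c' * (p01 a * p23 c) →
      a * a' = a' * a ∧ c * c' = c' * c := by
    intro a c a' c' e
    rw [hcm, hcm] at e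
    have e1 : p01 ((a' * a)⁻¹ * (a * a')) * p23 (c * c' * (c' * c)⁻¹) = 1 := by
      rw [map_mul, map_mul p23, map_inv, map_inv]
      calc _ = (p01 (a' * a))⁻¹ * (p01 (a * a') * p23 (c * c')) * (p23 (c' * c))⁻¹ := by group
        _ = _ := by rw [e]; group
    obtain ⟨h1, h2⟩ := pair4_eq_one hF _ _ (by decide) (by decide) (by decide) (by decide) e1
    exact ⟨(inv_mul_eq_one.1 h1).symm, mul_inv_eq_one.1 h2⟩
  have lift : ∀ {U0 : Subgroup G} (χ : Cfsg.SU 2 F 3 →* G), χ.range = U0 → U0 ≤ fk.range →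
      ∀ a : Cfsg.SU 2 F 3, a ^ 3 = 1 → ∃ x, x ^ 3 = 1 ∧ fk x = χ a ∧ fk x ∈ U0 := fun χ hr hle a ha => by
    obtain ⟨x, h1, h2⟩ := cube_exists hF hfkc (hle (hr ▸ ⟨a, rfl⟩ : χ a ∈ _)) (by rw [← map_pow, ha, map_one])
    exact ⟨x, h1, h2, h2 ▸ hr ▸ ⟨a, rfl⟩⟩
  have hUr : U ≤ fk.range := hfkr ▸ hφ.range_le_of_left.trans hV
  have hU''r : U'' ≤ fk.range := hfkr ▸ hU''
  -- non-commuting lifts in a subgroup
  have nonc : ∀ {U0 : Subgroup G} (χ : Cfsg.SU 2 F 3 →* G), χ.range = U0 → Function.Injective χ → U0 ≤ fk.range →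
      (U0 = U ∨ U0 = U'') →
      ∃ a c a' c' : Cfsg.SU 2 F 3, fk (p01 a * p23 c) ∈ U0 ∧ fk (p01 a' * p23 c') ∈ U0 ∧ a ^ 3 = 1 ∧ c ^ 3 = 1 ∧
        a' ^ 3 = 1 ∧ c' ^ 3 = 1 ∧ (a * a' ≠ a' * a ∨ c * c' ≠ c' * c) := by
    intro U0 χ hr hi hle hor
    obtain ⟨a, b, ha, hb, hab⟩ := exists_su2_noncomm hF
    obtain ⟨x, x3, xa, xU⟩ := lift χ hr hle a ha
    obtain ⟨y, y3, yb, yU⟩ := lift χ hr hle b hb
    have mem : ∀ z, fk z ∈ U0 → fk z ∈ U ∨ fk z ∈ U'' := fun z hz => by rcases hor with rfl | rfl <;> tauto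
    obtain ⟨a1, c1, a13, c13, rfl⟩ := decomp x x3 (mem x xU)
    obtain ⟨a2, c2, a23, c23, rfl⟩ := decomp y y3 (mem y yU)
    refine ⟨a1, c1, a2, c2, xU, yU, a13, c13, a23, c23, ?_⟩
    by_contra hcc
    push Not at hcc
    refine hab (hi ?_)
    rw [map_mul, map_mul, ← xa, ← yb, ← map_mul, ← map_mul, hcm, hcm, hcc.1, hcc.2]
  -- lifts of commuting subgroups commute coordinatewise
  have comm : ∀ a c a' c' : Cfsg.SU 2 F 3, a' ^ 3 = 1 → c' ^ 3 = 1 → fk (p01 a * p23 c) ∈ U →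
      fk (p01 a' * p23 c') ∈ U'' → a * a' = a' * a ∧ c * c' = c' * c := by
    intro a c a' c' ha hc' hU0 hU1
    refine split _ _ _ _ (cube_commute hF hfkc ?_ (hc _ hU0 _ hU1))
    rw [(pair4_commute hF _ _ (by decide) (by decide) (by decide) (by decide) a' c').mul_pow, ← map_pow, ← map_pow,
      ha, hc', map_one, map_one, one_mul]
  obtain ⟨a1, c1, a2, c2, h1, h2, a13, c13, a23, c23, hA⟩ := nonc ψ0 hψ0r hψ0i hUr (Or.inl rfl)
  obtain ⟨a1', c1', a2', c2', h1', h2', a13', c13', a23', c23', hA'⟩ := nonc ψ hψr hψ hU''r (Or.inr rfl)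
  have left1 : a1 * a2 ≠ a2 * a1 → ∀ a c, a ^ 3 = 1 → c ^ 3 = 1 → fk (p01 a * p23 c) ∈ U'' → a = 1 :=
    fun h a c ha hc' hm' => su2_cube_centralise hF h ha (comm _ _ _ _ ha hc' h1 hm').1.symm
      (comm _ _ _ _ ha hc' h2 hm').1.symm
  have left2 : c1 * c2 ≠ c2 * c1 → ∀ a c, a ^ 3 = 1 → c ^ 3 = 1 → fk (p01 a * p23 c) ∈ U'' → c = 1 :=
    fun h a c ha hc' hm' => su2_cube_centralise hF h hc' (comm _ _ _ _ ha hc' h1 hm').2.symm
      (comm _ _ _ _ ha hc' h2 hm').2.symm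
  have right1 : a1' * a2' ≠ a2' * a1' → ∀ a c, a ^ 3 = 1 → c ^ 3 = 1 → fk (p01 a * p23 c) ∈ U → a = 1 :=
    fun h a c ha hc' hm' => su2_cube_centralise hF h ha (comm _ _ _ _ a13' c13' hm' h1').1
      (comm _ _ _ _ a23' c23' hm' h2').1
  have right2 : c1' * c2' ≠ c2' * c1' → ∀ a c, a ^ 3 = 1 → c ^ 3 = 1 → fk (p01 a * p23 c) ∈ U → c = 1 :=
    fun h a c ha hc' hm' => su2_cube_centralise hF h hc' (comm _ _ _ _ a13' c13' hm' h1').2
      (comm _ _ _ _ a23' c23' hm' h2').2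
  have toRange : ∀ {U0 : Subgroup G} (χ : Cfsg.SU 2 F 3 →* G), χ.range = U0 → U0 ≤ fk.range →
      (U0 = U ∨ U0 = U'') → ∀ (M : Subgroup G),
      (∀ a c, a ^ 3 = 1 → c ^ 3 = 1 → fk (p01 a * p23 c) ∈ U0 → fk (p01 a * p23 c) ∈ M) → U0 ≤ M := by
    intro U0 χ hr hle hor M hM
    rw [← hr]
    refine su2_map_le hF fun a ha => ?_
    obtain ⟨x, x3, xa, xU⟩ := lift χ hr hle a ha
    obtain ⟨a', c', ha', hc', rfl⟩ := decomp x x3 (by rcases hor with rfl | rfl <;> tauto)
    rw [← xa]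
    exact hM a' c' ha' hc' xU
  by_cases hfst : a1 * a2 ≠ a2 * a1
  · have k1 := left1 hfst
    have hc'' : c1' * c2' ≠ c2' * c1' := by
      rw [k1 _ _ a13' c13' h1', k1 _ _ a23' c23' h2'] at hA'
      simpa using hA'
    have k2 := right2 hc''
    exact ⟨fk, hfkc, hfkr,
      toRange ψ0 hψ0r hUr (Or.inl rfl) _ fun a c ha hc' hm' => ⟨a, by
        rw [MonoidHom.comp_apply, k2 a c ha hc' hm', map_one, mul_one]⟩,
      toRange ψ hψr hU''r (Or.inr rfl) _ fun a c ha hc' hm' => ⟨c, by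
        rw [MonoidHom.comp_apply, k1 a c ha hc' hm', map_one, one_mul]⟩⟩
  · have k1 := left2 (hA.resolve_left hfst)
    have ha'' : a1' * a2' ≠ a2' * a1' := by
      rw [k1 _ _ a13' c13' h1', k1 _ _ a23' c23' h2'] at hA'
      simpa using hA'
    have k2 := right1 ha''
    -- interchange the two planes
    set w := wswap (q := 3) hF
    set A := pair4 hF (0 : Fin 4) 2 (by decide) w with hA0
    set B := pair4 hF (1 : Fin 4) 3 (by decide) w with hB0
    set sw := A * B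
    have s2 : suEquiv hF sw • (E 2 : Fin 4 → F) = E 0 := by
      rw [map_mul, mul_smul, pair4_fix hF _ w (by decide) (by decide), pair4_col' hF _ w]
      simp [w, wswap, mk2]
    have s3 : suEquiv hF sw • (E 3 : Fin 4 → F) = E 1 := by
      rw [map_mul, mul_smul, pair4_col' hF _ w, show w.1.1 0 1 • (E 1 : Fin 4 → F) + w.1.1 1 1 • E 3 = E 1 by
        simp [w, wswap, mk2]]
      exact pair4_fix hF _ w (by decide) (by decide)
    have s0 : suEquiv hF sw • (E 0 : Fin 4 → F) = (-1 : F) • E 2 := by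
      rw [map_mul, mul_smul, pair4_fix hF _ w (by decide) (by decide), pair4_col hF _ w]
      simp [w, wswap, mk2]
    have s1 : suEquiv hF sw • (E 1 : Fin 4 → F) = (-1 : F) • E 3 := by
      rw [map_mul, mul_smul, pair4_col hF _ w, show w.1.1 0 0 • (E 1 : Fin 4 → F) + w.1.1 1 0 • E 3 = (-1 : F) • E 3 by
        simp [w, wswap, mk2], su_scal, pair4_fix hF _ w (by decide) (by decide)]
    have conjmem : ∀ (z : Cfsg.SU 4 F 3) (i j : Fin 4) (h : i ≠ j),
        (∀ l, l ≠ i → l ≠ j → ∃ (s : F) (n : Fin 4), suEquiv hF sw • (E l : Fin 4 → F) = s • E n ∧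
          suEquiv hF z • (E n : Fin 4 → F) = E n) →
        ∃ a, MulAut.conj sw (pair4 hF i j h a) = z := by
      intro z i j h hl
      obtain ⟨a, ha⟩ := (mem_range_pair4 hF h (sw⁻¹ * z * sw)).2 fun l h1 h2 => by
        obtain ⟨s, n, e1, e2⟩ := hl l h1 h2
        rw [map_mul, map_mul, map_inv, mul_smul, mul_smul, inv_smul_eq_iff, e1, su_scal, e2]
      exact ⟨a, by rw [MulAut.conj_apply, ha]; group⟩
    refine ⟨fk.comp (MulAut.conj sw).toMonoidHom, ker_comp_conj hfkc sw,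
      (range_comp_conj fk sw).trans hfkr,
      toRange ψ0 hψ0r hUr (Or.inl rfl) _ fun a c ha hc' hm' => ?_,
      toRange ψ hψr hU''r (Or.inr rfl) _ fun a c ha hc' hm' => ?_⟩
    · obtain ⟨b, hb⟩ := conjmem (p23 c) 0 1 (by decide) fun l h1 h2 => by
        fin_cases l
        exacts [absurd rfl h1, absurd rfl h2, ⟨1, 0, by rw [one_smul]; exact s2, pair4_fix hF _ c (by decide) (by decide)⟩,
          ⟨1, 1, by rw [one_smul]; exact s3, pair4_fix hF _ c (by decide) (by decide)⟩]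
      refine ⟨b, ?_⟩
      show fk (MulAut.conj sw (p01 b)) = fk (p01 a * p23 c)
      rw [hb, k2 a c ha hc' hm', map_one, one_mul]
    · obtain ⟨b, hb⟩ := conjmem (p01 a) 2 3 (by decide) fun l h1 h2 => by
        fin_cases l
        exacts [⟨-1, 2, s0, pair4_fix hF _ a (by decide) (by decide)⟩,
          ⟨-1, 3, s1, pair4_fix hF _ a (by decide) (by decide)⟩, absurd rfl h1, absurd rfl h2]
      refine ⟨b, ?_⟩
      show fk (MulAut.conj sw (p23 b)) = fk (p01 a * p23 c)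
      rw [hb, k1 a c ha hc' hm', map_one, mul_one]

include hF in
/-- The base case over the field with nine elements. -/
theorem base_three {U U' U'' V V' : Subgroup G} {φ φ' : Cfsg.SU 3 F 3 →* G} (hφ : Std hF U U' V φ)
    (hφ' : Std hF U' U'' V' φ') (hcompat : ∀ x, φ' (e01 hF x) = φ (e12 hF x)) (hc : ∀ a ∈ U, ∀ b ∈ U'', a * b = b * a)
    (g : Cfsg.SU 4 F 3 →* G) (hg : g.range = V ⊔ V') :
    ∃ f : Cfsg.SU 4 F 3 →* G, (∀ x, f (e012 hF x) = φ x) ∧ ∀ x, f (e123 hF x) = φ' x := by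
  have iφ := std_injective_three hF hφ
  have hgc : g.ker ≤ Subgroup.center (Cfsg.SU 4 F 3) := by
    refine ker_le_center hF (y := φ (e01 hF (wswap hF))) ?_ ?_
    · rw [hg]; exact Subgroup.mem_sup_left (hφ.range_eq ▸ ⟨_, rfl⟩)
    · intro e
      have e1 := hφ.inj01 (show φ.comp (e01 hF) (wswap hF) = φ.comp (e01 hF) 1 by rw [map_one]; exact e)
      have e2 : (1 : F) = 0 := congrArg (fun x : Cfsg.SU 2 F 3 => x.1.1 0 1) e1
      exact one_ne_zero e2
  have hVg : V ≤ g.range := hg ▸ le_sup_left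
  obtain ⟨f, hf, hfr, hM, hM'⟩ := exists_outer hF hφ hφ'.inj12 hφ'.r12 hc hgc hVg
    (hg ▸ hφ'.range_le_of_right.trans le_sup_right)
  set p01 := pair4 hF (0 : Fin 4) 1 (by decide)
  set p23 := pair4 hF (2 : Fin 4) 3 (by decide)
  -- the middle subgroup is a conjugate of the first
  set w := wswap (q := 3) hF
  set k := e01 hF w * e12 hF w
  have hk2 : suEquiv hF k • (E 2 : Fin 3 → F) = E 0 := by
    rw [map_mul, mul_smul]
    have a1 : suEquiv hF (e12 hF w) • (E 2 : Fin 3 → F) = E 1 := by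
      funext i
      refine Fin.cases ?_ (fun l => ?_) i
      · exact (embH_out hF (Fin.succ_injective 2) w _ not_range_12).trans (by simp [E_apply])
      · refine (col_embS hF (Fin.succ_injective 2) w l 1).trans ?_
        fin_cases l <;> simp [w, wswap, mk2, E_apply]
    have a2 : suEquiv hF (e01 hF w) • (E 1 : Fin 3 → F) = E 0 := by
      funext i
      by_cases hi : i = 2
      · subst hi
        exact (embH_out hF (Fin.castSucc_injective 2) w _ not_range_01).trans (by simp [E_apply])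
      · obtain ⟨l, rfl⟩ : ∃ l : Fin 2, Fin.castSucc l = i := Fin.exists_castSucc_eq.2 hi
        refine (col_embS hF (Fin.castSucc_injective 2) w l 1).trans ?_
        fin_cases l <;> simp [w, wswap, mk2, E_apply]
    rw [a1, a2]
  obtain ⟨K, hK⟩ : φ k ∈ f.range := hfr ▸ hVg (hφ.range_eq ▸ ⟨k, rfl⟩)
  set c := (f.comp (MulAut.conj K).toMonoidHom).comp p01 with hcdef
  have hkf : (f.comp (MulAut.conj K).toMonoidHom).ker ≤ Subgroup.center (Cfsg.SU 4 F 3) := ker_comp_conj hf K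
  have hci : Function.Injective c := inj_pair4 hF hkf (by decide)
  have hcr : c.range = U' := by
    refine range_eq_of_le hci hφ.r12 ?_
    rintro _ ⟨a, rfl⟩
    have hca : c a = φ k * f (p01 a) * (φ k)⁻¹ := by
      show f (K * p01 a * K⁻¹) = _
      rw [map_mul, map_mul, map_inv, hK]
    obtain ⟨b, hb⟩ : f (p01 a) ∈ (φ.comp (e01 hF)).range := by rw [hφ.r01, ← hM]; exact ⟨a, rfl⟩
    obtain ⟨d, hd⟩ := embH_surj hF (Fin.succ_injective 2) (g := suEquiv hF (k * e01 hF b * k⁻¹)) fun j hj => by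
      have hj0 : j = 0 := by
        by_contra h0
        exact hj ⟨j.pred h0, Fin.succ_pred j h0⟩
      rw [hj0, ← hk2, map_mul, map_mul, map_inv, mul_smul, mul_smul, inv_smul_smul,
        show suEquiv hF (e01 hF b) • (E 2 : Fin 3 → F) = E 2 from embH_fix hF _ b not_range_01]
    have hd' : e12 hF d = k * e01 hF b * k⁻¹ := (suEquiv hF (n := 3)).injective hd
    rw [hca, ← hb, ← hφ.r12]
    exact ⟨d, by show φ (e12 hF d) = φ k * φ (e01 hF b) * (φ k)⁻¹; rw [hd', map_mul, map_mul, map_inv]⟩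
  -- the central involution of the first subgroup normalises the middle one
  set d := p01 (negOne hF) with hd
  have hdd : d * d = 1 := by
    rw [hd, ← map_mul, ← map_one p01]
    congr 1
    refine su2_ext hF ?_ ?_ <;> simp only [Subgroup.coe_mul, Matrix.SpecialLinearGroup.coe_mul] <;>
      simp [negOne, mk2, Matrix.mul_apply, Fin.sum_univ_two]
  have hdinv : d⁻¹ = d := inv_eq_of_mul_eq_one_left hdd
  have hnorm : ∀ y ∈ U', f d * y * (f d)⁻¹ ∈ U' := by
    obtain ⟨e, he⟩ : f d ∈ (φ.comp (e01 hF)).range := by rw [hφ.r01, ← hM]; exact ⟨_, rfl⟩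
    obtain ⟨t, ht0, ht⟩ := exists_torus hF
    obtain ⟨s, hs⟩ : φ.comp (e01 hF) t ∈ (f.comp p01).range := by rw [hM, ← hφ.r01]; exact ⟨t, rfl⟩
    have het : e * t = t * e := by
      refine hφ.inj01 ?_
      rw [map_mul, map_mul, he, ← hs]
      show f d * f (p01 s) = f (p01 s) * f d
      rw [← map_mul f, ← map_mul f, hd, ← map_mul p01, ← map_mul p01]
      congr 2
      obtain ⟨s1, s2, -⟩ := su2_shape hF s
      refine su2_ext hF ?_ ?_ <;> simp only [Subgroup.coe_mul, Matrix.SpecialLinearGroup.coe_mul] <;>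
        simp [negOne, mk2, Matrix.mul_apply, Fin.sum_univ_two]
    have e' := congrArg (fun x : Cfsg.SU 2 F 3 => x.1.1 0 1) het
    obtain ⟨t1, -, -⟩ := su2_shape hF t
    simp only [Subgroup.coe_mul, Matrix.SpecialLinearGroup.coe_mul] at e'
    simp [Matrix.mul_apply, Fin.sum_univ_two, ht0, t1] at e'
    have he0 : e.1.1 0 1 = 0 := by
      have h0 : e.1.1 0 1 * (Forms.qEnd hF (t.1.1 0 0) - t.1.1 0 0) = 0 := by linear_combination e'
      exact (mul_eq_zero.1 h0).resolve_right (sub_ne_zero.2 (Ne.symm ht))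
    intro y hy
    rw [← he]
    exact hφ.normalise_of_diag he0 hy
  let W : Submodule F (Fin 4 → F) :=
    { carrier := {v | ∀ a, suEquiv hF (K * p01 a * K⁻¹) • v = v}
      zero_mem' := fun a => smul_zero _
      add_mem' := fun {u v} hu hv a => by rw [su_add, hu a, hv a]
      smul_mem' := fun s v hv a => by rw [su_scal, hv a] }
  set D := suEquiv hF d with hD
  have hD2 : ∀ v : Fin 4 → F, D • D • v = v := fun v => by rw [← mul_smul, hD, ← map_mul, hdd, map_one, one_smul]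
  have hWD : ∀ v ∈ W, D • v ∈ W := by
    intro v hv a
    have hle : (⊤ : Subgroup (Cfsg.SU 2 F 3)) ≤ (MulAction.stabilizer (SUH (Forms.hermB hF 4)) (D • v)).comap
        ((suEquiv hF (n := 4)).toMonoidHom.comp ((MulAut.conj K).toMonoidHom.comp p01)) := by
      rw [← su2_cube_gen hF, Subgroup.closure_le]
      intro b hb
      show suEquiv hF (K * p01 b * K⁻¹) • (D • v) = D • v
      obtain ⟨b', hb'⟩ : f (d * (K * p01 b * K⁻¹) * d⁻¹) ∈ c.range := by
        rw [map_mul, map_mul, map_inv, hcr]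
        exact hnorm _ (hcr ▸ ⟨b, rfl⟩)
      have hx3 : (d * (K * p01 b * K⁻¹) * d⁻¹) ^ 3 = 1 := by
        rw [conj_pow, conj_pow, ← map_pow, hb, map_one, mul_one, mul_inv_cancel, mul_one, mul_inv_cancel]
      have hb'3 : b' ^ 3 = 1 := hci (by rw [map_pow, hb', ← map_pow, hx3, map_one, map_one])
      have e := cube_unique hF hf (x := K * p01 b' * K⁻¹) (by rw [conj_pow, ← map_pow, hb'3, map_one, mul_one, mul_inv_cancel])
        hx3 hb'
      have e2 : K * p01 b * K⁻¹ * d = d * (K * p01 b' * K⁻¹) := by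
        rw [e, hdinv]
        calc K * p01 b * K⁻¹ * d = (d * d) * (K * p01 b * K⁻¹) * d := by rw [hdd, one_mul]
          _ = _ := by group
      rw [hD, ← mul_smul, ← map_mul, e2, map_mul, mul_smul, hv b']
    exact hle (Subgroup.mem_top a)
  -- eigen units
  have hWK : ∀ l : Fin 4, l ≠ 0 → l ≠ 1 → suEquiv hF K • (E l : Fin 4 → F) ∈ W := fun l h0 h1 a => by
    rw [map_mul, map_mul, map_inv, mul_smul, mul_smul, inv_smul_smul, pair4_fix hF _ a h0 h1]
  have sep : ∀ v ∈ W, v ≠ 0 → ∃ y ∈ W, Forms.hermB hF 4 v y ≠ 0 := by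
    intro v hv hv0
    by_contra hc0
    push Not at hc0
    refine hv0 (smul_left_cancel (suEquiv hF K)⁻¹ ?_)
    rw [smul_zero]
    set u := (suEquiv hF K)⁻¹ • v with hu
    have hKu : suEquiv hF K • u = v := smul_inv_smul _ _
    have hzero : ∀ l : Fin 4, l ≠ 0 → l ≠ 1 → u l = 0 := fun l h0 h1 => by
      rw [← hE_left hF l u]
      refine (hermB_isUnitary hF).comm_zero ?_
      rw [← su_form (suEquiv hF K), hKu]
      exact hc0 _ (hWK l h0 h1)
    have hn : suEquiv hF (p01 (negOne hF)) • u = u := by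
      have e := hv (negOne hF)
      rw [map_mul, map_mul, map_inv, mul_smul, mul_smul, ← hu] at e
      exact smul_left_cancel (suEquiv hF K) (e.trans hKu.symm)
    funext l
    by_cases h01 : l = 0 ∨ l = 1
    · refine eq_zero_of_neg hF ((congrFun hn l).symm.trans (coord_neg ?_ u))
      rcases h01 with rfl | rfl
      · rw [pair4_col hF]; simp [negOne, mk2]
      · rw [pair4_col' hF]; simp [negOne, mk2]
    · push Not at h01
      exact hzero l h01.1 h01.2
  have dE : ∀ l : Fin 4, (l = 0 ∨ l = 1) → D • (E l : Fin 4 → F) = -E l := by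
    rintro l (rfl | rfl)
    · rw [hD, hd, pair4_col hF]; simp [negOne, mk2]
    · rw [hD, hd, pair4_col' hF]; simp [negOne, mk2]
  have dE' : ∀ l : Fin 4, l ≠ 0 → l ≠ 1 → D • (E l : Fin 4 → F) = E l := fun l h0 h1 =>
    pair4_fix hF _ _ h0 h1
  have absurd_le : ∀ (i j : Fin 4) (h : i ≠ j),
      (∀ a, ∀ l : Fin 4, l ≠ 0 → l ≠ 1 → suEquiv hF (pair4 hF i j h a) • (suEquiv hF K • (E l : Fin 4 → F)) =
        suEquiv hF K • (E l : Fin 4 → F)) →
      (f.comp (pair4 hF i j h)).range ≤ U' := by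
    intro i j h hfixK
    rintro _ ⟨a, rfl⟩
    obtain ⟨b, hb⟩ := (mem_range_pair4 hF (show (0 : Fin 4) ≠ 1 by decide) (K⁻¹ * pair4 hF i j h a * K)).2
      fun l h0 h1 => by rw [map_mul, map_mul, map_inv, mul_smul, mul_smul, hfixK a l h0 h1, inv_smul_smul]
    rw [← hcr]
    refine ⟨b, ?_⟩
    show f (K * p01 b * K⁻¹) = f (pair4 hF i j h a)
    rw [hb]
    congr 1
    group
  obtain ⟨vn, hvnW, hvn⟩ : ∃ v ∈ W, D • v - v ≠ 0 := by
    by_contra hc0
    push Not at hc0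
    refine hφ.not_le (hM ▸ absurd_le 0 1 (by decide) fun a l h0 h1 => ?_)
    have e := sub_eq_zero.1 (hc0 _ (hWK l h0 h1))
    have z : ∀ m : Fin 4, (m = 0 ∨ m = 1) → (suEquiv hF K • (E l : Fin 4 → F)) m = 0 := fun m hm =>
      eq_zero_of_neg hF ((congrFun e m).symm.trans (coord_neg (dE m hm) _))
    funext m
    by_cases hm : m = 0 ∨ m = 1
    · set u := suEquiv hF K • (E l : Fin 4 → F)
      obtain ⟨m', rfl⟩ : ∃ m' : Fin 2, (![0, 1] : Fin 2 → Fin 4) m' = m := by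
        rcases hm with rfl | rfl
        exacts [⟨0, rfl⟩, ⟨1, rfl⟩]
      refine (embH_in hF _ a u m').trans (Eq.trans ?_ (z _ hm).symm)
      rw [show u ∘ (![0, 1] : Fin 2 → Fin 4) = 0 from funext fun p => by fin_cases p <;> exact z _ (by simp),
        Matrix.mulVec_zero, Pi.zero_apply]
    · push Not at hm
      exact coord_fix (pair4_fix hF _ a hm.1 hm.2) _
  obtain ⟨vp, hvpW, hvp⟩ : ∃ v ∈ W, D • v + v ≠ 0 := by
    by_contra hc0
    push Not at hc0
    refine hφ'.not_ge (hM' ▸ absurd_le 2 3 (by decide) fun a l h0 h1 => ?_)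
    have e := eq_neg_of_add_eq_zero_left (hc0 _ (hWK l h0 h1))
    have z : ∀ m : Fin 4, (m ≠ 0 ∧ m ≠ 1) → (suEquiv hF K • (E l : Fin 4 → F)) m = 0 := fun m hm =>
      eq_zero_of_neg hF ((coord_fix (dE' m hm.1 hm.2) _).symm.trans (congrFun e m))
    funext m
    by_cases hm : m = 2 ∨ m = 3
    · set u := suEquiv hF K • (E l : Fin 4 → F)
      obtain ⟨m', rfl⟩ : ∃ m' : Fin 2, (![2, 3] : Fin 2 → Fin 4) m' = m := by
        rcases hm with rfl | rfl
        exacts [⟨0, rfl⟩, ⟨1, rfl⟩]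
      refine (embH_in hF _ a u m').trans (Eq.trans ?_ (z _ ?_).symm)
      · rw [show u ∘ (![2, 3] : Fin 2 → Fin 4) = 0 from funext fun p => by
          fin_cases p <;> exact z _ (by decide), Matrix.mulVec_zero, Pi.zero_apply]
      · fin_cases m' <;> decide
    · push Not at hm
      exact coord_fix (pair4_fix hF _ a hm.1 hm.2) _
  obtain ⟨yn, hynW, hyn⟩ := sep _ (W.sub_mem (hWD _ hvnW) hvnW) hvn
  obtain ⟨un, hunW, hun, hgun⟩ := eigen_unit W hD2 hWD (Or.inr rfl) (W.sub_mem (hWD _ hvnW) hvnW)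
    (show D • (D • vn - vn) = (-1 : F) • (D • vn - vn) by rw [su_sub, hD2, neg_one_smul, neg_sub]) hynW hyn
  obtain ⟨yp, hypW, hyp⟩ := sep _ (W.add_mem (hWD _ hvpW) hvpW) hvp
  obtain ⟨up, hupW, hup, hgup⟩ := eigen_unit W hD2 hWD (Or.inl rfl) (W.add_mem (hWD _ hvpW) hvpW)
    (show D • (D • vp + vp) = (1 : F) • (D • vp + vp) by rw [su_add, hD2, one_smul, add_comm]) hypW hyp
  obtain ⟨an, han⟩ := exists_pair4_move hF (show (0 : Fin 4) ≠ 1 by decide) hun fun l h0 h1 =>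
    eq_zero_of_neg hF ((coord_fix (dE' l h0 h1) un).symm.trans (by rw [hgun]; simp))
  obtain ⟨ap, hap⟩ := exists_pair4_move hF (show (3 : Fin 4) ≠ 2 by decide) hup fun l h3 h2 =>
    eq_zero_of_neg hF (Eq.trans (by rw [hgup, one_smul]) (coord_neg (dE l (by
      fin_cases l
      exacts [Or.inl rfl, Or.inr rfl, absurd rfl h2, absurd rfl h3])) up))
  set A := p01 an
  set B := pair4 hF (3 : Fin 4) 2 (by decide) ap
  set H := A * B
  set f' := f.comp (MulAut.conj H⁻¹).toMonoidHom with hf'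
  have hB : B ∈ p23.range := (mem_range_pair4 hF _ B).2 fun l h1 h2 => pair4_fix hF _ ap h2 h1
  obtain ⟨ap', hap'⟩ := hB
  have hAB : A * B = B * A := (pair4_commute hF _ _ (by decide) (by decide) (by decide) (by decide) an ap).eq
  have hH0 : suEquiv hF H • un = E 0 := by
    rw [show H = B * A from hAB, map_mul, mul_smul, han]
    exact pair4_fix hF _ ap (by decide) (by decide)
  have hH3 : suEquiv hF H • up = E 3 := by
    rw [map_mul, mul_smul, hap]
    exact pair4_fix hF _ an (by decide) (by decide)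
  have h01' : (f'.comp p01).range = U := by
    refine range_eq_of_le (inj_pair4 hF (ker_comp_conj hf H⁻¹) _) hφ.r01 ?_
    rintro _ ⟨a, rfl⟩
    rw [← hM]
    refine ⟨an⁻¹ * a * an, ?_⟩
    show f (p01 (an⁻¹ * a * an)) = f (H⁻¹ * p01 a * H⁻¹⁻¹)
    congr 1
    have e : B⁻¹ * p01 (an⁻¹ * a * an) = p01 (an⁻¹ * a * an) * B⁻¹ :=
      ((pair4_commute hF _ _ (by decide) (by decide) (by decide) (by decide) _ ap).inv_right).eq.symm
    calc p01 (an⁻¹ * a * an) = B⁻¹ * p01 (an⁻¹ * a * an) * B := by rw [e, inv_mul_cancel_right]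
      _ = _ := by rw [map_mul, map_mul, map_inv, show p01 an = A from rfl, show H = A * B from rfl, inv_inv, _root_.mul_inv_rev]; group
  have h23' : (f'.comp p23).range = U'' := by
    refine range_eq_of_le (inj_pair4 hF (ker_comp_conj hf H⁻¹) _) hφ'.r12 ?_
    rintro _ ⟨a, rfl⟩
    rw [← hM']
    refine ⟨ap'⁻¹ * a * ap', ?_⟩
    show f (p23 (ap'⁻¹ * a * ap')) = f (H⁻¹ * p23 a * H⁻¹⁻¹)
    congr 1
    have e : A⁻¹ * p23 a = p23 a * A⁻¹ :=
      ((pair4_commute hF _ _ (by decide) (by decide) (by decide) (by decide) an a).inv_left).eq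
    calc p23 (ap'⁻¹ * a * ap') = B⁻¹ * (p23 a * A⁻¹ * A) * B := by rw [map_mul, map_mul, map_inv, hap']; group
      _ = _ := by rw [← e, show H = A * B from rfl, inv_inv, _root_.mul_inv_rev]; group
  have h12' : (f'.comp (pair4 hF 1 2 (by decide))).range = U' := by
    refine eq_range_of_le hci hcr ?_
    rw [← hcr]
    rintro _ ⟨a, rfl⟩
    obtain ⟨b, hb⟩ := (mem_range_pair4 hF (show (1 : Fin 4) ≠ 2 by decide) (H * (K * p01 a * K⁻¹) * H⁻¹)).2
      fun l h1 h2 => by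
        fin_cases l
        · show _ • (E 0 : Fin 4 → F) = E 0
          rw [← hH0, map_mul, map_mul, map_inv, mul_smul, mul_smul, inv_smul_smul, hunW a]
        · exact absurd rfl h1
        · exact absurd rfl h2
        · show _ • (E 3 : Fin 4 → F) = E 3
          rw [← hH3, map_mul, map_mul, map_inv, mul_smul, mul_smul, inv_smul_smul, hupW a]
    refine ⟨b, ?_⟩
    show f (H⁻¹ * pair4 hF 1 2 _ b * H⁻¹⁻¹) = f (K * p01 a * K⁻¹)
    rw [hb]
    congr 1
    group
  have hker' := ker_comp_conj hf H⁻¹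
  obtain ⟨hs, hs'⟩ := std_of_blocks hF (sup_blocks hF le_rfl) hker' (std_sup_three hF hφ) (std_sup_three hF hφ')
    h01' h12' h23'
  obtain ⟨i1, i2⟩ := inj_e012 hF hker'
  refine fit_four hF (fix_prime_three hF) ?_ hφ hφ' iφ (std_injective_three hF hφ') hcompat f' hs hs' i1 i2
  intro α β _ _ _ h1 h2
  refine MonoidHom.eq_of_eqOn_top fun x _ => ?_
  have hle : (e01 hF).range ⊔ (e12 hF).range ≤ α.eqLocus β :=
    sup_le (by rintro _ ⟨y, rfl⟩; exact h1 y) (by rintro _ ⟨y, rfl⟩; exact h2 y)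
  rw [sup_blocks hF le_rfl] at hle
  exact hle (Subgroup.mem_top x)

end Cfsg.Agent.PhanAmalgam
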