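/-
Area PhanAmalgam: two subgroups `SU₂(q)` generating `SU₃(q)` and containing commuting cyclic tori form a standard pair.
-/
import Cfsg.Agent.Lib.PhanAmalgam.SubTwo

set_option autoImplicit false

open scoped Matrix

namespace Cfsg.Agent.PhanAmalgam

open Cfsg.Agent.ClassicalSimple

variable {F : Type*} [Field F] [Fintype F] {q : ℕ} (hF : Fintype.card F = q ^ 2)

include hF in
/-- An element of `SU₂` fixing a non-zero vector has order dividing the characteristic. -/
theorem su2_fixed_pow {p : ℕ} [Fact p.Prime] [CharP F p] {x : Cfsg.SU 2 F q} {w : Fin 2 → F} (hw : w ≠ 0)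
    (hx : x.1.1 *ᵥ w = w) : x ^ p = 1 := by
  obtain ⟨x1, x2, -⟩ := su2_shape hF x
  set N := x.1.1 - 1 with hN
  have hdet : N.det = 0 := Matrix.exists_mulVec_eq_zero_iff.1 ⟨w, hw, by rw [hN, Matrix.sub_mulVec, hx,
    Matrix.one_mulVec, sub_self]⟩
  have hN2 : N ^ 2 = 0 := by
    have htr : N 0 0 + N 1 1 = 0 := by
      have hd := x.1.2
      rw [Matrix.det_fin_two] at hdet hd
      simp only [hN, Matrix.sub_apply, Matrix.one_apply_eq, Matrix.one_apply_ne (show (0 : Fin 2) ≠ 1 by decide),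
        Matrix.one_apply_ne (show (1 : Fin 2) ≠ 0 by decide)] at hdet ⊢
      linear_combination hd - hdet
    rw [Matrix.det_fin_two] at hdet
    rw [pow_two]
    ext i j
    fin_cases i <;> fin_cases j <;> simp [Matrix.mul_apply, Fin.sum_univ_two]
    · linear_combination N 0 0 * htr - hdet
    · linear_combination N 0 1 * htr
    · linear_combination N 1 0 * htr
    · linear_combination N 1 1 * htr - hdet
  have hp : 2 ≤ p := (Fact.out : p.Prime).two_le
  refine Subtype.ext (Subtype.ext ?_)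
  rw [SubmonoidClass.coe_pow, Matrix.SpecialLinearGroup.coe_pow]
  show x.1.1 ^ p = 1
  have e : N ^ p = x.1.1 ^ p - 1 := by
    rw [hN, sub_pow_char_of_commute p (Commute.one_right _), one_pow]
  rw [show p = 2 + (p - 2) by omega, pow_add, hN2, zero_mul, show 2 + (p - 2) = p by omega] at e
  exact sub_eq_zero.1 e.symm

/-- The fixed space of an element of order `q + 1` of the stabiliser of a unit is a line. -/
theorem fixed_line {c : SUH (Forms.hermB hF 3)} {a : Fin 3 → F} (ha : Forms.hermB hF 3 a a = 1) (hca : c • a = a)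
    (hord : orderOf c = q + 1) {w : Fin 3 → F} (hw : c • w = w) : ∃ r : F, w = r • a := by
  obtain ⟨g, hg⟩ := exists_to_E hF a ha 0
  obtain ⟨x, hx⟩ := embH_surj hF (Fin.succ_injective 2) (g := g * c * g⁻¹) fun j hj => by
    have hj0 : j = 0 := by
      by_contra h0
      exact hj ⟨j.pred h0, Fin.succ_pred j h0⟩
    rw [hj0, ← hg, mul_smul, mul_smul, inv_smul_smul, hca]
  set u := g • w with hu
  have hfix : embH hF (Fin.succ_injective 2) x • u = u := by
    rw [hx, hu, mul_smul, mul_smul, inv_smul_smul, hw]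
  by_cases hz : u ∘ Fin.succ = 0
  · refine ⟨u 0, smul_left_cancel g ?_⟩
    rw [← hu, su_scal, hg]
    funext i
    refine Fin.cases ?_ (fun j => ?_) i
    · simp
    · rw [show u j.succ = 0 from congrFun hz j, Pi.smul_apply, E_apply, if_neg (Fin.succ_ne_zero j), smul_zero]
  exfalso
  obtain ⟨p, k, hp, hpF, hk⟩ := Forms.exists_prime_pow_q hF
  haveI := Fact.mk hp
  have hxp := su2_fixed_pow hF (p := p) hz (funext fun j => by
    have e := congrFun hfix j.succ
    rw [embH_in] at e
    exact e)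
  have hcp : c ^ p = 1 := by
    have e : (g * c * g⁻¹) ^ p = 1 := by rw [← hx, ← map_pow, hxp, map_one]
    rwa [conj_pow, conj_eq_one_iff] at e
  have hdvd := orderOf_dvd_of_pow_eq_one hcp
  rw [hord] at hdvd
  rcases hp.eq_one_or_self_of_dvd _ hdvd with e | e
  · have := Forms.one_lt_q hF; omega
  · rcases Nat.eq_zero_or_pos k with h0 | h0
    · have := Forms.one_lt_q hF; subst h0; simp at hk; omega
    · have := Nat.le_self_pow h0.ne' p; omega

theorem fix_iff {m : ℕ} {f : Fin m → Fin 3} (hf : Function.Injective f) {j : Fin 3}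
    (hj : ∀ i, i ∉ Set.range f ↔ i = j) (g : SUH (Forms.hermB hF 3)) :
    g • (E j : Fin 3 → F) = E j ↔ ∃ x, embH hF hf x = g := by
  refine ⟨fun h => embH_surj hF hf fun i hi => by rw [(hj i).1 hi, h], ?_⟩
  rintro ⟨x, rfl⟩
  exact embH_fix hF hf x ((hj j).2 rfl)

include hF in
/-- The standard pair deduced from commuting tori. -/
theorem pair_of_tori {G : Type*} [Group G] {U U' : Subgroup G} (hq : 4 ≤ q) (e : Cfsg.SU 2 F q ≃* U)
    (e' : Cfsg.SU 2 F q ≃* U') (ψ : ↥(U ⊔ U') ≃* Cfsg.SU 3 F q) {D D' : Subgroup G} (hD : D ≤ U) (hD' : D' ≤ U')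
    (hDc : IsCyclic D) (hDc' : IsCyclic D') (hDn : Nat.card D = q + 1) (hDn' : Nat.card D' = q + 1)
    (hcomm : ∀ x ∈ D, ∀ y ∈ D', x * y = y * x) :
    Cfsg.IsStandardUnitaryPair (U ⊔ U') U U' F q := by
  set h := Forms.hermB hF 3
  set W := U ⊔ U'
  let η : ↥W ≃* SUH h := ψ.trans (suEquiv hF)
  let ρ : SUH h →* G := W.subtype.comp η.symm.toMonoidHom
  have hρinj : Function.Injective ρ := W.subtype_injective.comp η.symm.injective
  have hρrange : ρ.range = W := by
    rw [MonoidHom.range_comp, MonoidHom.range_eq_top.2 η.symm.surjective, ← MonoidHom.range_eq_map,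
      Subgroup.range_subtype]
  -- the preimages
  have stab : ∀ (X : Subgroup G) (eX : Cfsg.SU 2 F q ≃* X), X ≤ W →
      ∃ a, h a a = 1 ∧ ∀ g, ρ g ∈ X ↔ g • a = a := by
    intro X eX hX
    have hmap : (X.comap ρ).map ρ = X := Subgroup.map_comap_eq_self (hρrange.symm ▸ hX)
    exact exists_stab hF hq (eX.trans ((MulEquiv.subgroupCongr hmap).symm.trans
      (Subgroup.equivMapOfInjective _ ρ hρinj).symm))
  obtain ⟨a, ha, hA⟩ := stab U e le_sup_left
  obtain ⟨b, hb, hB⟩ := stab U' e' le_sup_right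
  -- generators of the tori
  have gen : ∀ (T : Subgroup G), IsCyclic T → Nat.card T = q + 1 → T ≤ W →
      ∃ c : SUH h, ρ c ∈ T ∧ orderOf c = q + 1 := by
    intro T hT hn hTW
    obtain ⟨t, ht⟩ := hT.exists_zpow_surjective
    obtain ⟨c, hc⟩ : (t : G) ∈ ρ.range := hρrange.symm ▸ hTW t.2
    refine ⟨c, hc ▸ t.2, ?_⟩
    rw [← orderOf_injective ρ hρinj, hc, Subgroup.orderOf_coe, orderOf_eq_card_of_forall_mem_zpowers ht, hn]
  obtain ⟨c, hcD, hc⟩ := gen D hDc hDn (hD.trans le_sup_left)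
  obtain ⟨d, hdD, hd⟩ := gen D' hDc' hDn' (hD'.trans le_sup_right)
  have hca : c • a = a := (hA c).1 (hD hcD)
  have hdb : d • b = b := (hB d).1 (hD' hdD)
  have hcd : c * d = d * c := hρinj (by rw [map_mul, map_mul]; exact hcomm _ hcD _ hdD)
  obtain ⟨r, hr⟩ := fixed_line hF hb hdb hd (w := c • b) (by rw [← mul_smul, ← hcd, mul_smul, hdb])
  have hab : h a b = 0 := by
    by_contra hne
    have e1 := su_form c a b
    rw [hca, hr, map_smul, smul_eq_mul] at e1
    have hr1 : r = 1 := mul_right_cancel₀ hne (by rw [e1, one_mul])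
    rw [hr1, one_smul] at hr
    obtain ⟨s, hs⟩ := fixed_line hF ha hca hc hr
    -- then `U' = U` and everything fixes `a`
    have hs0 : s ≠ 0 := fun h0 => by rw [hs, h0, zero_smul, map_zero] at hb; exact zero_ne_one hb
    have hall : ∀ g : SUH h, g • a = a := by
      intro g
      have hle : W ≤ (fix h {a}).map ρ := by
        refine sup_le ?_ ?_ <;> intro x hx
        · obtain ⟨y, rfl⟩ : x ∈ ρ.range := hρrange.symm ▸ Subgroup.mem_sup_left hx
          exact ⟨y, fun v hv => by rw [Set.mem_singleton_iff] at hv; subst hv; exact (hA y).1 hx, rfl⟩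
        · obtain ⟨y, rfl⟩ : x ∈ ρ.range := hρrange.symm ▸ Subgroup.mem_sup_right hx
          refine ⟨y, fun v hv => ?_, rfl⟩
          rw [Set.mem_singleton_iff] at hv; subst hv
          have e2 := (hB y).1 hx
          rw [hs, su_scal] at e2
          exact smul_right_injective _ hs0 e2
      obtain ⟨y, hy, hyg⟩ := hle (hρrange ▸ ⟨g, rfl⟩ : ρ g ∈ W)
      exact hρinj hyg ▸ hy a rfl
    obtain ⟨g0, hg0⟩ := exists_to_E hF a ha 0
    obtain ⟨g1, hg1⟩ := exists_to_E hF a ha 1
    rw [hall] at hg0 hg1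
    have := congrFun (hg0.symm.trans hg1) 0
    simp at this
  -- conjugate to the standard position
  obtain ⟨g, hga⟩ := exists_to_E hF a ha 2
  have hgb2 : (g • b) 2 = 0 := by rw [← hE_left hF (2 : Fin 3) (g • b), ← hga, su_form, hab]
  obtain ⟨g', hg', hgc'⟩ := exists_move (hermB_isUnitary hF) (orth h {(E 2 : Fin 3 → F)})
    (w := g • b) (w' := E 0) (d := E 1)
    (fun x hx => by rw [Set.mem_singleton_iff] at hx; subst hx; rw [hE_left, hgb2])
    (fun x hx => by rw [Set.mem_singleton_iff] at hx; subst hx; rw [hE_E, if_neg (by decide)])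
    (fun x hx => by rw [Set.mem_singleton_iff] at hx; subst hx; rw [hE_E, if_neg (by decide)])
    (by rw [su_form]; exact hb) (by simp [h, hE_E]) (by simp [h, hE_E]) (by simp [h, hE_E])
  set k := g' * g with hk
  have hka : k • a = E 2 := by rw [hk, mul_smul, hga]; exact hgc' _ fun x hx => hx _ rfl
  have hkb : k • b = E 0 := by rw [hk, mul_smul, hg']
  let Ψ : Cfsg.SU 3 F q ≃* ↥W := ((suEquiv hF (n := 3)).trans (MulAut.conj k⁻¹)).trans η.symm
  have hΨ : ∀ y, (Ψ y : G) = ρ (k⁻¹ * suEquiv hF y * k) := fun y => by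
    simp [Ψ, ρ]
  have main : ∀ {m : ℕ} {f : Fin m → Fin 3} (hf : Function.Injective f) (j : Fin 3) (v : Fin 3 → F) (X : Subgroup G),
      (∀ i, i ∉ Set.range f ↔ i = j) → X ≤ W → k • v = E j → (∀ g, ρ g ∈ X ↔ g • v = v) →
      (embS hF hf).range.map (W.subtype.comp Ψ.toMonoidHom) = X := by
    intro m f hf j v X hj hX hv hXv
    refine le_antisymm ?_ fun x hx => ?_
    · rintro _ ⟨_, ⟨y, rfl⟩, rfl⟩
      show (Ψ (embS hF hf y) : G) ∈ X
      rw [hΨ, hXv, mul_smul, mul_smul, hv,
        show suEquiv hF (embS hF hf y) • (E j : Fin 3 → F) = E j from embH_fix hF hf y ((hj j).2 rfl), ← hv,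
        inv_smul_smul]
    · obtain ⟨y, rfl⟩ : x ∈ ρ.range := hρrange.symm ▸ hX hx
      obtain ⟨z, hz⟩ := (fix_iff hF hf hj (k * y * k⁻¹)).1 (by
        rw [← hv, mul_smul, mul_smul, inv_smul_smul, (hXv y).1 hx])
      refine ⟨embS hF hf z, ⟨z, rfl⟩, ?_⟩
      show (Ψ (embS hF hf z) : G) = ρ y
      rw [hΨ, show suEquiv hF (embS hF hf z) = k * y * k⁻¹ from hz]
      congr 1
      group
  refine Or.inl ⟨Ψ, ?_, ?_⟩
  · rw [suBlock_01 hF]
    exact main (Fin.castSucc_injective 2) 2 a U (fun i => by fin_cases i <;> simp [Fin.ext_iff, Fin.exists_fin_two])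
      le_sup_left hka hA
  · rw [suBlock_12 hF]
    exact main (Fin.succ_injective 2) 0 b U' (fun i => by fin_cases i <;> simp [Fin.ext_iff, Fin.exists_fin_two])
      le_sup_right hkb hB

end Cfsg.Agent.PhanAmalgam
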