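/-
Area PhanAmalgam: `SU₂` and `SU₃` over the field with four elements and their block subgroups.
-/
import Cfsg.Agent.Lib.PhanAmalgam.Base

set_option autoImplicit false

open scoped Matrix

namespace Cfsg.Agent.PhanAmalgam

open Cfsg.Agent.ClassicalSimple

variable {F : Type*} [Field F] [Fintype F] (hF : Fintype.card F = 2 ^ 2)

include hF in
theorem charP_two : CharP F 2 := by
  obtain ⟨p, k, hp, hpF, hk⟩ := Forms.exists_prime_pow_q hF
  rcases k with _ | k
  · simp at hk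
  have : p = 2 := (Nat.prime_dvd_prime_iff_eq hp Nat.prime_two).1 (hk ▸ dvd_pow_self p (Nat.succ_ne_zero k))
  exact this ▸ hpF

include hF in
theorem two_eq_zero : (2 : F) = 0 := by
  haveI := charP_two hF
  exact CharP.cast_eq_zero F 2

include hF in
theorem cube_of_ne_zero {a : F} (ha : a ≠ 0) : a ^ 3 = 1 := by
  have := FiniteField.pow_card_sub_one_eq_one a ha
  rwa [hF] at this

theorem norm_two (a : F) : Forms.qEnd hF a * a = a ^ 3 := by
  rw [Forms.qEnd_apply, ← pow_succ]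

theorem norm_one_iff_two (a : F) : Forms.qEnd hF a * a = 1 ↔ a ≠ 0 :=
  ⟨fun h e => by simp [e] at h, fun h => (norm_two hF a).trans (cube_of_ne_zero hF h)⟩

theorem fix_prime_two (τ : F ≃+* F) (x : F) (hx : Forms.qEnd hF x = x) : τ x = x := by
  rw [Forms.qEnd_apply] at hx
  rcases mul_eq_zero.1 (show x * (x - 1) = 0 by linear_combination hx) with h | h
  · rw [h, map_zero]
  · rw [sub_eq_zero.1 h, map_one]

include hF in
/-- A primitive cube root of unity. -/
theorem exists_root_two : ∃ μ : F, μ ^ 3 = 1 ∧ μ ≠ 1 := by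
  obtain ⟨a, ha, ha1⟩ := exists_scalar_ne_one (hermB_isUnitary hF (n := 2))
  exact ⟨a, (norm_two hF a).symm.trans ha, ha1⟩

omit [Fintype F] in
theorem root_sum {μ : F} (hμ : μ ^ 3 = 1) (hμ1 : μ ≠ 1) : 1 + μ + μ ^ 2 = 0 :=
  (mul_eq_zero.1 (show (μ - 1) * (1 + μ + μ ^ 2) = 0 by linear_combination hμ)).resolve_left (sub_ne_zero.2 hμ1)

/-- The diagonal element of `SU₂`. -/
noncomputable def tor (μ : F) (hμ : μ ^ 3 = 1) : Cfsg.SU 2 F 2 :=
  mk2 hF μ 0 (by rw [map_zero, zero_mul, add_zero, norm_two, hμ])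

include hF in
theorem neg_eq_self (a : F) : -a = a := by linear_combination -a * two_eq_zero hF

include hF in
theorem wswap_sq : wswap (q := 2) hF * wswap hF = 1 := by
  refine su2_ext hF ?_ ?_ <;> simp only [Subgroup.coe_mul, Matrix.SpecialLinearGroup.coe_mul] <;>
    simp [wswap, mk2, Matrix.mul_apply, Fin.sum_univ_two, neg_eq_self hF]

include hF in
theorem su2_shape_two (x : Cfsg.SU 2 F 2) :
    (x.1.1 0 1 = 0 ∧ x.1.1 0 0 ≠ 0) ∨ (x.1.1 0 0 = 0 ∧ x.1.1 0 1 ≠ 0) := by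
  obtain ⟨-, -, h⟩ := su2_shape hF x
  by_cases ha : x.1.1 0 0 = 0
  · exact Or.inr ⟨ha, fun hb => by simp [ha, hb] at h⟩
  · refine Or.inl ⟨?_, ha⟩
    by_contra hb
    rw [(norm_one_iff_two hF _).2 ha, (norm_one_iff_two hF _).2 hb, add_eq_left] at h
    exact one_ne_zero h

include hF in
/-- A subgroup containing the two standard generators is everything. -/
theorem su2_top_of_gens {M : Subgroup (Cfsg.SU 2 F 2)} {μ : F} (hμ : μ ^ 3 = 1) (hμ1 : μ ≠ 1)
    (ht : tor hF μ hμ ∈ M) (hs : wswap hF ∈ M) : M = ⊤ := by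
  have hdiag : ∀ x : Cfsg.SU 2 F 2, x.1.1 0 1 = 0 → x ∈ M := by
    intro x hx
    have h0 : x.1.1 0 0 ≠ 0 := ((su2_shape_two hF x).resolve_right fun h => h.2 hx).2
    have hc := cube_of_ne_zero hF h0
    have hS := root_sum hμ hμ1
    have h : (x.1.1 0 0 - 1) * ((x.1.1 0 0 - μ) * (x.1.1 0 0 - μ * μ)) = 0 := by
      linear_combination hc + (x.1.1 0 0 * μ - x.1.1 0 0 * x.1.1 0 0) * hS - hμ
    have hμμ : (tor hF μ hμ * tor hF μ hμ).1.1 0 0 = μ * μ ∧ (tor hF μ hμ * tor hF μ hμ).1.1 0 1 = 0 := by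
      simp only [Subgroup.coe_mul, Matrix.SpecialLinearGroup.coe_mul]
      simp [tor, mk2, Matrix.mul_apply, Fin.sum_univ_two]
    rcases mul_eq_zero.1 h with h | h
    · rw [su2_ext hF (x := x) (y := 1) (sub_eq_zero.1 h) hx]; exact one_mem M
    rcases mul_eq_zero.1 h with h | h
    · rw [su2_ext hF (x := x) (y := tor hF μ hμ) (sub_eq_zero.1 h) hx]; exact ht
    · rw [su2_ext hF (x := x) (y := tor hF μ hμ * tor hF μ hμ) ((sub_eq_zero.1 h).trans hμμ.1.symm)
        (hx.trans hμμ.2.symm)]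
      exact mul_mem ht ht
  rw [eq_top_iff]
  intro x _
  rcases su2_shape_two hF x with ⟨h, -⟩ | ⟨h, -⟩
  · exact hdiag x h
  · have hd : (wswap hF * x).1.1 0 1 = 0 := by
      obtain ⟨x1, -, -⟩ := su2_shape hF x
      simp only [Subgroup.coe_mul, Matrix.SpecialLinearGroup.coe_mul]
      simp [wswap, mk2, Matrix.mul_apply, Fin.sum_univ_two, x1, h]
    have e : x = wswap hF * (wswap hF * x) := by rw [← mul_assoc, wswap_sq hF, one_mul]
    rw [e]
    exact mul_mem hs (hdiag _ hd)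

include hF in
theorem su2_map_two {G : Type*} [Group G] {ψ : Cfsg.SU 2 F 2 →* G} {M : Subgroup G} {μ : F} (hμ : μ ^ 3 = 1)
    (hμ1 : μ ≠ 1) (ht : ψ (tor hF μ hμ) ∈ M) (hs : ψ (wswap hF) ∈ M) : ψ.range ≤ M := by
  rintro _ ⟨x, rfl⟩
  have : M.comap ψ = ⊤ := su2_top_of_gens hF hμ hμ1 ht hs
  exact (this ▸ Subgroup.mem_top x : x ∈ M.comap ψ)

include hF in
theorem su2_map_invol {G : Type*} [Group G] {ψ : Cfsg.SU 2 F 2 →* G} {M : Subgroup G}
    (h : ∀ a : Cfsg.SU 2 F 2, a * a = 1 → ψ a ∈ M) : ψ.range ≤ M := by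
  obtain ⟨μ, hμ, hμ1⟩ := exists_root_two hF
  refine su2_map_two hF hμ hμ1 ?_ (h _ (wswap_sq hF))
  have hm : (wswap hF * tor hF μ hμ) * (wswap hF * tor hF μ hμ) = 1 := by
    refine su2_ext hF ?_ ?_ <;> simp only [Subgroup.coe_mul, Matrix.SpecialLinearGroup.coe_mul] <;>
      simp [wswap, tor, mk2, Matrix.mul_apply, Fin.sum_univ_two, neg_eq_self hF, ← norm_two hF, hμ,
        (norm_two hF μ).trans hμ]
  have e : tor hF μ hμ = wswap hF * (wswap hF * tor hF μ hμ) := by rw [← mul_assoc, wswap_sq hF, one_mul]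
  rw [e, map_mul]
  exact mul_mem (h _ (wswap_sq hF)) (h _ hm)

theorem e01_colA (x : Cfsg.SU 2 F 2) (l : Fin 2) :
    suEquiv hF (e01 hF x) • (E l.castSucc : Fin 3 → F) = x.1.1 0 l • E 0 + x.1.1 1 l • E 1 := by
  funext i
  refine Fin.lastCases ?_ (fun k => ?_) i
  · refine (embH_out hF (Fin.castSucc_injective 2) x _ not_range_01).trans ?_
    fin_cases l <;> simp [E_apply, show (Fin.last 2 : Fin 3) = 2 from rfl]
  · refine (col_embS hF (Fin.castSucc_injective 2) x k l).trans ?_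
    fin_cases k <;> simp [E_apply]

theorem e12_colA (x : Cfsg.SU 2 F 2) (l : Fin 2) :
    suEquiv hF (e12 hF x) • (E l.succ : Fin 3 → F) = x.1.1 0 l • E 1 + x.1.1 1 l • E 2 := by
  funext i
  refine Fin.cases ?_ (fun k => ?_) i
  · refine (embH_out hF (Fin.succ_injective 2) x _ not_range_12).trans ?_
    fin_cases l <;> simp [E_apply]
  · refine (col_embS hF (Fin.succ_injective 2) x k l).trans ?_
    fin_cases k <;> simp [E_apply]

theorem e01_diagA {x : Cfsg.SU 2 F 2} (hx : x.1.1 0 1 = 0) :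
    suEquiv hF (e01 hF x) • (E 0 : Fin 3 → F) = x.1.1 0 0 • E 0 ∧
      suEquiv hF (e01 hF x) • (E 1 : Fin 3 → F) = Forms.qEnd hF (x.1.1 0 0) • E 1 := by
  obtain ⟨x1, x2, -⟩ := su2_shape hF x
  constructor
  · refine (e01_colA hF x 0).trans ?_
    rw [x2, hx, map_zero, neg_zero, zero_smul, add_zero]
  · refine (e01_colA hF x 1).trans ?_
    rw [x1, hx, zero_smul, zero_add]

theorem e12_diagA {x : Cfsg.SU 2 F 2} (hx : x.1.1 0 1 = 0) :
    suEquiv hF (e12 hF x) • (E 1 : Fin 3 → F) = x.1.1 0 0 • E 1 ∧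
      suEquiv hF (e12 hF x) • (E 2 : Fin 3 → F) = Forms.qEnd hF (x.1.1 0 0) • E 2 := by
  obtain ⟨x1, x2, -⟩ := su2_shape hF x
  constructor
  · refine (e12_colA hF x 0).trans ?_
    rw [x2, hx, map_zero, neg_zero, zero_smul, add_zero]
  · refine (e12_colA hF x 1).trans ?_
    rw [x1, hx, zero_smul, zero_add]

theorem mem_e12_of_fix {y : Cfsg.SU 3 F 2} (h : suEquiv hF y • (E 0 : Fin 3 → F) = E 0) :
    y ∈ (e12 hF).range := by
  obtain ⟨x, hx⟩ := embH_surj hF (Fin.succ_injective 2) (g := suEquiv hF y) fun j hj => by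
    have hj0 : j = 0 := by
      by_contra h0
      exact hj ⟨j.pred h0, Fin.succ_pred j h0⟩
    rw [hj0, h]
  exact ⟨x, (suEquiv hF (n := 3)).injective hx⟩

theorem mem_e01_of_fix {y : Cfsg.SU 3 F 2} (h : suEquiv hF y • (E 2 : Fin 3 → F) = E 2) :
    y ∈ (e01 hF).range := by
  obtain ⟨x, hx⟩ := embH_surj hF (Fin.castSucc_injective 2) (g := suEquiv hF y) fun j hj => by
    have hj2 : j = 2 := by
      fin_cases j
      exacts [absurd ⟨0, rfl⟩ hj, absurd ⟨1, rfl⟩ hj, rfl]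
    rw [hj2, h]
  exact ⟨x, (suEquiv hF (n := 3)).injective hx⟩

include hF in
/-- The involutions of `SU₃(2)` lie in the subgroup generated by the two blocks. -/
theorem invol_mem_blocks {x : Cfsg.SU 3 F 2} (hx : x * x = 1) : x ∈ (e01 hF).range ⊔ (e12 hF).range := by
  haveI := charP_two hF
  by_cases hx1 : x = 1
  · rw [hx1]; exact one_mem _
  obtain ⟨p, hp0, hpp, -, hfix⟩ := involution_centre hF (x := suEquiv hF x) (by rw [← map_mul, hx, map_one])
    (fun e => hx1 ((suEquiv hF (n := 3)).injective (e.trans (map_one _).symm)))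
  obtain ⟨j, hj⟩ : ∃ j, p j = 0 := by
    by_contra hc
    push Not at hc
    rw [hermB_sum, Fin.sum_univ_three, (norm_one_iff_two hF _).2 (hc 0), (norm_one_iff_two hF _).2 (hc 1),
      (norm_one_iff_two hF _).2 (hc 2)] at hpp
    exact one_ne_zero (α := F) (by linear_combination hpp - two_eq_zero hF)
  have hxj : suEquiv hF x • (E j : Fin 3 → F) = E j := by
    refine hfix _ ((hermB_isUnitary hF).comm_zero ?_)
    rw [hE_left, hj]
  fin_cases j
  · exact Subgroup.mem_sup_right (mem_e12_of_fix hF hxj)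
  · set S := e12 hF (wswap hF)
    have s2 : suEquiv hF S • (E 2 : Fin 3 → F) = E 1 := by
      rw [show (2 : Fin 3) = Fin.succ 1 from rfl, e12_colA]; simp [wswap, mk2]
    have hxj' : suEquiv hF x • (E 1 : Fin 3 → F) = E 1 := hxj
    have hS : S ∈ (e01 hF).range ⊔ (e12 hF).range := Subgroup.mem_sup_right ⟨_, rfl⟩
    have hconj : S⁻¹ * x * S ∈ (e01 hF).range := mem_e01_of_fix hF (by
      rw [map_mul, map_mul, map_inv, mul_smul, mul_smul, s2, hxj', inv_smul_eq_iff, s2])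
    have e : x = S * (S⁻¹ * x * S) * S⁻¹ := by group
    rw [e]
    exact mul_mem (mul_mem hS (Subgroup.mem_sup_left hconj)) (inv_mem hS)
  · exact Subgroup.mem_sup_left (mem_e01_of_fix hF hxj)

/-- The matrix of order four. -/
theorem exists_order_four {μ : F} (hμ : μ ^ 3 = 1) (hμ1 : μ ≠ 1) (hF : Fintype.card F = 2 ^ 2) :
    ∃ A : Cfsg.SU 3 F 2, A ^ 4 = 1 ∧ A.1.1 0 2 = 1 ∧ A.1.1 1 2 = μ ^ 2 ∧ A.1.1 2 2 = μ ∧
      A.1.1 = !![1, 1, 1; 1, μ, μ ^ 2; 1, μ ^ 2, μ] := by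
  have hS := root_sum hμ hμ1
  have h2 := two_eq_zero hF
  set M : Matrix (Fin 3) (Fin 3) F := !![1, 1, 1; 1, μ, μ ^ 2; 1, μ ^ 2, μ] with hM
  have hd : M.det = 1 := by
    rw [hM, Matrix.det_fin_three]
    simp
    linear_combination -μ * hμ + hS + (μ ^ 2 - 2 * μ - 1) * h2
  have hσ : Forms.qEnd hF μ = μ ^ 2 := Forms.qEnd_apply hF μ
  have hmem : (⟨M, hd⟩ : Matrix.SpecialLinearGroup (Fin 3) F) ∈ Cfsg.SU 3 F 2 := by
    refine (mem_SU_iff hF _).2 fun u v => ?_
    have hv : ∀ w : Fin 3 → F,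
        M *ᵥ w = ![w 0 + w 1 + w 2, w 0 + μ * w 1 + μ ^ 2 * w 2, w 0 + μ ^ 2 * w 1 + μ * w 2] := fun w => by
      funext i
      fin_cases i <;> simp [hM, Matrix.mulVec, dotProduct, Fin.sum_univ_three]
    show Forms.hermB hF 3 (M *ᵥ u) (M *ᵥ v) = Forms.hermB hF 3 u v
    rw [hv, hv, hermB_sum, hermB_sum, Fin.sum_univ_three, Fin.sum_univ_three]
    simp only [Matrix.cons_val, map_add, map_mul, map_pow, hσ]
    generalize Forms.qEnd hF (u 0) = a0
    generalize Forms.qEnd hF (u 1) = a1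
    generalize Forms.qEnd hF (u 2) = a2
    linear_combination (a0 * v 0 + μ ^ 3 * (a1 * v 1 + a2 * v 2)) * h2 +
      (μ ^ 3 * (a1 * v 1 + a2 * v 2) + (μ + μ ^ 2) * (a1 * v 2 + a2 * v 1)) * hμ +
      (a0 * v 1 + a0 * v 2 + (μ ^ 2 - μ + 1) * (a1 * v 0 + a2 * v 0) + a1 * v 2 + a2 * v 1) * hS
  have hsq : ∀ i j, (M * M) i j = (!![1, 0, 0; 0, 0, 1; 0, 1, 0] : Matrix (Fin 3) (Fin 3) F) i j := by
    intro i j
    fin_cases i <;> fin_cases j <;> simp [hM, Matrix.mul_apply, Fin.sum_univ_three]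
    · linear_combination h2
    · linear_combination hS
    · linear_combination hS
    · linear_combination hS
    · linear_combination (μ ^ 2 - μ + 1) * hS
    · linear_combination μ ^ 3 * h2
    · linear_combination hS
    · linear_combination μ ^ 3 * h2
    · linear_combination (μ ^ 2 - μ + 1) * hS
  refine ⟨⟨⟨M, hd⟩, hmem⟩, ?_, by simp [hM], by simp [hM], by simp [hM], hM⟩
  refine Subtype.ext (Subtype.ext ?_)
  show M ^ 4 = 1
  rw [show (4 : ℕ) = 2 * 2 from rfl, pow_mul, pow_two M, show M * M = !![1, 0, 0; 0, 0, 1; 0, 1, 0] from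
    Matrix.ext hsq, pow_two]
  ext i j
  fin_cases i <;> fin_cases j <;> simp [Matrix.mul_apply, Fin.sum_univ_three, Matrix.one_apply]

include hF in
set_option maxHeartbeats 1000000 in
/-- A subgroup containing the blocks and, for each product, an element whose last column has three nonzero
entries with that product is everything. -/
theorem top_of_reach {H : Subgroup (Cfsg.SU 3 F 2)} (hb : (e01 hF).range ⊔ (e12 hF).range ≤ H)
    (hZ : ∀ l : F, l ≠ 0 → ∃ Z ∈ H, Z.1.1 0 2 ≠ 0 ∧ Z.1.1 1 2 ≠ 0 ∧ Z.1.1 2 2 ≠ 0 ∧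
      Z.1.1 0 2 * Z.1.1 1 2 * Z.1.1 2 2 = l) : H = ⊤ := by
  have hh := hermB_isUnitary hF (n := 3)
  set h := Forms.hermB hF 3
  have f0 : ∀ y, suEquiv hF y • (E 0 : Fin 3 → F) = E 0 → y ∈ H :=
    fun y hy => hb (Subgroup.mem_sup_right (mem_e12_of_fix hF hy))
  have f2 : ∀ y, suEquiv hF y • (E 2 : Fin 3 → F) = E 2 → y ∈ H :=
    fun y hy => hb (Subgroup.mem_sup_left (mem_e01_of_fix hF hy))
  have zero_of : ∀ (i : Fin 3) (v : Fin 3 → F), v i = 0 → v ∈ orth h {(E i : Fin 3 → F)} := fun i v hv c hc => by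
    rw [Set.mem_singleton_iff] at hc; subst hc; rw [hE_left, hv]
  have move0 : ∀ w, h w w = 1 → w 0 = 0 → ∃ y ∈ H, suEquiv hF y • w = (E 2 : Fin 3 → F) := by
    intro w hw hw0
    obtain ⟨g, hg, hgc⟩ := exists_move hh (orth h {(E 0 : Fin 3 → F)}) (w := w) (w' := E 2) (d := E 1)
      (zero_of 0 w hw0) (zero_of 0 _ (by simp [E_apply])) (zero_of 0 _ (by simp [E_apply])) hw
      (by simp [h, hE_E]) (by simp [h, hE_E]) (by simp [h, hE_E])
    obtain ⟨y, rfl⟩ := (suEquiv hF (n := 3)).surjective g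
    exact ⟨y, f0 y (hgc _ fun x hx => hx _ rfl), hg⟩
  have reach : ∀ v, h v v = 1 → ∃ y ∈ H, suEquiv hF y • v = (E 2 : Fin 3 → F) := by
    intro v hv
    by_cases h0 : v 0 = 0
    · exact move0 v hv h0
    by_cases hv2 : v 2 = 0
    · obtain ⟨g, hg, hgc⟩ := exists_move hh (orth h {(E 2 : Fin 3 → F)}) (w := v) (w' := E 1) (d := E 0)
        (zero_of 2 v hv2) (zero_of 2 _ (by simp [E_apply])) (zero_of 2 _ (by simp [E_apply])) hv
        (by simp [h, hE_E]) (by simp [h, hE_E]) (by simp [h, hE_E])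
      obtain ⟨y, rfl⟩ := (suEquiv hF (n := 3)).surjective g
      obtain ⟨y', hy', hy'e⟩ := move0 (E 1) (by simp [h, hE_E]) (by simp [E_apply])
      exact ⟨y' * y, mul_mem hy' (f2 y (hgc _ fun x hx => hx _ rfl)), by rw [map_mul, mul_smul, hg, hy'e]⟩
    have h1 : v 1 ≠ 0 := fun h1 => by
      simp only [h, hermB_sum, Fin.sum_univ_three, (norm_one_iff_two hF _).2 h0, (norm_one_iff_two hF _).2 hv2, h1,
        map_zero, mul_zero, add_zero] at hv
      exact one_ne_zero (α := F) (by linear_combination hv)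
    obtain ⟨Y, hY, y0, y1, y2, hprod⟩ := hZ (v 0 * v 1 * v 2) (mul_ne_zero (mul_ne_zero h0 h1) hv2)
    set u : Fin 3 → F := ![Y.1.1 0 2, Y.1.1 1 2, Y.1.1 2 2] with hu
    have hYc : suEquiv hF Y • (E 2 : Fin 3 → F) = u := by
      funext i
      rw [suEquiv_smul, mulVec_single_one]
      show Y.1.1 i 2 = _
      fin_cases i <;> rfl
    set t0 := v 0 / Y.1.1 0 2
    set t1 := v 1 / Y.1.1 1 2
    have ht0 : t0 ≠ 0 := div_ne_zero h0 y0
    have ht01 : t0 * t1 ≠ 0 := mul_ne_zero ht0 (div_ne_zero h1 y1)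
    set M1 := e01 hF (mk2 hF t0 0 (by rw [map_zero, zero_mul, add_zero, (norm_one_iff_two hF _).2 ht0]))
    set M2 := e12 hF (mk2 hF (t0 * t1) 0 (by rw [map_zero, zero_mul, add_zero, (norm_one_iff_two hF _).2 ht01]))
    have hM : suEquiv hF (M1 * M2) • u = v := by
      have n0 := (norm_one_iff_two hF _).2 ht0
      have n01 := (norm_one_iff_two hF _).2 ht01
      have e : u = Y.1.1 0 2 • E 0 + Y.1.1 1 2 • E 1 + Y.1.1 2 2 • E 2 := by
        funext i; fin_cases i <;> simp [hu, E_apply]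
      have c12 : suEquiv hF M2 • (E 0 : Fin 3 → F) = E 0 := embH_fix hF _ _ not_range_12
      have c01 : suEquiv hF M1 • (E 2 : Fin 3 → F) = E 2 := embH_fix hF _ _ not_range_01
      obtain ⟨m1, m2⟩ := e12_diagA hF (x := mk2 hF (t0 * t1) 0
        (by rw [map_zero, zero_mul, add_zero, (norm_one_iff_two hF _).2 ht01])) rfl
      obtain ⟨k0, k1⟩ := e01_diagA hF (x := mk2 hF t0 0
        (by rw [map_zero, zero_mul, add_zero, (norm_one_iff_two hF _).2 ht0])) rfl
      rw [mk2_a] at m1 m2 k0 k1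
      have g0 : suEquiv hF (M1 * M2) • (E 0 : Fin 3 → F) = t0 • E 0 := by rw [map_mul, mul_smul, c12, k0]
      have g1 : suEquiv hF (M1 * M2) • (E 1 : Fin 3 → F) = (t0 * t1 * Forms.qEnd hF t0) • E 1 := by
        rw [map_mul, mul_smul, m1, su_scal, k1, smul_smul]
      have g2 : suEquiv hF (M1 * M2) • (E 2 : Fin 3 → F) = Forms.qEnd hF (t0 * t1) • E 2 := by
        rw [map_mul, mul_smul, m2, su_scal, c01]
      rw [e, su_add, su_add, su_scal, su_scal, su_scal, g0, g1, g2]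
      rw [smul_smul, smul_smul, smul_smul]
      have q1 : Y.1.1 1 2 * (t0 * t1 * Forms.qEnd hF t0) = v 1 := by
        rw [show Y.1.1 1 2 * (t0 * t1 * Forms.qEnd hF t0) = Y.1.1 1 2 * t1 * (Forms.qEnd hF t0 * t0) by ring, n0,
          mul_one, mul_div_cancel₀ _ y1]
      have h3 : v 2 * (t0 * t1) = Y.1.1 2 2 := by
        simp only [t0, t1]
        field_simp
        linear_combination -hprod
      have q2 : Y.1.1 2 2 * Forms.qEnd hF (t0 * t1) = v 2 := by
        linear_combination (-Forms.qEnd hF (t0 * t1)) * h3 + v 2 * n01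
      rw [mul_div_cancel₀ _ y0, q1, q2]
      funext i
      fin_cases i <;> simp [E_apply]
    refine ⟨(M1 * M2 * Y)⁻¹, inv_mem (mul_mem (mul_mem (hb (Subgroup.mem_sup_left ⟨_, rfl⟩))
      (hb (Subgroup.mem_sup_right ⟨_, rfl⟩))) hY), ?_⟩
    rw [map_inv, inv_smul_eq_iff, map_mul, mul_smul, hYc, hM]
  rw [eq_top_iff]
  intro x _
  obtain ⟨y, hy, hyv⟩ := reach (suEquiv hF x • (E 2 : Fin 3 → F)) (by rw [su_form]; simp [h, hE_E])
  have := mul_mem (inv_mem hy) (f2 (y * x) (by rw [map_mul, mul_smul, hyv]))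
  rwa [inv_mul_cancel_left] at this

include hF in
/-- A subgroup containing the blocks and the elements of order four is everything. -/
theorem top_of_blocks {H : Subgroup (Cfsg.SU 3 F 2)} (hb : (e01 hF).range ⊔ (e12 hF).range ≤ H)
    (h4 : ∀ x : Cfsg.SU 3 F 2, x ^ 4 = 1 → x ∈ H) : H = ⊤ := by
  obtain ⟨μ, hμ, hμ1⟩ := exists_root_two hF
  obtain ⟨A, hA, a0, a1, a2, -⟩ := exists_order_four hμ hμ1 hF
  refine top_of_reach hF hb fun l hl => ?_
  have hc : ∀ i, Forms.qEnd hF (![l, 1, 1] i) * ![l, 1, 1] i = 1 := fun i => by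
    refine (norm_one_iff_two hF _).2 ?_
    fin_cases i <;> simp [hl]
  have hμ0 : μ ≠ 0 := fun e => by simp [e] at hμ
  refine ⟨twist hF hc (RingEquiv.refl F) A, h4 _ (by rw [← map_pow, hA, map_one]), ?_⟩
  simp only [twist_apply]
  simp [a0, a1, a2, hl, hμ0]
  linear_combination l * hμ

include hF in
/-- Injective homomorphisms with one image agreeing on both blocks agree. -/
theorem tight_two {G : Type*} [Group G] : Tight (G := G) hF := by
  intro φ ψ iφ iψ hr h1 h2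
  set B := (e01 hF).range ⊔ (e12 hF).range
  have hB : B ≤ φ.eqLocus ψ := sup_le (by rintro _ ⟨y, rfl⟩; exact h1 y) (by rintro _ ⟨y, rfl⟩; exact h2 y)
  refine MonoidHom.eq_of_eqOn_top fun x _ => ?_
  suffices h : φ.eqLocus ψ = ⊤ by exact (h ▸ Subgroup.mem_top x : x ∈ φ.eqLocus ψ)
  refine top_of_blocks hF hB fun x hx => ?_
  obtain ⟨y, hy⟩ : φ x ∈ ψ.range := hr ▸ ⟨x, rfl⟩
  show φ x = ψ x
  set d := x⁻¹ * y with hd
  have hinv : ∀ m : Cfsg.SU 3 F 2, m * m = 1 → φ m = ψ m := fun m hm => hB (invol_mem_blocks hF hm)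
  have hcomm : ∀ m : Cfsg.SU 3 F 2, m * m = 1 → m ∈ Subgroup.centralizer {d} := by
    intro m hm
    have hm' : (x * m * x⁻¹) * (x * m * x⁻¹) = 1 := by
      rw [show x * m * x⁻¹ * (x * m * x⁻¹) = x * (m * m) * x⁻¹ by group, hm, mul_one, mul_inv_cancel]
    have e : y * m * y⁻¹ = x * m * x⁻¹ := iψ (by
      rw [map_mul, map_mul, map_inv, hy, ← hinv m hm, ← map_mul, ← map_inv, ← map_mul, hinv _ hm'])
    rw [Subgroup.mem_centralizer_iff]
    rintro _ rfl
    calc x⁻¹ * y * m = x⁻¹ * (y * m * y⁻¹) * y := by group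
      _ = m * (x⁻¹ * y) := by rw [e]; group
  have hc01 : (e01 hF).range ≤ Subgroup.centralizer {d} :=
    su2_map_invol hF fun a ha => hcomm _ (by rw [← map_mul, ha, map_one])
  have hc12 : (e12 hF).range ≤ Subgroup.centralizer {d} :=
    su2_map_invol hF fun a ha => hcomm _ (by rw [← map_mul, ha, map_one])
  obtain ⟨μ, hμ, hμ1⟩ := exists_root_two hF
  set D := suEquiv hF d
  have comm : ∀ m, m ∈ Subgroup.centralizer {d} → ∀ v : Fin 3 → F, suEquiv hF m • D • v = D • suEquiv hF m • v :=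
    fun m hm v => by
      rw [← mul_smul, ← mul_smul, ← map_mul, ← map_mul, ← Subgroup.mem_centralizer_iff.1 hm d rfl]
  have hμσ : Forms.qEnd hF μ ≠ 1 := fun e => hμ1 (by rw [← Forms.qEnd_qEnd hF μ, e, map_one])
  set T1 := e01 hF (tor hF μ hμ)
  set T2 := e12 hF (tor hF μ hμ)
  have t1fix : ∀ v : Fin 3 → F, suEquiv hF T1 • v = v → v 0 = 0 ∧ v 1 = 0 := by
    intro v hv
    have r : ∀ (i : Fin 3) (c : F), suEquiv hF T1 • (E i : Fin 3 → F) = c • E i → c ≠ 1 → v i = 0 := fun i c hi hc => by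
      have e := su_form (suEquiv hF T1) (E i : Fin 3 → F) v
      rw [hv, hi, LinearMap.map_smulₛₗ, LinearMap.smul_apply, smul_eq_mul, hE_left] at e
      have hc' : Forms.qEnd hF c ≠ 1 := fun e' => hc (by rw [← Forms.qEnd_qEnd hF c, e', map_one])
      exact (mul_eq_zero.1 (show (Forms.qEnd hF c - 1) * v i = 0 by linear_combination e)).resolve_left
        (sub_ne_zero.2 hc')
    refine ⟨r 0 μ ?_ hμ1, r 1 (Forms.qEnd hF μ) ?_ hμσ⟩
    · rw [show (0 : Fin 3) = Fin.castSucc 0 from rfl, e01_colA]; simp [tor, mk2]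
    · rw [show (1 : Fin 3) = Fin.castSucc 1 from rfl, e01_colA]; simp [tor, mk2]
  have t2fix : ∀ v : Fin 3 → F, suEquiv hF T2 • v = v → v 1 = 0 ∧ v 2 = 0 := by
    intro v hv
    have r : ∀ (i : Fin 3) (c : F), suEquiv hF T2 • (E i : Fin 3 → F) = c • E i → c ≠ 1 → v i = 0 := fun i c hi hc => by
      have e := su_form (suEquiv hF T2) (E i : Fin 3 → F) v
      rw [hv, hi, LinearMap.map_smulₛₗ, LinearMap.smul_apply, smul_eq_mul, hE_left] at e
      have hc' : Forms.qEnd hF c ≠ 1 := fun e' => hc (by rw [← Forms.qEnd_qEnd hF c, e', map_one])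
      exact (mul_eq_zero.1 (show (Forms.qEnd hF c - 1) * v i = 0 by linear_combination e)).resolve_left
        (sub_ne_zero.2 hc')
    refine ⟨r 1 μ ?_ hμ1, r 2 (Forms.qEnd hF μ) ?_ hμσ⟩
    · rw [show (1 : Fin 3) = Fin.succ 0 from rfl, e12_colA]; simp [tor, mk2]
    · rw [show (2 : Fin 3) = Fin.succ 1 from rfl, e12_colA]; simp [tor, mk2]
  set c0 := (D • (E 0 : Fin 3 → F)) 0
  have d0 : D • (E 0 : Fin 3 → F) = c0 • E 0 := by
    obtain ⟨z1, z2⟩ := t2fix (D • (E 0 : Fin 3 → F)) (by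
      rw [comm _ (hc12 ⟨_, rfl⟩), show suEquiv hF T2 • (E 0 : Fin 3 → F) = E 0 from embH_fix hF _ _ not_range_12])
    funext i; fin_cases i <;> simp [c0, z1, z2, E_apply]
  have s01 : suEquiv hF (e01 hF (wswap hF)) • (E 0 : Fin 3 → F) = E 1 := by
    rw [show (0 : Fin 3) = Fin.castSucc 0 from rfl, e01_colA]; simp [wswap, mk2, neg_eq_self hF]
  have s12 : suEquiv hF (e12 hF (wswap hF)) • (E 1 : Fin 3 → F) = E 2 := by
    rw [show (1 : Fin 3) = Fin.succ 0 from rfl, e12_colA]; simp [wswap, mk2, neg_eq_self hF]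
  have d1 : D • (E 1 : Fin 3 → F) = c0 • E 1 := by
    rw [← s01, ← comm _ (hc01 ⟨_, rfl⟩), d0, su_scal]
  have d2 : D • (E 2 : Fin 3 → F) = c0 • E 2 := by
    rw [← s12, ← comm _ (hc12 ⟨_, rfl⟩), d1, su_scal]
  have hscal := smul_scalar_of_E hF (z := D) (a := c0) fun i => by fin_cases i; exacts [d0, d1, d2]
  have hdc : d ∈ Subgroup.center (Cfsg.SU 3 F 2) := Subgroup.mem_center_iff.2 fun z => (suEquiv hF (n := 3)).injective (by
    rw [map_mul (suEquiv hF) z d, map_mul (suEquiv hF) d z]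
    exact Subgroup.mem_center_iff.1 (central_of_scalar hF hscal) _)
  obtain ⟨a, -, ha3, hax⟩ := central_scalar hF le_rfl hdc
  have hy4 : y ^ 4 = 1 := iψ (by rw [map_pow, hy, ← map_pow, hx, map_one, map_one])
  have hd4 : d ^ 4 = 1 := by
    have hyx : y = x * d := by rw [hd, mul_inv_cancel_left]
    have hcm : Commute x d := Subgroup.mem_center_iff.1 hdc x
    rw [hyx, hcm.mul_pow, hx, one_mul] at hy4
    exact hy4
  have ha : a = 1 := by
    have e := congrArg (fun z : Cfsg.SU 3 F 2 => suEquiv hF z • (E 0 : Fin 3 → F)) hd4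
    rw [pow_succ, pow_succ, pow_succ, pow_one, map_mul, map_mul, map_mul, mul_smul, mul_smul, mul_smul, hax, hax, hax,
      hax, map_one, one_smul] at e
    have e0 := congrFun e 0
    simp at e0
    linear_combination e0 - a * ha3
  have hd1 : d = 1 := central_fix hF le_rfl hdc (v := (E 0 : Fin 3 → F)) (by simp) (by rw [hax, ha, one_smul])
  rw [← hy, show y = x by rw [← mul_one x, ← hd1, hd, mul_inv_cancel_left]]

end Cfsg.Agent.PhanAmalgam
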