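/-
Area PhanAmalgam: three commuting elements of order three of `SU₄(2)` permuted like the roots of `A₃` are diagonal in an
orthonormal basis, and the permuting involutions are monomial.
-/
import Cfsg.Agent.Lib.PhanAmalgam.Two

set_option autoImplicit false

open scoped Matrix

namespace Cfsg.Agent.PhanAmalgam

open Cfsg.Agent.ClassicalSimple

/-- The reflections acting on triples of exponents. -/
def actT (i : Fin 3) (x : Fin 3 → ZMod 3) : Fin 3 → ZMod 3 := fun j =>
  if j = i then -x i else if (i : ℕ) + 1 = j ∨ (j : ℕ) + 1 = i then x i + x j else x j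

/-- Iterated reflections. -/
def runT : List (Fin 3) → (Fin 3 → ZMod 3) → (Fin 3 → ZMod 3)
  | [], x => x
  | i :: w, x => runT w (actT i x)

/-- The short words in the reflections. -/
def wordsT : List (List (Fin 3)) :=
  [[], [0], [1], [2], [0, 1], [1, 0], [1, 2], [2, 1], [0, 2], [0, 1, 2], [2, 1, 0], [1, 0, 2], [0, 2, 1], [0, 1, 0],
    [1, 2, 1], [1, 0, 2, 1], [2, 1, 0, 2]]

/-- The four characters of the natural module. -/
def stdT (a : ZMod 3) : Fin 4 → Fin 3 → ZMod 3 := ![![a, 0, 0], ![-a, a, 0], ![0, -a, a], ![0, 0, -a]]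

theorem orbit_cases : ∀ a b c : ZMod 3, a ≠ 0 →
    (∃ w ∈ wordsT, runT w ![a, b, c] = ![1, 0, 0] ∨ runT w ![a, b, c] = ![2, 0, 0]) ∨
      5 ≤ (wordsT.map fun w => runT w ![a, b, c]).toFinset.card := by
  decide

theorem stdT_step : ∀ a : ZMod 3,
    actT 0 (stdT a 0) = stdT a 1 ∧ actT 1 (stdT a 1) = stdT a 2 ∧ actT 2 (stdT a 2) = stdT a 3 := by
  decide

theorem stdT_fixed : ∀ (a : ZMod 3) (i : Fin 3) (l : Fin 4), l ≠ i.castSucc → l ≠ i.succ →
    actT i (stdT a l) = stdT a l := by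
  decide

theorem stdT_out : ∀ (a : ZMod 3) (i : Fin 3) (l : Fin 4), l ≠ i.castSucc → l ≠ i.succ → stdT a l i = 0 := by
  decide

theorem stdT_in : ∀ (a : ZMod 3) (i : Fin 3), stdT a i.castSucc i = a ∧ stdT a i.succ i = -a := by
  decide

theorem stdT_sep : ∀ (a : ZMod 3) (l m : Fin 4), a ≠ 0 → l ≠ m → ∃ j, stdT a l j ≠ stdT a m j := by
  decide

variable {F : Type*} [Field F] [Fintype F] {hF : Fintype.card F = 2 ^ 2}

/-- The powers of a cube root of unity. -/
def chi (μ : F) (a : ZMod 3) : F := μ ^ a.val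

section

variable {μ : F} (hμ : μ ^ 3 = 1)
include hμ

omit [Fintype F]

theorem chi_add (a b : ZMod 3) : chi μ (a + b) = chi μ a * chi μ b := by
  rw [chi, chi, chi, ← pow_add, ZMod.val_add, ← pow_eq_pow_mod _ hμ]

theorem chi_cube (a : ZMod 3) : chi μ a ^ 3 = 1 := by
  rw [chi, ← pow_mul, mul_comm, pow_mul, hμ, one_pow]

theorem chi_ne_zero (a : ZMod 3) : chi μ a ≠ 0 := fun e => by
  have := chi_cube hμ a
  simp [e] at this

omit hμ in
theorem chi_zero : chi μ 0 = 1 := by rw [chi]; simp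

theorem chi_neg_mul (a : ZMod 3) : chi μ (-a) * chi μ a = 1 := by
  rw [← chi_add hμ, neg_add_cancel, chi_zero]

theorem chi_injective (hμ1 : μ ≠ 1) {a b : ZMod 3} (e : chi μ a = chi μ b) : a = b := by
  have h : chi μ (a - b) = 1 := by
    rw [sub_eq_add_neg, chi_add hμ, e, mul_comm, chi_neg_mul hμ]
  refine sub_eq_zero.1 ?_
  revert h
  generalize a - b = d
  intro h
  obtain rfl | rfl | rfl : d = 0 ∨ d = 1 ∨ d = 2 := (by decide : ∀ d : ZMod 3, d = 0 ∨ d = 1 ∨ d = 2) d
  · rfl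
  · have h1 : μ ^ 1 = 1 := h
    exact absurd (by simpa using h1) hμ1
  · exfalso
    rw [chi] at h
    have h2 : μ ^ 2 = 1 := h
    exact hμ1 (by linear_combination hμ - μ * h2)

end

/-- The projection to an eigenspace of an element of order three. -/
noncomputable def proj3 (c : F) (g : SUH (Forms.hermB hF 4)) (v : Fin 4 → F) : Fin 4 → F := v + c • (g • v) + (c * c) • (g • g • v)

theorem proj3_eig {c : F} (hc : c ^ 3 = 1) {g : SUH (Forms.hermB hF 4)} (hg : ∀ v : Fin 4 → F, g • g • g • v = v)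
    (v : Fin 4 → F) : g • proj3 c g v = (c * c) • proj3 c g v := by
  simp only [proj3]
  rw [su_add, su_add, su_scal, su_scal, hg, smul_add, smul_add, ← mul_smul (c * c) c, ← mul_smul (c * c) (c * c),
    show c * c * c = 1 by linear_combination hc, show c * c * (c * c) = c by linear_combination c * hc, one_smul]
  abel

theorem proj3_keep {c d : F} {g k : SUH (Forms.hermB hF 4)} (hgk : g * k = k * g) {v : Fin 4 → F}
    (hv : k • v = d • v) : k • proj3 c g v = d • proj3 c g v := by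
  have h : ∀ w : Fin 4 → F, k • g • w = g • k • w := fun w => by rw [← mul_smul, ← hgk, mul_smul]
  simp only [proj3]
  rw [su_add, su_add, su_scal, su_scal, h, h, h, hv, su_scal, su_scal, smul_add, smul_add, smul_comm c d,
    smul_comm (c * c) d]

theorem proj3_form {c : F} (hc : c ^ 3 = 1) {g : SUH (Forms.hermB hF 4)} {v : Fin 4 → F}
    (hv : g • v = (c * c) • v) (y : Fin 4 → F) :
    Forms.hermB hF 4 v (proj3 c g y) = Forms.hermB hF 4 v y := by
  have hσ : Forms.qEnd hF (c * c) = c := by rw [Forms.qEnd_apply]; linear_combination c * hc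
  have step : ∀ w, Forms.hermB hF 4 v (g • w) = c * c * Forms.hermB hF 4 v w := fun w => by
    have e := su_form g v w
    rw [hv, LinearMap.map_smulₛₗ, LinearMap.smul_apply, smul_eq_mul, hσ] at e
    linear_combination c * c * e - Forms.hermB hF 4 v (g • w) * hc
  simp only [proj3, map_add, map_smul, smul_eq_mul, step]
  linear_combination
    (Forms.hermB hF 4 v y * (c ^ 3 + 2)) * hc + Forms.hermB hF 4 v y * two_eq_zero hF

theorem proj3_split {μ : F} (hμ : μ ^ 3 = 1) (hμ1 : μ ≠ 1) (g : SUH (Forms.hermB hF 4)) (v : Fin 4 → F) :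
    proj3 (chi μ 0) g v + proj3 (chi μ 1) g v + proj3 (chi μ 2) g v = v := by
  have hS := root_sum hμ hμ1
  have h1 : chi μ 1 = μ := pow_one μ
  have h2 : chi μ 2 = μ ^ 2 := rfl
  rw [chi_zero, h1, h2]
  funext n
  simp only [proj3, Pi.add_apply, Pi.smul_apply, smul_eq_mul]
  linear_combination (g • v) n * hS + (g • g • v) n * ((μ ^ 2 - μ + 1) * hS) + v n * two_eq_zero hF

/-- Eigen units for a triple of exponents. -/
def Eig (hF : Fintype.card F = 2 ^ 2) (μ : F) (T : Fin 3 → SUH (Forms.hermB hF 4)) (x : Fin 3 → ZMod 3) : Prop :=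
  ∃ u : Fin 4 → F, Forms.hermB hF 4 u u = 1 ∧ ∀ j, T j • u = chi μ (x j) • u

/-- The hypotheses on the elements. -/
structure TorData (hF : Fintype.card F = 2 ^ 2) (T S : Fin 3 → SUH (Forms.hermB hF 4)) : Prop where
  cube : ∀ i, T i * T i * T i = 1
  comm : ∀ i j, T i * T j = T j * T i
  invol : ∀ i, S i * S i = 1
  inv : ∀ i, S i * T i * S i = (T i)⁻¹
  add : ∀ i j : Fin 3, ((i : ℕ) + 1 = j ∨ (j : ℕ) + 1 = i) → S i * T j * S i = T i * T j
  out : ∀ i j : Fin 3, ((i : ℕ) + 2 ≤ j ∨ (j : ℕ) + 2 ≤ i) → S i * T j * S i = T j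

variable {T S : Fin 3 → SUH (Forms.hermB hF 4)} (hD : TorData hF T S) {μ : F} (hμ : μ ^ 3 = 1)
include hD hμ

theorem eig_move (i : Fin 3) {x : Fin 3 → ZMod 3} {u : Fin 4 → F} (hu : ∀ j, T j • u = chi μ (x j) • u) (j : Fin 3) :
    T j • S i • u = chi μ (actT i x j) • S i • u := by
  have hsw : T j • S i • u = S i • (S i * T j * S i) • u := by
    rw [mul_smul, mul_smul, ← mul_smul (S i) (S i), hD.invol, one_smul]
  rw [hsw, ← su_scal]
  congr 1
  simp only [actT]
  split_ifs with h1 h2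
  · subst h1
    rw [hD.inv, inv_smul_eq_iff, su_scal, hu, smul_smul, chi_neg_mul hμ, one_smul]
  · rw [hD.add i j h2, mul_smul, hu, su_scal, hu, smul_smul, chi_add hμ, mul_comm]
  · rw [hD.out i j (by
      have : (j : ℕ) ≠ i := fun e => h1 (Fin.ext e)
      omega), hu]

theorem eig_run {x : Fin 3 → ZMod 3} (hx : Eig hF μ T x) (w : List (Fin 3)) : Eig hF μ T (runT w x) := by
  induction w generalizing x with
  | nil => exact hx
  | cons i w ih =>
    obtain ⟨u, hu, hux⟩ := hx
    exact ih ⟨S i • u, by rw [su_form, hu], eig_move hD hμ i hux⟩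

theorem eig_card (hμ1 : μ ≠ 1) (X : Finset (Fin 3 → ZMod 3)) (hX : ∀ x ∈ X, Eig hF μ T x) : X.card ≤ 4 := by
  classical
  choose u hu hux using fun x : X => hX x.1 x.2
  have horth : ∀ x y : X, x ≠ y → Forms.hermB hF 4 (u x) (u y) = 0 := by
    intro x y hxy
    obtain ⟨j, hj⟩ : ∃ j, x.1 j ≠ y.1 j := Function.ne_iff.1 fun e => hxy (Subtype.ext e)
    have e := su_form (T j) (u x) (u y)
    rw [hux, hux, map_smulₛₗ, LinearMap.map_smulₛₗ, LinearMap.smul_apply, RingHom.id_apply, smul_eq_mul, smul_eq_mul] at e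
    by_contra hne
    refine hj (chi_injective hμ hμ1 ?_)
    have hn : Forms.qEnd hF (chi μ (x.1 j)) * chi μ (x.1 j) = 1 :=
      (norm_one_iff_two hF _).2 (chi_ne_zero hμ _)
    have e2 : Forms.qEnd hF (chi μ (x.1 j)) * chi μ (y.1 j) = 1 :=
      mul_right_cancel₀ hne (by linear_combination e)
    exact mul_left_cancel₀ (left_ne_zero_of_mul_eq_one hn) (hn.trans e2.symm)
  have hli : LinearIndependent F u := by
    rw [Fintype.linearIndependent_iff]
    intro c hc x
    have e := congrArg (Forms.hermB hF 4 (u x)) hc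
    rw [map_sum, map_zero, Finset.sum_eq_single x (fun y _ hyx => by rw [map_smul, horth x y (Ne.symm hyx), smul_zero])
      (by simp), map_smul, hu, smul_eq_mul, mul_one] at e
    exact e
  have := hli.fintype_card_le_finrank
  simpa using this

theorem exists_eig (hμ1 : μ ≠ 1) (hne : T 0 ≠ 1) : ∃ x, x 0 ≠ 0 ∧ Eig hF μ T x := by
  have g3 : ∀ i, ∀ v : Fin 4 → F, T i • T i • T i • v = v := fun i v => by
    rw [← mul_smul, ← mul_smul, hD.cube, one_smul]
  obtain ⟨v0, hv0⟩ : ∃ v0 : Fin 4 → F, T 0 • v0 ≠ v0 := by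
    by_contra hc
    push Not at hc
    exact hne (su_ext fun v => by rw [hc, one_smul])
  obtain ⟨b0, hb0, hw0⟩ : ∃ b : ZMod 3, b ≠ 0 ∧ proj3 (chi μ b) (T 0) v0 ≠ 0 := by
    by_contra hc
    push Not at hc
    have e := proj3_split hμ hμ1 (T 0) v0
    rw [hc 1 (by decide), hc 2 (by decide), add_zero, add_zero] at e
    refine hv0 ?_
    have e2 := proj3_eig (chi_cube hμ 0) (g3 0) v0
    rw [e, chi_zero, one_mul, one_smul] at e2
    exact e2
  have split : ∀ (i : Fin 3) (v : Fin 4 → F), v ≠ 0 → ∃ b : ZMod 3, proj3 (chi μ b) (T i) v ≠ 0 := by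
    intro i v hv
    by_contra hc
    push Not at hc
    have e := proj3_split hμ hμ1 (T i) v
    rw [hc, hc, hc, add_zero, add_zero] at e
    exact hv e.symm
  set w0 := proj3 (chi μ b0) (T 0) v0
  have e00 := proj3_eig (chi_cube hμ b0) (g3 0) v0
  obtain ⟨b1, hw1⟩ := split 1 w0 hw0
  set w1 := proj3 (chi μ b1) (T 1) w0
  have e11 := proj3_eig (chi_cube hμ b1) (g3 1) w0
  have e10 : T 0 • w1 = (chi μ b0 * chi μ b0) • w1 := proj3_keep (hD.comm 1 0) e00
  obtain ⟨b2, hw2⟩ := split 2 w1 hw1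
  set w := proj3 (chi μ b2) (T 2) w1
  have e2 := proj3_eig (chi_cube hμ b2) (g3 2) w1
  have e1 : T 1 • w = (chi μ b1 * chi μ b1) • w := proj3_keep (hD.comm 2 1) e11
  have e0 : T 0 • w = (chi μ b0 * chi μ b0) • w := proj3_keep (hD.comm 2 0) e10
  obtain ⟨y, hy⟩ : ∃ y, Forms.hermB hF 4 w y ≠ 0 := by
    by_contra hc
    push Not at hc
    exact hw2 ((hermB_isUnitary hF).sep w hc)
  set y0 := proj3 (chi μ b0) (T 0) y
  set y1 := proj3 (chi μ b1) (T 1) y0
  set y2 := proj3 (chi μ b2) (T 2) y1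
  have hy2 : Forms.hermB hF 4 w y2 ≠ 0 := by
    rwa [proj3_form (chi_cube hμ b2) e2, proj3_form (chi_cube hμ b1) e1, proj3_form (chi_cube hμ b0) e0]
  let b : Fin 3 → ZMod 3 := ![b0 + b0, b1 + b1, b2 + b2]
  let W : Submodule F (Fin 4 → F) :=
    { carrier := {v | ∀ j, T j • v = chi μ (b j) • v}
      zero_mem' := fun j => by rw [smul_zero, smul_zero]
      add_mem' := fun {u v} hu hv j => by rw [su_add, hu j, hv j, smul_add]
      smul_mem' := fun s v hv j => by rw [su_scal, hv j, smul_comm] }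
  have hwW : w ∈ W := fun j => by
    fin_cases j <;> simp [b, chi_add hμ]
    exacts [e0, e1, e2]
  have hyW : y2 ∈ W := fun j => by
    fin_cases j <;> simp [b, chi_add hμ]
    exacts [proj3_keep (hD.comm 2 0) (proj3_keep (hD.comm 1 0) (proj3_eig (chi_cube hμ b0) (g3 0) y)),
      proj3_keep (hD.comm 2 1) (proj3_eig (chi_cube hμ b1) (g3 1) y0), proj3_eig (chi_cube hμ b2) (g3 2) y1]
  obtain ⟨u, huW, hu⟩ := exists_unit_of_pair (hermB_isUnitary hF) W hwW hyW hy2
  refine ⟨b, ?_, u, hu, huW⟩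
  exact (by decide : ∀ b : ZMod 3, b ≠ 0 → b + b ≠ 0) b0 hb0

theorem exists_std_eig (hμ1 : μ ≠ 1) (hne : T 0 ≠ 1) : ∃ a : ZMod 3, a ≠ 0 ∧ Eig hF μ T (stdT a 0) := by
  classical
  obtain ⟨x, hx0, hx⟩ := exists_eig hD hμ hμ1 hne
  have hxe : x = ![x 0, x 1, x 2] := by funext j; fin_cases j <;> rfl
  rcases orbit_cases (x 0) (x 1) (x 2) hx0 with ⟨w, -, hw⟩ | h5
  · rw [← hxe] at hw
    rcases hw with hw | hw
    · exact ⟨1, by decide, show Eig hF μ T ![1, 0, 0] from hw ▸ eig_run hD hμ hx w⟩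
    · exact ⟨2, by decide, show Eig hF μ T ![2, 0, 0] from hw ▸ eig_run hD hμ hx w⟩
  · exfalso
    have := eig_card hD hμ hμ1 (wordsT.map fun w => runT w ![x 0, x 1, x 2]).toFinset fun y hy => by
      rw [List.mem_toFinset, List.mem_map] at hy
      obtain ⟨w, -, rfl⟩ := hy
      rw [← hxe]
      exact eig_run hD hμ hx w
    omega

set_option maxHeartbeats 1000000 in
/-- The adapted orthonormal basis. -/
theorem exists_adapted (hμ1 : μ ≠ 1) (hne : T 0 ≠ 1) :
    ∃ (k : SUH (Forms.hermB hF 4)) (ν : F), ν ^ 3 = 1 ∧ ν ≠ 1 ∧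
      (∀ (i : Fin 3) (l : Fin 4), l ≠ i.castSucc → l ≠ i.succ →
        (k * T i * k⁻¹) • (E l : Fin 4 → F) = E l ∧ (k * S i * k⁻¹) • (E l : Fin 4 → F) = E l) ∧
      ∀ i : Fin 3, (k * T i * k⁻¹) • (E i.castSucc : Fin 4 → F) = ν • E i.castSucc ∧
        (k * T i * k⁻¹) • (E i.succ : Fin 4 → F) = (ν * ν) • E i.succ := by
  have hh := hermB_isUnitary hF (n := 4)
  obtain ⟨a, ha, u0, hu0, he0⟩ := exists_std_eig hD hμ hμ1 hne
  obtain ⟨st1, st2, st3⟩ := stdT_step a
  set u1 := S 0 • u0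
  set u2 := S 1 • u1
  set u3 := S 2 • u2
  have he1 : ∀ j, T j • u1 = chi μ (stdT a 1 j) • u1 := fun j => by rw [← st1]; exact eig_move hD hμ 0 he0 j
  have he2 : ∀ j, T j • u2 = chi μ (stdT a 2 j) • u2 := fun j => by rw [← st2]; exact eig_move hD hμ 1 he1 j
  have he3 : ∀ j, T j • u3 = chi μ (stdT a 3 j) • u3 := fun j => by rw [← st3]; exact eig_move hD hμ 2 he2 j
  have n1 : Forms.hermB hF 4 u1 u1 = 1 := by rw [su_form, hu0]
  have n2 : Forms.hermB hF 4 u2 u2 = 1 := by rw [su_form, n1]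
  have n3 : Forms.hermB hF 4 u3 u3 = 1 := by rw [su_form, n2]
  let u : Fin 4 → Fin 4 → F := ![u0, u1, u2, u3]
  have heu : ∀ l j, T j • u l = chi μ (stdT a l j) • u l := by
    intro l; fin_cases l
    exacts [he0, he1, he2, he3]
  have horth : ∀ l m, l ≠ m → Forms.hermB hF 4 (u l) (u m) = 0 := by
    intro l m hlm
    obtain ⟨j, hj⟩ := stdT_sep a l m ha hlm
    have e := su_form (T j) (u l) (u m)
    rw [heu, heu, map_smulₛₗ, LinearMap.map_smulₛₗ, LinearMap.smul_apply, RingHom.id_apply, smul_eq_mul, smul_eq_mul] at e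
    by_contra hne'
    refine hj (chi_injective hμ hμ1 ?_)
    have hn : Forms.qEnd hF (chi μ (stdT a l j)) * chi μ (stdT a l j) = 1 :=
      (norm_one_iff_two hF _).2 (chi_ne_zero hμ _)
    have e2 : Forms.qEnd hF (chi μ (stdT a l j)) * chi μ (stdT a m j) = 1 :=
      mul_right_cancel₀ hne' (by linear_combination e)
    exact mul_left_cancel₀ (left_ne_zero_of_mul_eq_one hn) (hn.trans e2.symm)
  -- move the units to the standard basis
  obtain ⟨k1, hk1, -⟩ := exists_move hh (⊤ : Submodule F (Fin 4 → F)) (w := u0) (w' := E 0) (d := E 1)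
    Submodule.mem_top Submodule.mem_top Submodule.mem_top hu0 (by simp [hE_E]) (by simp [hE_E]) (by simp [hE_E])
  obtain ⟨k2, hk2, hk2c⟩ := exists_move hh (orth (Forms.hermB hF 4) {(E 0 : Fin 4 → F)}) (w := k1 • u1) (w' := E 1)
    (d := E 2)
    (fun c hc => by rw [Set.mem_singleton_iff] at hc; rw [hc, ← hk1, su_form]; exact horth 0 1 (by decide))
    (fun c hc => by rw [Set.mem_singleton_iff] at hc; subst hc; simp [hE_E])
    (fun c hc => by rw [Set.mem_singleton_iff] at hc; subst hc; simp [hE_E])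
    (by rw [su_form]; exact n1) (by simp [hE_E]) (by simp [hE_E]) (by simp [hE_E])
  set k12 := k2 * k1
  have a0 : k12 • u0 = E 0 := by rw [mul_smul, hk1]; exact hk2c _ fun x hx => hx _ rfl
  have a1 : k12 • u1 = E 1 := by rw [mul_smul, hk2]
  obtain ⟨k3, hk3, hk3c⟩ := exists_move hh (orth (Forms.hermB hF 4) {(E 0 : Fin 4 → F), E 1}) (w := k12 • u2)
    (w' := E 2) (d := E 3)
    (fun c hc => by
      rcases hc with rfl | hc
      · rw [← a0, su_form]; exact horth 0 2 (by decide)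
      · rw [Set.mem_singleton_iff] at hc; rw [hc, ← a1, su_form]; exact horth 1 2 (by decide))
    (fun c hc => by rcases hc with rfl | rfl <;> simp [hE_E])
    (fun c hc => by rcases hc with rfl | rfl <;> simp [hE_E])
    (by rw [su_form]; exact n2) (by simp [hE_E]) (by simp [hE_E]) (by simp [hE_E])
  set k := k3 * k12
  have b0 : k • u0 = E 0 := by rw [mul_smul, a0]; exact hk3c _ fun x hx => hx _ (Or.inl rfl)
  have b1 : k • u1 = E 1 := by rw [mul_smul, a1]; exact hk3c _ fun x hx => hx _ (Or.inr rfl)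
  have b2 : k • u2 = E 2 := by rw [mul_smul, hk3]
  clear_value k
  set c3 := (k • u3) 3
  have b3 : k • u3 = c3 • E 3 := by
    have z : ∀ l : Fin 4, l ≠ 3 → k • u l = E l → (k • u3) l = 0 := fun l hl e => by
      rw [← hE_left hF l (k • u3), ← e, su_form]; exact horth l 3 hl
    funext m
    fin_cases m <;> simp [c3, E_apply]
    exacts [z 0 (by decide) b0, z 1 (by decide) b1, z 2 (by decide) b2]
  have hc3 : c3 ≠ 0 := fun e => by
    rw [e, zero_smul] at b3
    have := su_form k u3 u3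
    rw [b3, n3, map_zero] at this
    exact one_ne_zero this.symm
  have hkT : ∀ i l, (k * T i * k⁻¹) • (E l : Fin 4 → F) = chi μ (stdT a l i) • E l := by
    have base : ∀ i l, (k * T i * k⁻¹) • (k • u l) = chi μ (stdT a l i) • (k • u l) := fun i l => by
      rw [mul_smul, mul_smul, inv_smul_smul, heu, su_scal]
    intro i l
    have h := base i l
    obtain rfl | rfl | rfl | rfl : l = 0 ∨ l = 1 ∨ l = 2 ∨ l = 3 :=
      (by decide : ∀ l : Fin 4, l = 0 ∨ l = 1 ∨ l = 2 ∨ l = 3) l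
    · rw [← b0]; exact h
    · rw [← b1]; exact h
    · rw [← b2]; exact h
    · have h' : (k * T i * k⁻¹) • (c3 • (E 3 : Fin 4 → F)) = chi μ (stdT a 3 i) • (c3 • E 3) := by rw [← b3]; exact h
      rw [su_scal, smul_comm (chi μ (stdT a 3 i)) c3] at h'
      exact smul_right_injective _ hc3 h'
  refine ⟨k, chi μ a, chi_cube hμ a, fun e => ha (chi_injective hμ hμ1 (e.trans chi_zero.symm)),
    fun i l h1 h2 => ⟨by rw [hkT, stdT_out a i l h1 h2, chi_zero, one_smul], ?_⟩,
    fun i => ⟨by rw [hkT, (stdT_in a i).1], ?_⟩⟩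
  · -- the involution preserves the line and so fixes it
    set v := (k * S i * k⁻¹) • (E l : Fin 4 → F) with hv
    have hev : ∀ j, (k * T j * k⁻¹) • v = chi μ (stdT a l j) • v := by
      intro j
      set u' := k⁻¹ • (E l : Fin 4 → F) with hu'
      have hu'e : ∀ m, T m • u' = chi μ (stdT a l m) • u' := fun m => by
        have e := congrArg (k⁻¹ • ·) (hkT m l)
        simp only [mul_smul, inv_smul_smul, su_scal] at e
        exact e
      have e := eig_move hD hμ i hu'e j
      rw [stdT_fixed a i l h1 h2] at e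
      rw [hv, mul_smul, mul_smul, mul_smul, mul_smul, ← hu', inv_smul_smul, e, su_scal]
    have hz : ∀ m, m ≠ l → v m = 0 := by
      intro m hm
      obtain ⟨j, hj⟩ := stdT_sep a m l ha hm
      by_contra hne'
      refine hj (chi_injective hμ hμ1 ?_)
      have e := su_form (k * T j * k⁻¹) (E m : Fin 4 → F) v
      rw [hkT, hev, map_smulₛₗ, LinearMap.map_smulₛₗ, LinearMap.smul_apply, RingHom.id_apply, smul_eq_mul, smul_eq_mul, hE_left] at e
      have hn : Forms.qEnd hF (chi μ (stdT a m j)) * chi μ (stdT a m j) = 1 :=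
        (norm_one_iff_two hF _).2 (chi_ne_zero hμ _)
      have e2 : Forms.qEnd hF (chi μ (stdT a m j)) * chi μ (stdT a l j) = 1 :=
        mul_right_cancel₀ hne' (by linear_combination e)
      exact mul_left_cancel₀ (left_ne_zero_of_mul_eq_one hn) (hn.trans e2.symm)
    have hvl : v = v l • E l := by
      funext m
      by_cases hm : m = l
      · subst hm; simp [E_apply]
      · rw [hz m hm, Pi.smul_apply, E_apply, if_neg hm, smul_zero]
    have h1' : v l * v l = 1 := by
      have e : (k * S i * k⁻¹) • v = E l := by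
        rw [hv, mul_smul, mul_smul, mul_smul, mul_smul, inv_smul_smul, ← mul_smul (S i) (S i), hD.invol, one_smul,
          smul_inv_smul]
      rw [hvl, su_scal, ← hv] at e
      have e' := congrFun e l
      simpa [E_apply] using e'
    have h2' : v l = 1 := by
      have hz0 : (v l - 1) * (v l - 1) = 0 := by linear_combination h1' - (v l - 1) * two_eq_zero hF
      exact sub_eq_zero.1 (mul_self_eq_zero.1 hz0)
    show v = _
    rw [hvl, h2', one_smul]
  · rw [hkT, (stdT_in a i).2, ← chi_add hμ]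
    congr 2
    exact (by decide : ∀ a : ZMod 3, -a = a + a) a

end Cfsg.Agent.PhanAmalgam
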