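/-
Area PhanAmalgam: a homomorphic image of `SU₄(2)` containing two standard pairs is compatible with them.
-/
import Cfsg.Agent.Lib.PhanAmalgam.TwoTori

set_option autoImplicit false

open scoped Matrix

namespace Cfsg.Agent.PhanAmalgam

open Cfsg.Agent.ClassicalSimple

variable {F : Type*} [Field F] [Fintype F] (hF : Fintype.card F = 2 ^ 2)

theorem su_eq_of_E {N : ℕ} {x y : Cfsg.SU N F 2}
    (h : ∀ i, suEquiv hF x • (E i : Fin N → F) = suEquiv hF y • (E i : Fin N → F)) : x = y := by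
  have e := su_all_fix hF (g := (suEquiv hF y)⁻¹ * suEquiv hF x) fun i => by rw [mul_smul, h, inv_smul_smul]
  exact (suEquiv hF (n := N)).injective (inv_mul_eq_one.1 e).symm

theorem wswap_E01 :
    suEquiv hF (e01 hF (wswap hF)) • (E 0 : Fin 3 → F) = E 1 ∧
      suEquiv hF (e01 hF (wswap hF)) • (E 1 : Fin 3 → F) = E 0 := by
  constructor
  · refine (e01_colA hF _ 0).trans ?_; simp [wswap, mk2, neg_eq_self hF]
  · refine (e01_colA hF _ 1).trans ?_; simp [wswap, mk2]

theorem wswap_E12 :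
    suEquiv hF (e12 hF (wswap hF)) • (E 1 : Fin 3 → F) = E 2 ∧
      suEquiv hF (e12 hF (wswap hF)) • (E 2 : Fin 3 → F) = E 1 := by
  constructor
  · refine (e12_colA hF _ 0).trans ?_; simp [wswap, mk2, neg_eq_self hF]
  · refine (e12_colA hF _ 1).trans ?_; simp [wswap, mk2]

section

variable {μ : F} (hμ : μ ^ 3 = 1)

theorem tor_E01 :
    suEquiv hF (e01 hF (tor hF μ hμ)) • (E 0 : Fin 3 → F) = μ • E 0 ∧
      suEquiv hF (e01 hF (tor hF μ hμ)) • (E 1 : Fin 3 → F) = (μ * μ) • E 1 := by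
  obtain ⟨h0, h1⟩ := e01_diagA hF (x := tor hF μ hμ) rfl
  refine ⟨h0, h1.trans ?_⟩
  rw [show (tor hF μ hμ).1.1 0 0 = μ from rfl, Forms.qEnd_apply, pow_two]

theorem tor_E12 :
    suEquiv hF (e12 hF (tor hF μ hμ)) • (E 1 : Fin 3 → F) = μ • E 1 ∧
      suEquiv hF (e12 hF (tor hF μ hμ)) • (E 2 : Fin 3 → F) = (μ * μ) • E 2 := by
  obtain ⟨h0, h1⟩ := e12_diagA hF (x := tor hF μ hμ) rfl
  refine ⟨h0, h1.trans ?_⟩
  rw [show (tor hF μ hμ).1.1 0 0 = μ from rfl, Forms.qEnd_apply, pow_two]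

theorem su2_rel :
    tor hF μ hμ * tor hF μ hμ * tor hF μ hμ = 1 ∧
      wswap hF * tor hF μ hμ * wswap hF = (tor hF μ hμ)⁻¹ := by
  have hσ : Forms.qEnd hF μ = μ * μ := by rw [Forms.qEnd_apply, pow_two]
  constructor
  · refine su2_ext hF ?_ ?_ <;> simp only [Subgroup.coe_mul, Matrix.SpecialLinearGroup.coe_mul] <;>
      simp [tor, mk2, Matrix.mul_apply, Fin.sum_univ_two]
    linear_combination hμ
  · refine eq_inv_of_mul_eq_one_left ?_
    refine su2_ext hF ?_ ?_ <;> simp only [Subgroup.coe_mul, Matrix.SpecialLinearGroup.coe_mul] <;>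
      simp [tor, wswap, mk2, Matrix.mul_apply, Fin.sum_univ_two, hσ, neg_eq_self hF]
    linear_combination hμ

set_option maxHeartbeats 1000000 in
theorem su3_rel :
    e01 hF (wswap hF) * e12 hF (tor hF μ hμ) * e01 hF (wswap hF) = e01 hF (tor hF μ hμ) * e12 hF (tor hF μ hμ) ∧
      e12 hF (wswap hF) * e01 hF (tor hF μ hμ) * e12 hF (wswap hF) = e01 hF (tor hF μ hμ) * e12 hF (tor hF μ hμ) ∧
      e01 hF (tor hF μ hμ) * e12 hF (tor hF μ hμ) = e12 hF (tor hF μ hμ) * e01 hF (tor hF μ hμ) := by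
  obtain ⟨s0, s1⟩ := wswap_E01 hF
  obtain ⟨r1, r2⟩ := wswap_E12 hF
  obtain ⟨t0, t1⟩ := tor_E01 hF hμ
  obtain ⟨u1, u2⟩ := tor_E12 hF hμ
  have s2 : suEquiv hF (e01 hF (wswap hF)) • (E 2 : Fin 3 → F) = E 2 := embH_fix hF _ _ not_range_01
  have r0 : suEquiv hF (e12 hF (wswap hF)) • (E 0 : Fin 3 → F) = E 0 := embH_fix hF _ _ not_range_12
  have t2 : suEquiv hF (e01 hF (tor hF μ hμ)) • (E 2 : Fin 3 → F) = E 2 := embH_fix hF _ _ not_range_01
  have u0 : suEquiv hF (e12 hF (tor hF μ hμ)) • (E 0 : Fin 3 → F) = E 0 := embH_fix hF _ _ not_range_12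
  refine ⟨su_eq_of_E hF fun i => ?_, su_eq_of_E hF fun i => ?_, su_eq_of_E hF fun i => ?_⟩ <;>
    obtain rfl | rfl | rfl : i = 0 ∨ i = 1 ∨ i = 2 := (by decide : ∀ i : Fin 3, i = 0 ∨ i = 1 ∨ i = 2) i
  · rw [map_mul, map_mul, map_mul, mul_smul, mul_smul, mul_smul, s0, u1, su_scal, s1, u0, t0]
  · rw [map_mul, map_mul, map_mul, mul_smul, mul_smul, mul_smul, s1, u0, s0, u1, su_scal, t1, smul_smul]
    rw [show μ * (μ * μ) = 1 by linear_combination hμ, one_smul]
  · rw [map_mul, map_mul, map_mul, mul_smul, mul_smul, mul_smul, s2, u2, su_scal, s2, su_scal, t2]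
  · rw [map_mul, map_mul, map_mul, mul_smul, mul_smul, mul_smul, r0, t0, su_scal, r0, u0, t0]
  · rw [map_mul, map_mul, map_mul, mul_smul, mul_smul, mul_smul, r1, t2, r2, u1, su_scal, t1, smul_smul]
    rw [show μ * (μ * μ) = 1 by linear_combination hμ, one_smul]
  · rw [map_mul, map_mul, map_mul, mul_smul, mul_smul, mul_smul, r2, t1, su_scal, r1, u2, su_scal, t2]
  · rw [map_mul, map_mul, mul_smul, mul_smul, u0, t0, su_scal, u0]
  · rw [map_mul, map_mul, mul_smul, mul_smul, u1, su_scal, t1, su_scal, u1, smul_comm]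
  · rw [map_mul, map_mul, mul_smul, mul_smul, u2, su_scal, t2, u2]

include hμ in
theorem zeta_center :
    e01 hF (tor hF μ hμ) * e12 hF (tor hF μ hμ) * e12 hF (tor hF μ hμ) ∈ Subgroup.center (Cfsg.SU 3 F 2) := by
  obtain ⟨t0, t1⟩ := tor_E01 hF hμ
  obtain ⟨u1, u2⟩ := tor_E12 hF hμ
  have t2 : suEquiv hF (e01 hF (tor hF μ hμ)) • (E 2 : Fin 3 → F) = E 2 := embH_fix hF _ _ not_range_01
  have u0 : suEquiv hF (e12 hF (tor hF μ hμ)) • (E 0 : Fin 3 → F) = E 0 := embH_fix hF _ _ not_range_12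
  have hs := smul_scalar_of_E hF (a := μ)
    (z := suEquiv hF (e01 hF (tor hF μ hμ) * e12 hF (tor hF μ hμ) * e12 hF (tor hF μ hμ))) fun i => by
      obtain rfl | rfl | rfl : i = 0 ∨ i = 1 ∨ i = 2 := (by decide : ∀ i : Fin 3, i = 0 ∨ i = 1 ∨ i = 2) i
      · rw [map_mul, map_mul, mul_smul, mul_smul, u0, u0, t0]
      · rw [map_mul, map_mul, mul_smul, mul_smul, u1, su_scal, u1, su_scal, su_scal, t1, smul_smul, smul_smul]
        congr 1; linear_combination μ * hμ
      · rw [map_mul, map_mul, mul_smul, mul_smul, u2, su_scal, u2, su_scal, su_scal, t2, smul_smul]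
        congr 1; linear_combination μ * hμ
  refine Subgroup.mem_center_iff.2 fun y => (suEquiv hF (n := 3)).injective ?_
  rw [map_mul (suEquiv hF) y, map_mul (suEquiv hF) _ y]
  exact Subgroup.mem_center_iff.1 (central_of_scalar hF hs) _

end

variable {G : Type*} [Group G]

include hF in
theorem four_injective {f : Cfsg.SU 4 F 2 →* G} (hf : f.ker ≤ Subgroup.center (Cfsg.SU 4 F 2)) :
    Function.Injective f := by
  rw [injective_iff_map_eq_one]
  intro x hx
  obtain ⟨a, ha, h4, hax⟩ := central_scalar hF (by norm_num) (hf hx)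
  have h3 : a ^ 3 = 1 := (norm_two hF a).symm.trans ha
  have ha1 : a = 1 := by linear_combination h4 - a * h3
  exact central_fix hF (by norm_num) (hf hx) (v := (E 0 : Fin 4 → F)) (by simp) (by rw [hax, ha1, one_smul])

include hF in
/-- A parametrisation of a pair with trivially intersecting members is injective. -/
theorem std_injective_two {U U' V : Subgroup G} {φ : Cfsg.SU 3 F 2 →* G} (h : Std hF U U' V φ)
    (hi : ∀ y ∈ U, y ∈ U' → y = 1) : Function.Injective φ := by
  rw [injective_iff_map_eq_one]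
  intro z hz
  obtain ⟨a, -, ha, hax⟩ := central_scalar hF le_rfl (h.ker_le hz)
  obtain ⟨t0, t1⟩ := tor_E01 hF ha
  obtain ⟨u1, u2⟩ := tor_E12 hF ha
  set T1 := e01 hF (tor hF a ha)
  set T2 := e12 hF (tor hF a ha)
  have t2 : suEquiv hF T1 • (E 2 : Fin 3 → F) = E 2 := embH_fix hF _ _ not_range_01
  have u0 : suEquiv hF T2 • (E 0 : Fin 3 → F) = E 0 := embH_fix hF _ _ not_range_12
  have hz' : z = T1 * (T2 * T2) := su_eq_of_E hF fun i => by
    rw [hax, map_mul, map_mul, mul_smul, mul_smul]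
    obtain rfl | rfl | rfl : i = 0 ∨ i = 1 ∨ i = 2 := (by decide : ∀ i : Fin 3, i = 0 ∨ i = 1 ∨ i = 2) i
    · rw [u0, u0, t0]
    · rw [u1, su_scal, u1, su_scal, su_scal, t1, smul_smul, smul_smul]
      congr 1; linear_combination -a * ha
    · rw [u2, su_scal, u2, su_scal, su_scal, t2, smul_smul]
      congr 1; linear_combination -a * ha
  have e : φ T1 = 1 := by
    refine hi _ (h.mem_left _) ?_
    have e1 : φ T1 = φ (e12 hF (tor hF a ha * tor hF a ha))⁻¹ := by
      rw [hz', map_mul] at hz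
      rw [map_mul (e12 hF), map_inv]
      exact eq_inv_of_mul_eq_one_left hz
    rw [e1, ← map_inv]
    exact h.mem_right _
  have e' : tor hF a ha = 1 := h.inj01 (e.trans (map_one _).symm)
  have ha1 : a = 1 := congrArg (fun x : Cfsg.SU 2 F 2 => x.1.1 0 0) e'
  exact central_fix hF le_rfl (h.ker_le hz) (v := (E 0 : Fin 3 → F)) (by simp) (by rw [hax, ha1, one_smul])

include hF in
/-- The image of a pair lies in the stabiliser of a basis vector once its blocks do. -/
theorem pair_range_two {U U' V : Subgroup G} {φ : Cfsg.SU 3 F 2 →* G} (hφ : Std hF U U' V φ)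
    {f : Cfsg.SU 4 F 2 →* G} (hf : Function.Injective f) (hV : V ≤ f.range) {m : Fin 3 → Fin 4}
    (hm : Function.Injective m) {j : Fin 4} (hj : ∀ l, l ∉ Set.range m ↔ l = j) {Z : Cfsg.SU 4 F 2} {ν : F}
    (hν : ν ^ 3 = 1) (hν1 : ν ≠ 1) (hZj : suEquiv hF Z • (E j : Fin 4 → F) = E j)
    (hZ : ∀ l, l ≠ j → suEquiv hF Z • (E l : Fin 4 → F) = ν • E l) {z : Cfsg.SU 3 F 2}
    (hz : z ∈ Subgroup.center (Cfsg.SU 3 F 2)) (hfZ : f Z = φ z)
    (hU : U ≤ (f.comp (embS hF hm)).range) (hU' : U' ≤ (f.comp (embS hF hm)).range) :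
    V ≤ (f.comp (embS hF hm)).range := by
  set M := (f.comp (embS hF hm)).range
  suffices h : M.comap φ = ⊤ by
    intro y hy
    rw [← hφ.range_eq] at hy
    obtain ⟨x, rfl⟩ := hy
    exact (h ▸ Subgroup.mem_top x : x ∈ M.comap φ)
  refine top_of_blocks hF (sup_le ?_ ?_) fun x hx => ?_
  · rintro _ ⟨a, rfl⟩; exact hU (hφ.mem_left a)
  · rintro _ ⟨a, rfl⟩; exact hU' (hφ.mem_right a)
  obtain ⟨Y, hY⟩ : φ x ∈ f.range := hV (hφ.range_eq ▸ ⟨x, rfl⟩)
  have hYZ : Z * Y = Y * Z := hf (by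
    rw [map_mul, map_mul, hfZ, hY, ← map_mul, ← map_mul, Subgroup.mem_center_iff.1 hz x])
  set v := suEquiv hF Y • (E j : Fin 4 → F) with hv
  have hZv : suEquiv hF Z • v = v := by rw [hv, ← mul_smul, ← map_mul, hYZ, map_mul, mul_smul, hZj]
  have hzero : ∀ l, l ≠ j → v l = 0 := fun l hl => by
    have e := su_form (suEquiv hF Z) (E l : Fin 4 → F) v
    rw [hZ l hl, hZv, LinearMap.map_smulₛₗ, LinearMap.smul_apply, smul_eq_mul, hE_left] at e
    have hne : Forms.qEnd hF ν ≠ 1 := fun e' => hν1 (by rw [← Forms.qEnd_qEnd hF ν, e', map_one])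
    exact (mul_eq_zero.1 (show (Forms.qEnd hF ν - 1) * v l = 0 by linear_combination e)).resolve_left
      (sub_ne_zero.2 hne)
  set c := v j
  have hvc : v = c • E j := by
    funext l
    by_cases hl : l = j
    · subst hl; simp [c, E_apply]
    · rw [hzero l hl, Pi.smul_apply, E_apply, if_neg hl, smul_zero]
  have hc3 : c ^ 3 = 1 := by
    refine (norm_two hF c).symm.trans ?_
    have e : Forms.hermB hF 4 v v = 1 := by rw [hv, su_form, hE_E, if_pos rfl]
    rw [hvc, map_smulₛₗ, LinearMap.map_smulₛₗ, LinearMap.smul_apply, RingHom.id_apply, hE_E, if_pos rfl, smul_eq_mul,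
      smul_eq_mul, mul_one, mul_comm] at e
    exact e
  have hY4 : Y ^ 4 = 1 := hf (by rw [map_pow, hY, ← map_pow, hx, map_one, map_one])
  have hc4 : c ^ 4 = 1 := by
    have pw : ∀ i : ℕ, suEquiv hF (Y ^ i) • (E j : Fin 4 → F) = c ^ i • E j := by
      intro i
      induction i with
      | zero => rw [pow_zero, map_one, one_smul, pow_zero, one_smul]
      | succ i ih => rw [pow_succ, map_mul, mul_smul, ← hv, hvc, su_scal, ih, smul_smul, pow_succ']
    have e := congrFun (pw 4) j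
    rw [hY4, map_one, one_smul] at e
    simpa [E_apply] using e.symm
  have hc1 : c = 1 := by linear_combination hc4 - c * hc3
  obtain ⟨a, ha⟩ := (mem_range_embS hF hm Y).2 fun l hl => by rw [(hj l).1 hl, ← hv, hvc, hc1, one_smul]
  exact ⟨a, by rw [MonoidHom.comp_apply, ha]; exact hY⟩

set_option maxHeartbeats 1000000 in
include hF in
/-- The base case over the field with four elements. -/
theorem base_two {U U' U'' V V' : Subgroup G} {φ φ' : Cfsg.SU 3 F 2 →* G} (hφ : Std hF U U' V φ)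
    (hφ' : Std hF U' U'' V' φ') (hcompat : ∀ x, φ' (e01 hF x) = φ (e12 hF x)) (hc : ∀ a ∈ U, ∀ b ∈ U'', a * b = b * a)
    (g : Cfsg.SU 4 F 2 →* G) (hg : g.range = V ⊔ V') :
    ∃ f : Cfsg.SU 4 F 2 →* G, (∀ x, f (e012 hF x) = φ x) ∧ ∀ x, f (e123 hF x) = φ' x := by
  obtain ⟨μ, hμ, hμ1⟩ := exists_root_two hF
  set t := tor hF μ hμ
  set s := wswap (q := 2) hF
  obtain ⟨ht3, hst⟩ := su2_rel hF hμ
  obtain ⟨hst12, hts12, htt⟩ := su3_rel hF hμ
  have gi : Function.Injective g := by
    refine four_injective hF (ker_le_center hF (y := φ (e01 hF s)) ?_ ?_)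
    · rw [hg]; exact Subgroup.mem_sup_left (hφ.range_eq ▸ ⟨_, rfl⟩)
    · intro e
      have e1 := hφ.inj01 (show φ.comp (e01 hF) s = φ.comp (e01 hF) 1 by rw [map_one]; exact e)
      have e2 : (1 : F) = 0 := congrArg (fun x : Cfsg.SU 2 F 2 => x.1.1 0 1) e1
      exact one_ne_zero e2
  -- the three parametrised subgroups
  set ψ : Fin 3 → (Cfsg.SU 2 F 2 →* G) := ![φ.comp (e01 hF), φ.comp (e12 hF), φ'.comp (e12 hF)] with hψ
  have hψin : ∀ i x, ψ i x ∈ g.range := by
    intro i x
    rw [hg]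
    fin_cases i
    · exact Subgroup.mem_sup_left (hφ.range_eq ▸ ⟨_, rfl⟩)
    · exact Subgroup.mem_sup_left (hφ.range_eq ▸ ⟨_, rfl⟩)
    · exact Subgroup.mem_sup_right (hφ'.range_eq ▸ ⟨_, rfl⟩)
  choose L hL using hψin
  set Ti : Fin 3 → SUH (Forms.hermB hF 4) := fun i => suEquiv hF (L i t) with hTi
  set Si : Fin 3 → SUH (Forms.hermB hF 4) := fun i => suEquiv hF (L i s) with hSi
  have lift : ∀ {a b : Cfsg.SU 4 F 2}, g a = g b → suEquiv hF a = suEquiv hF b := fun e => by rw [gi e]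
  have h02 : ∀ x y, ψ 0 x * ψ 2 y = ψ 2 y * ψ 0 x := fun x y => hc _ (hφ.mem_left x) _ (hφ'.mem_right y)
  have h12' : ∀ x, ψ 1 x = φ' (e01 hF x) := fun x => (hcompat x).symm
  have hadd : ∀ i j : Fin 3, ((i : ℕ) + 1 = j ∨ (j : ℕ) + 1 = i) → ψ i s * ψ j t * ψ i s = ψ i t * ψ j t := by
    intro i j hij
    fin_cases i <;> fin_cases j <;> simp at hij
    · show φ (e01 hF s) * φ (e12 hF t) * φ (e01 hF s) = φ (e01 hF t) * φ (e12 hF t)
      rw [← map_mul, ← map_mul, ← map_mul, hst12]
    · show φ (e12 hF s) * φ (e01 hF t) * φ (e12 hF s) = φ (e12 hF t) * φ (e01 hF t)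
      rw [← map_mul, ← map_mul, ← map_mul, hts12, htt]
    · show ψ 1 s * φ' (e12 hF t) * ψ 1 s = ψ 1 t * φ' (e12 hF t)
      rw [h12', h12', ← map_mul, ← map_mul, ← map_mul, hst12]
    · show φ' (e12 hF s) * ψ 1 t * φ' (e12 hF s) = φ' (e12 hF t) * ψ 1 t
      rw [h12', ← map_mul, ← map_mul, ← map_mul, hts12, htt]
  have hD : TorData hF Ti Si :=
    { cube := fun i => by
        rw [← map_mul, ← map_mul, ← map_one (suEquiv hF (n := 4))]
        refine lift ?_
        rw [map_mul, map_mul, hL, ← map_mul, ← map_mul, ht3, map_one, map_one]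
      comm := fun i j => by
        rw [← map_mul, ← map_mul]
        refine lift ?_
        rw [map_mul, map_mul, hL, hL]
        fin_cases i <;> fin_cases j
        · rfl
        · show φ (e01 hF t) * φ (e12 hF t) = φ (e12 hF t) * φ (e01 hF t)
          rw [← map_mul, ← map_mul, htt]
        · exact h02 t t
        · show φ (e12 hF t) * φ (e01 hF t) = φ (e01 hF t) * φ (e12 hF t)
          rw [← map_mul, ← map_mul, htt]
        · rfl
        · show ψ 1 t * φ' (e12 hF t) = φ' (e12 hF t) * ψ 1 t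
          rw [h12', ← map_mul, ← map_mul, htt]
        · exact (h02 t t).symm
        · show φ' (e12 hF t) * ψ 1 t = ψ 1 t * φ' (e12 hF t)
          rw [h12', ← map_mul, ← map_mul, htt]
        · rfl
      invol := fun i => by
        rw [← map_mul, ← map_one (suEquiv hF (n := 4))]
        refine lift ?_
        rw [map_mul, hL, ← map_mul, wswap_sq hF, map_one, map_one]
      inv := fun i => by
        rw [← map_mul, ← map_mul, ← map_inv]
        refine lift ?_
        rw [map_mul, map_mul, map_inv, hL, hL, ← map_mul, ← map_mul, hst, map_inv]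
      add := fun i j hij => by
        rw [← map_mul, ← map_mul, ← map_mul]
        refine lift ?_
        rw [map_mul, map_mul, map_mul, hL, hL, hL]
        exact hadd i j hij
      out := fun i j hij => by
        rw [← map_mul, ← map_mul]
        refine lift ?_
        rw [map_mul, map_mul, hL, hL]
        have hcase : i = 0 ∧ j = 2 ∨ i = 2 ∧ j = 0 := by revert hij; revert i j; decide
        have hcm : ψ i s * ψ j t = ψ j t * ψ i s := by
          rcases hcase with ⟨rfl, rfl⟩ | ⟨rfl, rfl⟩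
          exacts [h02 s t, (h02 t s).symm]
        rw [hcm, mul_assoc, ← map_mul, wswap_sq hF, map_one, mul_one] }
  have hne : Ti 0 ≠ 1 := fun e => by
    have e1 : g (L 0 t) = 1 := by
      rw [(suEquiv hF (n := 4)).injective (e.trans (map_one _).symm), map_one]
    rw [hL] at e1
    have e2 : t = 1 := hφ.inj01 (e1.trans (map_one _).symm)
    exact hμ1 (congrArg (fun x : Cfsg.SU 2 F 2 => x.1.1 0 0) e2)
  obtain ⟨k, ν, hν, hν1, hout, hin⟩ := exists_adapted hD hμ hμ1 hne
  obtain ⟨K, rfl⟩ := (suEquiv hF (n := 4)).surjective k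
  set f := g.comp (MulAut.conj K⁻¹).toMonoidHom with hf
  have fi : Function.Injective f := gi.comp (MulAut.conj K⁻¹).injective
  set L' : Fin 3 → Cfsg.SU 2 F 2 → Cfsg.SU 4 F 2 := fun i x => K * L i x * K⁻¹ with hL'
  have hfL : ∀ i x, f (L' i x) = ψ i x := fun i x => by
    rw [← hL]
    show g (K⁻¹ * (K * L i x * K⁻¹) * K⁻¹⁻¹) = g (L i x)
    congr 1
    group
  have hse : ∀ i x, suEquiv hF (L' i x) = suEquiv hF K * suEquiv hF (L i x) * (suEquiv hF K)⁻¹ := fun i x => by
    rw [map_mul, map_mul, map_inv]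
  have hinr : ∀ (i : Fin 3) (a b : Fin 4) (hab : a ≠ b), a = i.castSucc → b = i.succ →
      (ψ i).range ≤ (f.comp (pair4 hF a b hab)).range := by
    intro i a b hab ha hb
    have mem : ∀ x, (x = t ∨ x = s) → ψ i x ∈ (f.comp (pair4 hF a b hab)).range := by
      intro x hx
      obtain ⟨y, hy⟩ := (mem_range_pair4 hF hab (L' i x)).2 fun l h1 h2 => by
        obtain ⟨e1, e2⟩ := hout i l (fun e => h1 (e.trans ha.symm)) fun e => h2 (e.trans hb.symm)
        rw [hse]
        rcases hx with rfl | rfl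
        exacts [e1, e2]
      exact ⟨y, by rw [MonoidHom.comp_apply, hy, hfL]⟩
    exact su2_map_two hF hμ hμ1 (mem t (Or.inl rfl)) (mem s (Or.inr rfl))
  have p01 : (f.comp (pair4 hF 0 1 (by decide))).range = U := by
    refine eq_range_of_le hφ.inj01 hφ.r01 ?_
    rw [← hφ.r01]
    exact hinr 0 0 1 _ rfl rfl
  have p12 : (f.comp (pair4 hF 1 2 (by decide))).range = U' := by
    refine eq_range_of_le hφ.inj12 hφ.r12 ?_
    rw [← hφ.r12]
    exact hinr 1 1 2 _ rfl rfl
  have p23 : (f.comp (pair4 hF 2 3 (by decide))).range = U'' := by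
    refine eq_range_of_le hφ'.inj12 hφ'.r12 ?_
    rw [← hφ'.r12]
    exact hinr 2 2 3 _ rfl rfl
  -- the members of each pair meet trivially
  have disj : ∀ (a b c : Fin 4) (hab : a ≠ b) (hbc : b ≠ c), a ≠ c → ∀ y ∈ (f.comp (pair4 hF a b hab)).range,
      y ∈ (f.comp (pair4 hF b c hbc)).range → y = 1 := by
    rintro a b c hab hbc hac _ ⟨x, rfl⟩ ⟨x', hx'⟩
    have e : pair4 hF a b hab x = pair4 hF b c hbc x' := fi hx'.symm
    have h0 : suEquiv hF (pair4 hF a b hab x) • (E a : Fin 4 → F) = E a := by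
      rw [e]; exact pair4_fix hF hbc x' hab hac
    rw [pair4_col hF] at h0
    have h00 := congrFun h0 a
    have h10 := congrFun h0 b
    simp [E_apply, hab, Ne.symm hab] at h00 h10
    obtain ⟨-, x2, -⟩ := su2_shape hF x
    have hx1 : x = 1 := su2_ext hF h00 (by
      rw [h10] at x2
      have := congrArg (Forms.qEnd hF) x2
      rw [map_zero, map_neg, Forms.qEnd_qEnd, eq_comm, neg_eq_zero] at this
      exact this.trans (by simp))
    rw [hx1, map_one]
  have iφ := std_injective_two hF hφ fun y h1 h2 =>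
    disj 0 1 2 (by decide) (by decide) (by decide) y (p01.symm ▸ h1) (p12.symm ▸ h2)
  have iφ' := std_injective_two hF hφ' fun y h1 h2 =>
    disj 1 2 3 (by decide) (by decide) (by decide) y (p12.symm ▸ h1) (p23.symm ▸ h2)
  have fr : f.range = V ⊔ V' := (range_comp_conj g K⁻¹).trans hg
  have i012 : Function.Injective (f.comp (e012 hF)) :=
    fi.comp fun a b e => embH_injective hF (Fin.castSucc_injective 3) (congrArg (suEquiv hF) e)
  have i123 : Function.Injective (f.comp (e123 hF)) :=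
    fi.comp fun a b e => embH_injective hF (Fin.succ_injective 3) (congrArg (suEquiv hF) e)
  have b1a : ((f.comp (e012 hF)).comp (e01 hF)).range = U := by
    rw [← p01]; congr 1; exact MonoidHom.ext fun x => congrArg f (e012_e01 hF x)
  have b1b : ((f.comp (e012 hF)).comp (e12 hF)).range = U' := by
    rw [← p12]; congr 1; exact MonoidHom.ext fun x => congrArg f (e012_e12' hF x)
  have b2a : ((f.comp (e123 hF)).comp (e01 hF)).range = U' := by
    rw [← p12]; congr 1; exact MonoidHom.ext fun x => congrArg f (e123_e01 hF x)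
  have b2b : ((f.comp (e123 hF)).comp (e12 hF)).range = U'' := by
    rw [← p23]; congr 1; exact MonoidHom.ext fun x => congrArg f (e123_e12 hF x)
  have hTE : ∀ (i : Fin 3) (l : Fin 4),
      suEquiv hF (L' i t) • (E l : Fin 4 → F) =
        (if l = i.castSucc then ν else if l = i.succ then ν * ν else 1) • E l := by
    intro i l
    rw [hse]
    split_ifs with h1 h2
    · subst h1; exact (hin i).1
    · subst h2; exact (hin i).2
    · rw [one_smul]; exact (hout i l h1 h2).1
  have hZ : ∀ (i j : Fin 3) (l : Fin 4),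
      suEquiv hF (L' i t * L' j t * L' j t) • (E l : Fin 4 → F) =
        ((if l = i.castSucc then ν else if l = i.succ then ν * ν else 1) *
          ((if l = j.castSucc then ν else if l = j.succ then ν * ν else 1) *
            (if l = j.castSucc then ν else if l = j.succ then ν * ν else 1))) • E l := by
    intro i j l
    rw [map_mul, map_mul, mul_smul, mul_smul, hTE, su_scal, hTE, su_scal, su_scal, hTE, smul_smul, smul_smul]
    congr 1
    ring
  have hcard : ∀ {m : Fin 3 → Fin 4} (hm : Function.Injective m) {φ0 : Cfsg.SU 3 F 2 →* G} {V0 : Subgroup G},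
      Function.Injective φ0 → φ0.range = V0 → V0 ≤ (f.comp (embS hF hm)).range →
      (f.comp (embS hF hm)).range = V0 := by
    intro m hm φ0 V0 h0 hr hle
    haveI : Finite (f.comp (embS hF hm)).range :=
      Finite.of_surjective _ (f.comp (embS hF hm)).rangeRestrict_surjective
    refine (Subgroup.eq_of_le_of_card_ge hle ?_).symm
    rw [← hr]
    calc Nat.card (f.comp (embS hF hm)).range ≤ Nat.card (Cfsg.SU 3 F 2) :=
          Nat.card_le_card_of_surjective _ (f.comp (embS hF hm)).rangeRestrict_surjective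
      _ = Nat.card φ0.range := Nat.card_congr (MonoidHom.ofInjective h0).toEquiv
  have hV1 : (f.comp (e012 hF)).range = V := by
    refine hcard (Fin.castSucc_injective 3) iφ hφ.range_eq ?_
    refine pair_range_two hF hφ fi (fr ▸ le_sup_left) (j := 3) (Fin.castSucc_injective 3) ?_ hν hν1
      (Z := L' 0 t * L' 1 t * L' 1 t) ?_ ?_ (zeta_center hF hμ) ?_ ?_ ?_
    · intro l; fin_cases l <;> simp [Fin.ext_iff, Fin.exists_fin_succ]
    · rw [hZ]; simp [Fin.ext_iff]
    · intro l hl
      rw [hZ]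
      congr 1
      fin_cases l <;> simp [Fin.ext_iff] at hl ⊢
      · linear_combination ν * hν
      · linear_combination ν * hν
    · rw [map_mul, map_mul, hfL, hfL, map_mul, map_mul]; rfl
    · rw [← b1a, MonoidHom.range_comp]; exact Subgroup.map_le_range _ _
    · rw [← b1b, MonoidHom.range_comp]; exact Subgroup.map_le_range _ _
  have hV2 : (f.comp (e123 hF)).range = V' := by
    refine hcard (Fin.succ_injective 3) iφ' hφ'.range_eq ?_
    refine pair_range_two hF hφ' fi (fr ▸ le_sup_right) (j := 0) (Fin.succ_injective 3) ?_ hν hν1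
      (Z := L' 1 t * L' 2 t * L' 2 t) ?_ ?_ (zeta_center hF hμ) ?_ ?_ ?_
    · intro l; fin_cases l <;> simp [Fin.ext_iff, Fin.exists_fin_succ]
    · rw [hZ]; simp [Fin.ext_iff]
    · intro l hl
      rw [hZ]
      congr 1
      fin_cases l <;> simp [Fin.ext_iff] at hl ⊢
      · linear_combination ν * hν
      · linear_combination ν * hν
    · rw [map_mul, map_mul, hfL, hfL, h12', map_mul, map_mul]; rfl
    · rw [← b2a, MonoidHom.range_comp]; exact Subgroup.map_le_range _ _
    · rw [← b2b, MonoidHom.range_comp]; exact Subgroup.map_le_range _ _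
  refine fit_four hF (fix_prime_two hF) (tight_two hF) hφ hφ' iφ iφ' hcompat f
    ⟨?_, hV1, b1a, b1b⟩ ⟨?_, hV2, b2a, b2b⟩ i012 i123
  · rw [(MonoidHom.ker_eq_bot_iff _).2 i012]; exact bot_le
  · rw [(MonoidHom.ker_eq_bot_iff _).2 i123]; exact bot_le

end Cfsg.Agent.PhanAmalgam
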